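import Cfsg.Agent.Lib.Linear.SLCommutator.Family

/-!
# Scalars of determinant one

A scalar `λ` of exact order `n` in dimension `n`: the root of `X^n - e` and the automorphism multiplying
it by `λ`, corrected by a norm.
-/

set_option autoImplicit false
set_option linter.unusedSectionVars false

universe u

namespace Cfsg.Lib.Linear.SLComm

open Polynomial Module

variable {F : Type u} [Field F]

theorem rt_aeval (f P : F[X]) : aeval (rt f) P = LinearMap.mulLeft F (AdjoinRoot.mk f P) := by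
  show aeval (Algebra.lmul F (AdjoinRoot f) (AdjoinRoot.root f)) P = _
  rw [Polynomial.aeval_algHom_apply, AdjoinRoot.aeval_eq]
  rfl

theorem sim_aeval {V W : Type*} [AddCommGroup V] [Module F V] [AddCommGroup W] [Module F W] {f : V →ₗ[F] V}
    {g : W →ₗ[F] W} (h : Sim f g) (P : F[X]) : Sim (aeval f P) (aeval g P) := by
  obtain ⟨E, hE⟩ := h
  refine ⟨E, fun v => ?_⟩
  induction P using Polynomial.induction_on generalizing v with
  | C a => simp [Polynomial.aeval_C]
  | add p r hp hr => rw [map_add, map_add, LinearMap.add_apply, LinearMap.add_apply, map_add, hp, hr]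
  | monomial k a hk =>
    rw [pow_succ, ← mul_assoc, map_mul _ (C a * X ^ k) X, map_mul _ (C a * X ^ k) X, aeval_X, aeval_X,
      Module.End.mul_apply, Module.End.mul_apply, hk, hE]

/-- Every determinant is reached by a multiplication when the polynomial is separable. -/
theorem exists_mulLeft_det [Fintype F] {f : F[X]} (hf : f.Monic) (hdeg : 1 ≤ f.natDegree) (hsep : f.Separable)
    (c : F) : ∃ u : AdjoinRoot f, LinearMap.det (LinearMap.mulLeft F u) = c := by
  classical
  obtain ⟨p, hpm, hpi, hpd⟩ := Polynomial.exists_monic_irreducible_factor f (fun hu => by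
    have := natDegree_eq_zero_of_isUnit hu
    omega)
  obtain ⟨g, rfl⟩ := hpd
  have hgm : g.Monic := hpm.of_mul_monic_left hf
  have hcop : IsCoprime p g := hsep.isCoprime
  haveI : Fact (Irreducible p) := ⟨hpi⟩
  haveI := hpm.finite_adjoinRoot
  haveI := hgm.finite_adjoinRoot
  haveI : Finite (AdjoinRoot p) := Module.finite_of_finite F
  obtain ⟨z, hz⟩ := FiniteField.norm_surjective F (AdjoinRoot p) c
  obtain ⟨Z, rfl⟩ := AdjoinRoot.mk_surjective z
  obtain ⟨a, b, hab⟩ := hcop
  have h := (sim_aeval (rt_mul hpm hgm ⟨a, b, hab⟩) (Z * (b * g) + a * p)).det_eq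
  have hprod : aeval ((rt p).prodMap (rt g)) (Z * (b * g) + a * p) =
      (aeval (rt p) (Z * (b * g) + a * p)).prodMap (aeval (rt g) (Z * (b * g) + a * p)) := by
    exact (Polynomial.aeval_algHom_apply (LinearMap.prodMapAlgHom F (AdjoinRoot p) (AdjoinRoot g)) (rt p, rt g) _).trans
      (congrArg _ (Polynomial.aeval_prod_apply _ _))
  refine ⟨AdjoinRoot.mk (p * g) (Z * (b * g) + a * p), ?_⟩
  rw [← rt_aeval, h, hprod, LinearMap.det_prodMap, rt_aeval, rt_aeval]
  have h1 : AdjoinRoot.mk p (Z * (b * g) + a * p) = AdjoinRoot.mk p Z := by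
    rw [show b * g = 1 - a * p by linear_combination hab, AdjoinRoot.mk_eq_mk]
    exact ⟨a * (1 - Z), by ring⟩
  have h2 : AdjoinRoot.mk g (Z * (b * g) + a * p) = 1 := by
    rw [show a * p = 1 - b * g by linear_combination hab, ← map_one (AdjoinRoot.mk g), AdjoinRoot.mk_eq_mk]
    exact ⟨b * (Z - 1), by ring⟩
  rw [h1, h2, LinearMap.mulLeft_one, LinearMap.det_id, mul_one, ← hz, Algebra.norm_apply]
  rfl

/-- Scalars of exact order. -/
theorem gm_scalar [Fintype F] {lam : F} {n : ℕ} (hn : 1 ≤ n) (hl : lam ^ n = 1)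
    (hmin : ∀ j, 1 ≤ j → j < n → lam ^ j ≠ 1) : GM (Multiset.replicate n (X - C lam)) := by
  classical
  have hl0 : lam ≠ 0 := fun h => by
    rw [h, zero_pow (by omega)] at hl
    exact zero_ne_one hl
  have hord : orderOf lam = n := (orderOf_eq_iff hn).2 ⟨hl, fun j hj hj0 => hmin j hj0 hj⟩
  have hdvd : n ∣ Fintype.card F - 1 := by
    rw [← hord]
    exact orderOf_dvd_of_pow_eq_one (FiniteField.pow_card_sub_one_eq_one lam hl0)
  have hnF : (n : F) ≠ 0 := by
    intro h0
    obtain ⟨k, hk⟩ := hdvd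
    have h1 : ((Fintype.card F - 1 : ℕ) : F) = 0 := by rw [hk, Nat.cast_mul, h0, zero_mul]
    rw [Nat.cast_sub Fintype.card_pos, FiniteField.cast_card_eq_zero, Nat.cast_one, zero_sub, neg_eq_zero] at h1
    exact one_ne_zero h1
  obtain ⟨f, hfd⟩ : ∃ f, f = X ^ n - C ((-1 : F) ^ (n - 1)) := ⟨_, rfl⟩
  have hf : f.Monic := by rw [hfd]; exact monic_X_pow_sub_C _ (by omega)
  have hdeg : f.natDegree = n := by rw [hfd, natDegree_X_pow_sub_C]
  haveI := hf.finite_adjoinRoot
  have hroot : AdjoinRoot.root f ^ n = algebraMap F (AdjoinRoot f) ((-1) ^ (n - 1)) := by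
    have h := AdjoinRoot.eval₂_root f
    conv at h => lhs; arg 3; rw [hfd]
    rw [eval₂_sub, eval₂_X_pow, eval₂_C, sub_eq_zero] at h
    exact h
  let g : AdjoinRoot f →ₐ[F] AdjoinRoot f := AdjoinRoot.liftAlgHom f (Algebra.ofId _ _) (lam • AdjoinRoot.root f) (by
    conv_lhs => arg 3; rw [hfd]
    rw [eval₂_sub, eval₂_X_pow, eval₂_C, _root_.smul_pow, hl, one_smul, hroot, sub_eq_zero]
    rfl)
  have hg : ∀ v, g (AdjoinRoot.root f * v) = lam • (AdjoinRoot.root f * g v) := fun v => by
    rw [map_mul]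
    simp [g]
  have hinj : Function.Surjective g.toLinearMap := by
    rw [← LinearMap.range_eq_top, eq_top_iff]
    rintro v -
    obtain ⟨P, rfl⟩ := AdjoinRoot.mk_surjective v
    refine ⟨AdjoinRoot.mk f (P.comp (C lam⁻¹ * X)), ?_⟩
    show g (AdjoinRoot.mk f (P.comp (C lam⁻¹ * X))) = AdjoinRoot.mk f P
    rw [← AdjoinRoot.aeval_eq, ← Polynomial.aeval_algHom_apply, aeval_comp, map_mul, aeval_C, aeval_X,
      show g (AdjoinRoot.root f) = lam • AdjoinRoot.root f by simp [g], ← Algebra.smul_def, smul_smul,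
      inv_mul_cancel₀ hl0, one_smul, AdjoinRoot.aeval_eq]
  let G : AdjoinRoot f ≃ₗ[F] AdjoinRoot f := LinearEquiv.ofBijective g.toLinearMap
    ⟨(LinearMap.injective_iff_surjective).2 hinj, hinj⟩
  have hsep : f.Separable := by
    rw [hfd]; exact separable_X_pow_sub_C _ hnF (pow_ne_zero _ (neg_ne_zero.2 one_ne_zero))
  have hGdet : LinearMap.det (G : AdjoinRoot f →ₗ[F] AdjoinRoot f) ≠ 0 := (LinearEquiv.isUnit_det' G).ne_zero
  obtain ⟨u, hu⟩ := exists_mulLeft_det hf (by omega) hsep (LinearMap.det (G : AdjoinRoot f →ₗ[F] AdjoinRoot f))⁻¹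
  have huu : IsUnit (LinearMap.det (LinearMap.mulLeft F u)) := by
    rw [hu]; exact isUnit_iff_ne_zero.2 (inv_ne_zero hGdet)
  let U : AdjoinRoot f ≃ₗ[F] AdjoinRoot f := LinearEquiv.ofBijective (LinearMap.mulLeft F u) (by
    obtain ⟨E, hE⟩ : IsUnit (LinearMap.mulLeft F u : Module.End F (AdjoinRoot f)) :=
      (LinearMap.isUnit_iff_isUnit_det _).2 huu
    rw [← hE]
    exact (LinearMap.GeneralLinearGroup.generalLinearEquiv F _ E).bijective)
  have hdetR : LinearMap.det (rt f) = 1 := by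
    rw [rt_det hf, dv, hdeg, hfd, coeff_sub, coeff_X_pow, if_neg (by omega), coeff_C_zero, zero_sub, mul_neg,
      ← pow_add, show n + (n - 1) = 2 * (n - 1) + 1 by omega, pow_succ, pow_mul, neg_one_sq, one_pow, one_mul, neg_neg]
  let B : AdjoinRoot f ≃ₗ[F] AdjoinRoot f := LinearEquiv.ofBijective (rt f) (by
    obtain ⟨E, hE⟩ : IsUnit (rt f : Module.End F (AdjoinRoot f)) :=
      (LinearMap.isUnit_iff_isUnit_det _).2 (by rw [hdetR]; exact isUnit_one)
    rw [← hE]
    exact (LinearMap.GeneralLinearGroup.generalLinearEquiv F _ E).bijective)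
  have hgood : Good (lam • LinearMap.id : AdjoinRoot f →ₗ[F] AdjoinRoot f) := by
    refine ⟨U.trans G, B, ?_, hdetR, fun v => ?_⟩
    · show LinearMap.det (((G : AdjoinRoot f →ₗ[F] AdjoinRoot f)) ∘ₗ LinearMap.mulLeft F u) = 1
      rw [LinearMap.det_comp, hu, mul_inv_cancel₀ hGdet]
    · show lam • (AdjoinRoot.root f * g (u * v)) = g (u * (AdjoinRoot.root f * v))
      rw [← hg, mul_left_comm]
  haveI : Module.Finite F (AdjoinRoot (X - C lam)) := (monic_X_sub_C lam).finite_adjoinRoot
  have hr : finrank F (AdjoinRoot f) = finrank F (∀ _ : Fin n, AdjoinRoot (X - C lam)) := by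
    rw [Module.finrank_pi_fintype, (AdjoinRoot.powerBasis' hf).finrank,
      (AdjoinRoot.powerBasis' (monic_X_sub_C lam)).finrank]
    show f.natDegree = ∑ _ : Fin n, (X - C lam).natDegree
    rw [hdeg, natDegree_X_sub_C, Finset.sum_const, Finset.card_univ, Fintype.card_fin, smul_eq_mul, mul_one]
  have hlin : AdjoinRoot.root (X - C lam) = algebraMap F (AdjoinRoot (X - C lam)) lam := by
    rw [AdjoinRoot.algebraMap_eq, ← AdjoinRoot.mk_X, ← AdjoinRoot.mk_C, AdjoinRoot.mk_eq_mk]
  have hs : Sim (lam • LinearMap.id : AdjoinRoot f →ₗ[F] AdjoinRoot f) (opFam fun _ : Fin n => X - C lam) :=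
    ⟨LinearEquiv.ofFinrankEq _ _ hr, fun v => funext fun i => by
      rw [opFam_apply, hlin, ← Algebra.smul_def]
      simp⟩
  have h := gm_of_good (fun _ : Fin n => X - C lam) (hgood.of_sim hs)
  rwa [Multiset.map_const', Finset.card_val, Finset.card_univ, Fintype.card_fin] at h

end Cfsg.Lib.Linear.SLComm
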