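import Cfsg.Agent.Lib.Linear.SLCommutator.Block

/-!
# Blocks of degree at least four

Two bidiagonal factors with one extra entry each: for any prescribed extra eigenvalues `x`, `y` the
product is cyclic and the two extra eigenvalues split off.
-/

set_option autoImplicit false
set_option linter.unusedSectionVars false

universe u

namespace Cfsg.Lib.Linear.SLComm

open Polynomial Module
open scoped Matrix

variable {F : Type u} [Field F] {m : ℕ}

/-- The position of an index. -/
def pos : Fin m ⊕ Unit → ℕ := Sum.elim (fun i => (i : ℕ)) fun _ => m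

/-- The index at a position. -/
def pre (m j : ℕ) : Fin m ⊕ Unit := if h : j < m then Sum.inl ⟨j, h⟩ else Sum.inr ()

theorem pos_pre {j : ℕ} (hj : j ≤ m) : pos (pre m j) = j := by
  unfold pre
  split_ifs with h
  · rfl
  · show m = j; omega

theorem pre_pos (a : Fin m ⊕ Unit) : pre m (pos a) = a := by
  rcases a with i | ⟨⟩
  · simp [pre, pos]
  · simp [pre, pos]

theorem pos_le (a : Fin m ⊕ Unit) : pos a ≤ m := by
  rcases a with i | ⟨⟩
  · exact le_of_lt i.2
  · exact le_rfl

/-- The unit vector at a position. -/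
def es (F : Type u) [Field F] (m j : ℕ) : Fin m ⊕ Unit → F := fun a => if pos a = j then 1 else 0

/-- The unit vector on `Fin m`. -/
def eF (F : Type u) [Field F] (m j : ℕ) : Fin m → F := fun i => if (i : ℕ) = j then 1 else 0

theorem es_last : es F m m = eLast F m := by
  funext a
  rcases a with i | ⟨⟩
  · simp [es, eLast, pos, i.2.ne]
  · simp [es, eLast, pos]

theorem mulVec_es (g : ℕ → ℕ → F) {j : ℕ} (hj : j ≤ m) :
    (Matrix.of fun a b : Fin m ⊕ Unit => g (pos a) (pos b)) *ᵥ es F m j = fun a => g (pos a) j := by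
  funext a
  rw [Matrix.mulVec, dotProduct, Finset.sum_eq_single (pre m j) (fun b _ hb => ?_) (by simp)]
  · simp [es, pos_pre hj]
  · have : pos b ≠ j := fun h => hb (by rw [← h, pre_pos])
    simp [es, this]

theorem mulVec_eF (g : ℕ → ℕ → F) {j : ℕ} (hj : j < m) :
    (Matrix.of fun a b : Fin m => g a b) *ᵥ eF F m j = fun a : Fin m => g (a : ℕ) j := by
  funext a
  rw [Matrix.mulVec, dotProduct, Finset.sum_eq_single (⟨j, hj⟩ : Fin m) (fun b _ hb => ?_) (by simp)]
  · simp [eF]
  · have : (b : ℕ) ≠ j := fun h => hb (Fin.ext h)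
    simp [eF, this]

variable (m) (y t s K : F) (β : ℕ → F)

/-- The entries of the lower factor. -/
def sS (i j : ℕ) : F :=
  if i = j then (β (i + 1))⁻¹ else if j = 0 then (if i = 1 then t else if i = 2 then K else 0)
  else if i = j + 1 then (if j = 1 then s else 1) else 0

/-- The entries of the lower factor on all positions. -/
def pp (i j : ℕ) : F := if j = m then (if i = m then 1 else 0) else if i = m then 0 else sS t s K β i j

/-- The entries of the upper factor. -/
def qq (i j : ℕ) : F :=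
  if i = j then (if j = 0 then y else β j) else if j = 2 ∧ i ≤ 1 then 1 else if 3 ≤ j ∧ i + 1 = j then 1 else 0

/-- The upper factor. -/
def qM : Matrix (Fin m ⊕ Unit) (Fin m ⊕ Unit) F := Matrix.of fun a b => qq y β (pos a) (pos b)

/-- The lower factor. -/
def sM : Matrix (Fin m) (Fin m) F := Matrix.of fun i j => sS t s K β (i : ℕ) j

/-- The common segment. -/
def segM : Matrix (Fin m) (Fin m) F :=
  Matrix.of fun i j => if (i : ℕ) = j then β ((i : ℕ) + 1) else if (j : ℕ) = (i : ℕ) + 1 then 1 else 0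

variable {m y t s K β}

theorem lowP_sM : lowP (sM m t s K β) 0 1 = Matrix.of fun a b => pp m t s K β (pos a) (pos b) := by
  ext (i | i) (j | j)
  · simp [lowP, sM, pp, pos, i.2.ne, j.2.ne]
  · simp [lowP, pp, pos, i.2.ne]
  · simp [lowP, pp, pos, j.2.ne]
  · simp [lowP, pp, pos]

theorem sM_det : (sM m t s K β).det = ∏ i : Fin m, (β ((i : ℕ) + 1))⁻¹ := by
  rw [Matrix.det_of_lowerTriangular (sM m t s K β) fun i j hij => ?_]
  · simp [sM, sS]
  · have h : (i : ℕ) < j := hij
    simp only [sM, sS, Matrix.of_apply]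
    rw [if_neg (by omega), if_neg (by omega), if_neg (by omega)]

theorem segM_upper : (segM m β : Matrix (Fin m) (Fin m) F).BlockTriangular id := fun i j hij => by
  have h : (j : ℕ) < i := hij
  simp only [segM, Matrix.of_apply]
  rw [if_neg (by omega), if_neg (by omega)]

theorem segM_det : (segM m β : Matrix (Fin m) (Fin m) F).det = ∏ i : Fin m, β ((i : ℕ) + 1) := by
  rw [Matrix.det_of_upperTriangular segM_upper]
  simp [segM]

theorem sim_transpose {n : ℕ} {A B : Matrix (Fin n) (Fin n) F} (h : Sim (Matrix.toLin' A) (Matrix.toLin' B)) :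
    Sim (Matrix.toLin' Bᵀ) (Matrix.toLin' Aᵀ) := by
  obtain ⟨P, hP⟩ := h
  let Pm := LinearMap.toMatrix' (P : (Fin n → F) →ₗ[F] (Fin n → F))
  let Pi' := LinearMap.toMatrix' (P.symm : (Fin n → F) →ₗ[F] (Fin n → F))
  have h1 : Pm * A = B * Pm := by
    apply Matrix.toLin'.injective
    rw [Matrix.toLin'_mul, Matrix.toLin'_mul, Matrix.toLin'_toMatrix']
    exact LinearMap.ext hP
  have h2 : Pi' * Pm = 1 := by
    rw [← LinearMap.toMatrix'_comp, LinearEquiv.symm_comp, LinearMap.toMatrix'_id]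
  have h3 : Pm * Pi' = 1 := mul_eq_one_comm.1 h2
  refine ⟨LinearEquiv.ofLinear (Matrix.toLin' Pmᵀ) (Matrix.toLin' Pi'ᵀ) ?_ ?_, fun v => ?_⟩
  · rw [← Matrix.toLin'_mul, ← Matrix.transpose_mul, h2, Matrix.transpose_one, Matrix.toLin'_one]
  · rw [← Matrix.toLin'_mul, ← Matrix.transpose_mul, h3, Matrix.transpose_one, Matrix.toLin'_one]
  · show Pmᵀ *ᵥ (Bᵀ *ᵥ v) = Aᵀ *ᵥ (Pmᵀ *ᵥ v)
    rw [Matrix.mulVec_mulVec, Matrix.mulVec_mulVec, ← Matrix.transpose_mul, ← Matrix.transpose_mul, h1]

/-- A cyclic upper factor. -/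
theorem segT_cyc (hm : 1 ≤ m) : Cyc (segM m β : Matrix (Fin m) (Fin m) F)ᵀ (eF F m 0) := by
  rw [cyc_iff]
  intro W h0 hW
  have hall : ∀ j, j < m → eF F m j ∈ W := by
    intro j
    induction j using Nat.strong_induction_on with
    | _ j ih =>
      intro hj
      rcases j with _ | j
      · exact h0
      · have h1 := hW _ (ih j (by omega) (by omega))
        have h2 : (segM m β : Matrix (Fin m) (Fin m) F)ᵀ *ᵥ eF F m j = β (j + 1) • eF F m j + eF F m (j + 1) := by
          rw [show (segM m β : Matrix (Fin m) (Fin m) F)ᵀ = Matrix.of fun a b : Fin m =>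
            (fun p r : ℕ => if r = p then β (r + 1) else if p = r + 1 then (1 : F) else 0) a b from rfl,
            mulVec_eF (fun p r : ℕ => if r = p then β (r + 1) else if p = r + 1 then (1 : F) else 0) (by omega)]
          funext a
          obtain ⟨pa, hpa⟩ : ∃ pa, (a : ℕ) = pa := ⟨_, rfl⟩
          simp only [eF, Pi.add_apply, Pi.smul_apply, smul_eq_mul, mul_ite, mul_one, mul_zero]
          split_ifs <;> first | omega | (simp; done) | (subst_vars; simp_all; done) | (exfalso; simp_all; omega) | (simp only [hpa] at *; subst_vars; simp_all; done)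
        rw [h2] at h1
        exact (Submodule.add_mem_iff_right _ (W.smul_mem _ (ih j (by omega) (by omega)))).1 h1
  rw [eq_top_iff]
  intro v _
  rw [pi_eq_sum_univ' v]
  refine sum_mem fun i _ => W.smul_mem _ ?_
  have h : eF F m i = Pi.single i 1 := by funext a; simp [eF, Pi.single_apply, Fin.val_inj]
  rw [← h]
  exact hall _ i.2

theorem sMT_mulVec {j : ℕ} (hj : j < m) : (sM m t s K β)ᵀ *ᵥ eF F m j = fun a : Fin m => sS t s K β j a := by
  rw [show (sM m t s K β)ᵀ = Matrix.of fun a b : Fin m => (fun p r : ℕ => sS t s K β r p) a b from rfl, mulVec_eF (fun p r : ℕ => sS t s K β r p) hj]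

/-- The lower factor is cyclic. -/
theorem sMT_cyc (hm : 3 ≤ m) (hs : s ≠ 0) (hc : t * s + K * ((β 1)⁻¹ - (β 2)⁻¹) ≠ 0) :
    Cyc (sM m t s K β)ᵀ (eF F m (m - 1)) := by
  rw [cyc_iff]
  intro W h0 hW
  have hdown : ∀ d, d + 3 ≤ m → eF F m (m - 1 - d) ∈ W := by
    intro d
    induction d with
    | zero => intro _; exact h0
    | succ d ih =>
      intro hd
      obtain ⟨j, hj⟩ : ∃ j, j = m - 1 - (d + 1) := ⟨_, rfl⟩
      have h1 := ih (by omega)
      rw [show m - 1 - d = j + 1 by omega] at h1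
      have h2 := hW _ h1
      have h3 : (sM m t s K β)ᵀ *ᵥ eF F m (j + 1) = (β (j + 1 + 1))⁻¹ • eF F m (j + 1) + eF F m j := by
        rw [sMT_mulVec (by omega)]
        funext a
        obtain ⟨pa, hpa⟩ : ∃ pa, (a : ℕ) = pa := ⟨_, rfl⟩
        simp only [sS, eF, Pi.add_apply, Pi.smul_apply, smul_eq_mul, mul_ite, mul_one, mul_zero]
        split_ifs <;> first | omega | (simp; done) | (subst_vars; simp_all; done) | (exfalso; simp_all; omega) | (simp only [hpa] at *; subst_vars; simp_all; done)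
      rw [h3] at h2
      rw [← hj]
      exact (Submodule.add_mem_iff_right _ (W.smul_mem _ h1)).1 h2
  have h2m : eF F m 2 ∈ W := by
    have := hdown (m - 3) (by omega)
    rwa [show m - 1 - (m - 3) = 2 by omega] at this
  have hv : K • eF F m 0 + s • eF F m 1 ∈ W := by
    have h := hW _ h2m
    have h3 : (sM m t s K β)ᵀ *ᵥ eF F m 2 = (β 3)⁻¹ • eF F m 2 + (K • eF F m 0 + s • eF F m 1) := by
      rw [sMT_mulVec (by omega)]
      funext a
      obtain ⟨pa, hpa⟩ : ∃ pa, (a : ℕ) = pa := ⟨_, rfl⟩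
      simp only [sS, eF, Pi.add_apply, Pi.smul_apply, smul_eq_mul, mul_ite, mul_one, mul_zero]
      split_ifs <;> first | omega | (simp; done) | (subst_vars; simp_all; done) | (exfalso; simp_all; omega) | (simp only [hpa] at *; subst_vars; simp_all; done)
    rw [h3] at h
    exact (Submodule.add_mem_iff_right _ (W.smul_mem _ h2m)).1 h
  have hw := hW _ hv
  have e0 : (sM m t s K β)ᵀ *ᵥ eF F m 0 = (β 1)⁻¹ • eF F m 0 := by
    rw [sMT_mulVec (by omega)]
    funext a
    obtain ⟨pa, hpa⟩ : ∃ pa, (a : ℕ) = pa := ⟨_, rfl⟩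
    simp only [sS, eF, Pi.smul_apply, smul_eq_mul, mul_ite, mul_one, mul_zero]
    split_ifs <;> first | omega | (simp; done) | (subst_vars; simp_all; done) | (exfalso; simp_all; omega) | (simp only [hpa] at *; subst_vars; simp_all; done)
  have e1 : (sM m t s K β)ᵀ *ᵥ eF F m 1 = (β 2)⁻¹ • eF F m 1 + t • eF F m 0 := by
    rw [sMT_mulVec (by omega)]
    funext a
    obtain ⟨pa, hpa⟩ : ∃ pa, (a : ℕ) = pa := ⟨_, rfl⟩
    simp only [sS, eF, Pi.add_apply, Pi.smul_apply, smul_eq_mul, mul_ite, mul_one, mul_zero]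
    split_ifs <;> first | omega | (simp; done) | (subst_vars; simp_all; done) | (exfalso; simp_all; omega) | (simp only [hpa] at *; subst_vars; simp_all; done)
  rw [Matrix.mulVec_add, Matrix.mulVec_smul, Matrix.mulVec_smul, e0, e1] at hw
  have h0' : eF F m 0 ∈ W := by
    have h := sub_mem hw (W.smul_mem (β 2)⁻¹ hv)
    have h' : K • (β 1)⁻¹ • eF F m 0 + s • ((β 2)⁻¹ • eF F m 1 + t • eF F m 0) -
        (β 2)⁻¹ • (K • eF F m 0 + s • eF F m 1) = (t * s + K * ((β 1)⁻¹ - (β 2)⁻¹)) • eF F m 0 := by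
      module
    rw [h'] at h
    exact (Submodule.smul_mem_iff W hc).1 h
  have h1' : eF F m 1 ∈ W :=
    (Submodule.smul_mem_iff W hs).1 ((Submodule.add_mem_iff_right _ (W.smul_mem _ h0')).1 hv)
  rw [eq_top_iff]
  intro v _
  rw [pi_eq_sum_univ' v]
  refine sum_mem fun i _ => W.smul_mem _ ?_
  have h : eF F m i = Pi.single i 1 := by funext a; simp [eF, Pi.single_apply, Fin.val_inj]
  rw [← h]
  have hi := i.2
  rcases Nat.lt_or_ge (i : ℕ) 2 with hlt | hge
  · rcases (show (i : ℕ) = 0 ∨ (i : ℕ) = 1 by omega) with h | h <;> rw [h] <;> assumption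
  · have := hdown (m - 1 - i) (by omega)
    rwa [show m - 1 - (m - 1 - (i : ℕ)) = i by omega] at this

/-- The product is cyclic. -/
theorem prod_cyc (hm : 3 ≤ m) (hy : y ≠ 0) (hβ : ∀ j, 1 ≤ j → j ≤ m → β j ≠ 0) (hβ1 : β 1 = y)
    (he : t + (β 2)⁻¹ - (β 1)⁻¹ ≠ 0) : Cyc (lowP (sM m t s K β) 0 1 * qM m y β) (eLast F m) := by
  rw [cyc_iff, ← es_last]
  intro W h0 hW
  have hP : ∀ j, j ≤ m → lowP (sM m t s K β) 0 1 *ᵥ es F m j = fun a => pp m t s K β (pos a) j := fun j hj => by
    rw [lowP_sM, mulVec_es _ hj]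
  have hQ : ∀ j, j ≤ m → qM m y β *ᵥ es F m j = fun a => qq y β (pos a) j := fun j hj => mulVec_es _ hj
  have hPm : lowP (sM m t s K β) 0 1 *ᵥ es F m m = es F m m := by
    rw [hP m le_rfl]; funext a; simp [pp, es]
  have hPj : ∀ j, 2 ≤ j → j < m → lowP (sM m t s K β) 0 1 *ᵥ es F m j =
      (β (j + 1))⁻¹ • es F m j + (if j + 1 < m then (1 : F) else 0) • es F m (j + 1) := fun j hj hjm => by
    rw [hP j hjm.le]
    funext a
    have := pos_le a
    obtain ⟨pa, hpa⟩ : ∃ pa, pos a = pa := ⟨_, rfl⟩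
    simp only [pp, sS, es, Pi.add_apply, Pi.smul_apply, smul_eq_mul, mul_ite, mul_one, mul_zero]
    split_ifs <;> first | omega | (simp; done) | (subst_vars; simp_all; done) | (exfalso; simp_all; omega) | (simp only [hpa] at *; subst_vars; simp_all; done)
  have hdown : ∀ d, d + 2 ≤ m → es F m (m - d) ∈ W ∧ lowP (sM m t s K β) 0 1 *ᵥ es F m (m - d) ∈ W := by
    intro d
    induction d with
    | zero => intro _; rw [Nat.sub_zero, hPm]; exact ⟨h0, h0⟩
    | succ d ih =>
      intro hd
      obtain ⟨j, hj⟩ : ∃ j, j = m - (d + 1) := ⟨_, rfl⟩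
      obtain ⟨h1, h1'⟩ := ih (by omega)
      rw [show m - d = j + 1 by omega] at h1 h1'
      have h2 := hW _ h1
      have hq : qM m y β *ᵥ es F m (j + 1) = es F m j + β (j + 1) • es F m (j + 1) := by
        rw [hQ _ (by omega)]
        funext a
        have := pos_le a
        obtain ⟨pa, hpa⟩ : ∃ pa, pos a = pa := ⟨_, rfl⟩
        simp only [qq, es, Pi.add_apply, Pi.smul_apply, smul_eq_mul, mul_ite, mul_one, mul_zero]
        split_ifs <;> first | omega | (simp; done) | (subst_vars; simp_all; done) | (exfalso; simp_all; omega) | (simp only [hpa] at *; subst_vars; simp_all; done)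
      rw [← Matrix.mulVec_mulVec, hq, Matrix.mulVec_add, Matrix.mulVec_smul] at h2
      have h3 : lowP (sM m t s K β) 0 1 *ᵥ es F m j ∈ W :=
        (Submodule.add_mem_iff_left _ (W.smul_mem _ h1')).1 h2
      have h4 := h3
      rw [hPj j (by omega) (by omega)] at h4
      rw [← hj]
      exact ⟨(Submodule.smul_mem_iff W (inv_ne_zero (hβ _ (by omega) (by omega)))).1
        ((Submodule.add_mem_iff_left _ (W.smul_mem _ h1)).1 h4), h3⟩
  have hge : ∀ j, 2 ≤ j → j ≤ m → es F m j ∈ W := fun j hj hjm => by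
    have := (hdown (m - j) (by omega)).1
    rwa [show m - (m - j) = j by omega] at this
  have hP0 : lowP (sM m t s K β) 0 1 *ᵥ es F m 0 = (β 1)⁻¹ • es F m 0 + t • es F m 1 + K • es F m 2 := by
    rw [hP 0 (by omega)]
    funext a
    have := pos_le a
    obtain ⟨pa, hpa⟩ : ∃ pa, pos a = pa := ⟨_, rfl⟩
    simp only [pp, sS, es, Pi.add_apply, Pi.smul_apply, smul_eq_mul, mul_ite, mul_one, mul_zero]
    split_ifs <;> first | omega | (simp; done) | (subst_vars; simp_all; done) | (exfalso; simp_all; omega) | (simp only [hpa] at *; subst_vars; simp_all; done)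
  have hP1 : lowP (sM m t s K β) 0 1 *ᵥ es F m 1 = (β 2)⁻¹ • es F m 1 + s • es F m 2 := by
    rw [hP 1 (by omega)]
    funext a
    have := pos_le a
    obtain ⟨pa, hpa⟩ : ∃ pa, pos a = pa := ⟨_, rfl⟩
    simp only [pp, sS, es, Pi.add_apply, Pi.smul_apply, smul_eq_mul, mul_ite, mul_one, mul_zero]
    split_ifs <;> first | omega | (simp; done) | (subst_vars; simp_all; done) | (exfalso; simp_all; omega) | (simp only [hpa] at *; subst_vars; simp_all; done)
  have hv : (β 1)⁻¹ • es F m 0 + (t + (β 2)⁻¹) • es F m 1 ∈ W := by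
    have h := hW _ (hge 2 le_rfl (by omega))
    have hq : qM m y β *ᵥ es F m 2 = es F m 0 + es F m 1 + β 2 • es F m 2 := by
      rw [hQ _ (by omega)]
      funext a
      have := pos_le a
      obtain ⟨pa, hpa⟩ : ∃ pa, pos a = pa := ⟨_, rfl⟩
      simp only [qq, es, Pi.add_apply, Pi.smul_apply, smul_eq_mul, mul_ite, mul_one, mul_zero]
      split_ifs <;> first | omega | (simp; done) | (subst_vars; simp_all; done) | (exfalso; simp_all; omega) | (simp only [hpa] at *; subst_vars; simp_all; done)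
    rw [← Matrix.mulVec_mulVec, hq, Matrix.mulVec_add, Matrix.mulVec_add, Matrix.mulVec_smul, hP0, hP1] at h
    have h2 : lowP (sM m t s K β) 0 1 *ᵥ es F m 2 ∈ W := by
      have := (hdown (m - 2) (by omega)).2
      rwa [show m - (m - 2) = 2 by omega] at this
    have h' := sub_mem (sub_mem h (W.smul_mem (β 2) h2)) (W.smul_mem (K + s) (hge 2 le_rfl (by omega)))
    have e : (β 1)⁻¹ • es F m 0 + t • es F m 1 + K • es F m 2 + ((β 2)⁻¹ • es F m 1 + s • es F m 2) +
        β 2 • (lowP (sM m t s K β) 0 1 *ᵥ es F m 2) - β 2 • (lowP (sM m t s K β) 0 1 *ᵥ es F m 2) -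
        (K + s) • es F m 2 = (β 1)⁻¹ • es F m 0 + (t + (β 2)⁻¹) • es F m 1 := by module
    rwa [e] at h'
  have hM0 : (lowP (sM m t s K β) 0 1 * qM m y β) *ᵥ es F m 0 =
      y • ((β 1)⁻¹ • es F m 0 + t • es F m 1 + K • es F m 2) := by
    have hq : qM m y β *ᵥ es F m 0 = y • es F m 0 := by
      rw [hQ _ (by omega)]
      funext a
      have := pos_le a
      obtain ⟨pa, hpa⟩ : ∃ pa, pos a = pa := ⟨_, rfl⟩
      simp only [qq, es, Pi.smul_apply, smul_eq_mul, mul_ite, mul_one, mul_zero]
      split_ifs <;> first | omega | (simp; done) | (subst_vars; simp_all; done) | (exfalso; simp_all; omega) | (simp only [hpa] at *; subst_vars; simp_all; done)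
    rw [← Matrix.mulVec_mulVec, hq, Matrix.mulVec_smul, hP0]
  have hM1 : (lowP (sM m t s K β) 0 1 * qM m y β) *ᵥ es F m 1 = y • ((β 2)⁻¹ • es F m 1 + s • es F m 2) := by
    have hq : qM m y β *ᵥ es F m 1 = y • es F m 1 := by
      rw [hQ _ (by omega), ← hβ1]
      funext a
      have := pos_le a
      obtain ⟨pa, hpa⟩ : ∃ pa, pos a = pa := ⟨_, rfl⟩
      simp only [qq, es, Pi.smul_apply, smul_eq_mul, mul_ite, mul_one, mul_zero]
      split_ifs <;> first | omega | (simp; done) | (subst_vars; simp_all; done) | (exfalso; simp_all; omega) | (simp only [hpa] at *; subst_vars; simp_all; done)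
    rw [← Matrix.mulVec_mulVec, hq, Matrix.mulVec_smul, hP1]
  have hw := hW _ hv
  rw [Matrix.mulVec_add, Matrix.mulVec_smul, Matrix.mulVec_smul, hM0, hM1] at hw
  have h1 : es F m 1 ∈ W := by
    have h' := sub_mem (sub_mem hw (W.smul_mem (y * (β 1)⁻¹) hv))
      (W.smul_mem (y * ((β 1)⁻¹ * K + (t + (β 2)⁻¹) * s)) (hge 2 le_rfl (by omega)))
    have e : (β 1)⁻¹ • y • ((β 1)⁻¹ • es F m 0 + t • es F m 1 + K • es F m 2) +
        (t + (β 2)⁻¹) • y • ((β 2)⁻¹ • es F m 1 + s • es F m 2) -
        (y * (β 1)⁻¹) • ((β 1)⁻¹ • es F m 0 + (t + (β 2)⁻¹) • es F m 1) -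
        (y * ((β 1)⁻¹ * K + (t + (β 2)⁻¹) * s)) • es F m 2 =
        (y * (β 2)⁻¹ * (t + (β 2)⁻¹ - (β 1)⁻¹)) • es F m 1 := by module
    rw [e] at h'
    exact (Submodule.smul_mem_iff W (mul_ne_zero (mul_ne_zero hy (inv_ne_zero (hβ 2 (by omega) (by omega)))) he)).1 h'
  have h0'' : es F m 0 ∈ W := (Submodule.smul_mem_iff W (inv_ne_zero (hβ 1 le_rfl (by omega)))).1
    ((Submodule.add_mem_iff_left _ (W.smul_mem _ h1)).1 hv)
  rw [eq_top_iff]
  intro v _
  rw [pi_eq_sum_univ' v]
  refine sum_mem fun a _ => W.smul_mem _ ?_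
  have h : es F m (pos a) = Pi.single a 1 := by
    funext b
    rw [es, Pi.single_apply]
    exact if_congr ⟨fun h => by rw [← pre_pos b, h, pre_pos], fun h => by rw [h]⟩ rfl rfl
  rw [← h]
  rcases Nat.lt_or_ge (pos a) 2 with hlt | h2
  · rcases (show pos a = 0 ∨ pos a = 1 by omega) with h | h <;> rw [h] <;> assumption
  · exact hge _ h2 (pos_le a)

/-- The upper factor splits. -/
theorem qM_sim (hm : 3 ≤ m) (hβ1 : β 1 = y) :
    Sim (Matrix.toLin' (qM m y β)) ((Matrix.toLin' (segM m β)).prodMap (y • LinearMap.id : F →ₗ[F] F)) := by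
  let E : (Fin m ⊕ Unit → F) ≃ₗ[F] (Fin m → F) × F :=
    { toFun := fun a => (fun i => a (pre m ((i : ℕ) + 1)), a (pre m 0) - a (pre m 1))
      invFun := fun p b => if h : pos b = 0 then p.2 + p.1 ⟨0, by omega⟩ else p.1 ⟨pos b - 1, by have := pos_le b; omega⟩
      left_inv := fun a => funext fun b => by
        dsimp only
        split_ifs with h
        · rw [← h, pre_pos]
          rw [show ((⟨pos b, by omega⟩ : Fin m) : ℕ) + 1 = 1 by simp [h], sub_add_cancel]
        · rw [show pos b - 1 + 1 = pos b by omega, pre_pos]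
      right_inv := fun p => Prod.ext (funext fun i => by
          have := i.2
          simp only [pos_pre (show (i : ℕ) + 1 ≤ m by omega)]
          rw [dif_neg (by omega)]
          congr 1) (by simp [pos_pre (show 0 ≤ m by omega), pos_pre (show 1 ≤ m by omega)])
      map_add' := fun a b => Prod.ext rfl (by simp; ring)
      map_smul' := fun r a => Prod.ext rfl (by simp; ring) }
  refine ⟨E, fun v => ?_⟩
  have hlin : (E : (Fin m ⊕ Unit → F) →ₗ[F] _) ∘ₗ Matrix.toLin' (qM m y β) =
      ((Matrix.toLin' (segM m β)).prodMap (y • LinearMap.id : F →ₗ[F] F)) ∘ₗ (E : (Fin m ⊕ Unit → F) →ₗ[F] _) := by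
    refine LinearMap.pi_ext' fun a => LinearMap.ext_ring ?_
    have hs : (Pi.single a 1 : Fin m ⊕ Unit → F) = es F m (pos a) := by
      funext b
      rw [es, Pi.single_apply]
      exact if_congr ⟨fun h => by rw [h], fun h => by rw [← pre_pos b, h, pre_pos]⟩ rfl rfl
    simp only [LinearMap.coe_comp, Function.comp_apply, LinearMap.coe_single, LinearEquiv.coe_coe]
    rw [hs, Matrix.toLin'_apply, qM, mulVec_es _ (pos_le a)]
    obtain ⟨j, hj, hjm⟩ : ∃ j, pos a = j ∧ j ≤ m := ⟨_, rfl, pos_le a⟩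
    rw [hj]
    refine Prod.ext (funext fun i => ?_) ?_
    · have hi := i.2
      show qq y β (pos (pre m ((i : ℕ) + 1))) j = (segM m β *ᵥ fun k : Fin m => es F m j (pre m ((k : ℕ) + 1))) i
      have hk : (fun k : Fin m => es F m j (pre m ((k : ℕ) + 1))) = if j = 0 then 0 else eF F m (j - 1) := by
        funext k
        have hk := k.2
        simp only [es, pos_pre (show (k : ℕ) + 1 ≤ m by omega)]
        by_cases h : j = 0
        · rw [if_pos h, if_neg (by omega), Pi.zero_apply]
        · rw [if_neg h, eF]; exact if_congr (by omega) rfl rfl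
      rw [hk, pos_pre (show (i : ℕ) + 1 ≤ m by omega)]
      by_cases h : j = 0
      · rw [if_pos h, Matrix.mulVec_zero, Pi.zero_apply, h, qq, if_neg (by omega), if_neg (by omega), if_neg (by omega)]
      · rw [if_neg h, show (segM m β : Matrix (Fin m) (Fin m) F) = Matrix.of fun a b : Fin m =>
          (fun p r : ℕ => if p = r then β (p + 1) else if r = p + 1 then (1 : F) else 0) a b from rfl,
          mulVec_eF (fun p r : ℕ => if p = r then β (p + 1) else if r = p + 1 then (1 : F) else 0) (by omega)]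
        simp only [qq]
        split_ifs <;> first | omega | (simp; done) | (subst_vars; simp_all; done) | (exfalso; simp_all; omega) | (simp only [hpa] at *; subst_vars; simp_all; done)
    · show qq y β (pos (pre m 0)) j - qq y β (pos (pre m 1)) j = y • (es F m j (pre m 0) - es F m j (pre m 1))
      simp only [es, pos_pre (show 0 ≤ m by omega), pos_pre (show 1 ≤ m by omega), qq, smul_eq_mul]
      split_ifs <;> first | omega | (simp; done) | (subst_vars; simp_all; done) | (exfalso; simp_all; omega) | (simp only [hpa] at *; subst_vars; simp_all; done)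
  exact LinearMap.congr_fun hlin v

/-- The diagonal entries of the products of the two factors. -/
theorem diag_sum (i : Fin m) :
    ∑ k : Fin m, sS t s K β i k * qq y β (k : ℕ) i =
      (β ((i : ℕ) + 1))⁻¹ * (if (i : ℕ) = 0 then y else β i) +
        ((if (i : ℕ) = 2 then s + K else 0) + if 3 ≤ (i : ℕ) then 1 else 0) := by
  have hi := i.2
  have e : ∀ k : Fin m, sS t s K β i k * qq y β (k : ℕ) i =
      (if (k : ℕ) = i then (β ((i : ℕ) + 1))⁻¹ * (if (i : ℕ) = 0 then y else β i) else 0) +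
      ((if (i : ℕ) = 2 ∧ (k : ℕ) = 1 then s else 0) + (if (i : ℕ) = 2 ∧ (k : ℕ) = 0 then K else 0) +
        (if 3 ≤ (i : ℕ) ∧ (k : ℕ) + 1 = i then 1 else 0)) := fun k => by
    simp only [sS, qq]
    split_ifs <;> first | omega | (simp; done) | (subst_vars; simp_all; done) | (exfalso; simp_all; omega) | (simp only [hpa] at *; subst_vars; simp_all; done)
  have hone : ∀ (c : F) (j : ℕ), j < m → ∑ k : Fin m, (if (k : ℕ) = j then c else 0) = c := fun c j hj => by
    rw [Finset.sum_eq_single (⟨j, hj⟩ : Fin m) (fun b _ hb => if_neg fun h => hb (Fin.ext h)) (by simp)]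
    simp
  rw [Finset.sum_congr rfl fun k _ => e k, Finset.sum_add_distrib, Finset.sum_add_distrib, Finset.sum_add_distrib,
    hone _ _ hi]
  congr 2
  · by_cases h : (i : ℕ) = 2
    · simp only [h, true_and, if_true]
      rw [hone s 1 (by omega), hone K 0 (by omega)]
    · simp [h]
  · by_cases h : 3 ≤ (i : ℕ)
    · simp only [h, true_and, if_true]
      refine Eq.trans ?_ (hone (1 : F) ((i : ℕ) - 1) (by omega))
      exact Finset.sum_congr rfl fun k _ => if_congr (by omega) rfl rfl
    · simp [h]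

/-- Blocks of degree at least four. -/
theorem blk_big [Fintype F] {r x y : F} (hr : r ≠ 0) (hx : x ≠ 0) (hy : y ≠ 0) {f : F[X]} (hf : f.Monic)
    (hm : 3 ≤ m) (hdeg : f.natDegree = m + 1) (hd : dv f = y / x) : Blk f r x y := by
  classical
  let β : ℕ → F := fun j => if j = 1 then y else if j = m then x else if j = 2 then r / (x * y) else 1
  have hβ : ∀ j, 1 ≤ j → j ≤ m → β j ≠ 0 := fun j _ _ => by
    simp only [β]
    split_ifs
    · exact hy
    · exact hx
    · exact div_ne_zero hr (mul_ne_zero hx hy)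
    · exact one_ne_zero
  have hβ1 : β 1 = y := rfl
  have hβm : β m = x := by simp [β, show m ≠ 1 by omega]
  have hprod : ∏ i : Fin m, β ((i : ℕ) + 1) = r := by
    rw [Fin.prod_univ_eq_prod_range (fun i => β (i + 1)) m]
    rw [show m = 2 + (m - 3) + 1 by omega, Finset.prod_range_succ, Finset.prod_range_add, Finset.prod_range_succ,
      Finset.prod_range_one, Finset.prod_eq_one (s := Finset.range (m - 3)) fun i hi => ?_]
    · rw [show 2 + (m - 3) + 1 = m by omega, hβm, hβ1, show β (1 + 1) = r / (x * y) by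
        simp [β, show 2 ≠ m by omega]]
      field_simp
    · have := Finset.mem_range.1 hi
      simp only [β]
      rw [if_neg (by omega), if_neg (by omega), if_neg (by omega)]
  obtain ⟨C, hC⟩ : ∃ C : F, C = -(f.coeff m) -
      (∑ i : Fin m, ((β ((i : ℕ) + 1))⁻¹ * (if (i : ℕ) = 0 then y else β i) + if 3 ≤ (i : ℕ) then 1 else 0)) - 1 :=
    ⟨_, rfl⟩
  obtain ⟨D, hD⟩ : ∃ D : F, D = (β 1)⁻¹ - (β 2)⁻¹ := ⟨_, rfl⟩
  obtain ⟨t, s, ht, hs, htD, hK⟩ : ∃ t s : F, t ≠ 0 ∧ s ≠ 0 ∧ t ≠ D ∧ t * s + (C - s) * D ≠ 0 := by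
    by_cases h0 : D = 0
    · exact ⟨1, 1, one_ne_zero, one_ne_zero, by rw [h0]; exact one_ne_zero, by rw [h0]; simp⟩
    have h3 : 3 ≤ Fintype.card F := by
      by_contra h
      have h2 : ∀ a : F, a ≠ 0 → a = 1 := fun a ha => by
        have h1 := FiniteField.pow_card_sub_one_eq_one a ha
        have := Fintype.one_lt_card (α := F)
        rwa [show Fintype.card F - 1 = 1 by omega, pow_one] at h1
      exact h0 (by rw [hD, h2 _ (inv_ne_zero (hβ 1 le_rfl (by omega))), h2 _ (inv_ne_zero (hβ 2 (by omega) (by omega))),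
        sub_self])
    have hav : ∀ a b : F, ∃ u : F, u ≠ a ∧ u ≠ b := fun a b => by
      have h : (Finset.univ \ ({a, b} : Finset F)).Nonempty := by
        rw [← Finset.card_pos, Finset.card_sdiff, Finset.inter_univ, Finset.card_univ]
        have := Finset.card_le_two (a := a) (b := b)
        omega
      obtain ⟨u, hu⟩ := h
      simp only [Finset.mem_sdiff, Finset.mem_univ, true_and, Finset.mem_insert, Finset.mem_singleton, not_or] at hu
      exact ⟨u, hu⟩
    obtain ⟨t, ht, htD⟩ := hav 0 D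
    obtain ⟨s, hs, hs'⟩ := hav 0 (-(C * D) / (t - D))
    refine ⟨t, s, ht, hs, htD, fun h => hs' ?_⟩
    rw [eq_div_iff (sub_ne_zero.2 htD)]
    linear_combination h
  have hsum : ∀ i : Fin m, ∑ k : Fin m, sM m t s (C - s) β i k * qq y β (k : ℕ) i = _ := fun i => diag_sum i
  have hSu : IsUnit (sM m t s (C - s) β).det := by
    rw [sM_det, isUnit_iff_ne_zero, Finset.prod_ne_zero_iff]
    exact fun i _ => inv_ne_zero (hβ _ (by omega) i.2)
  obtain ⟨S', hS'⟩ : ∃ S', S' = (sM m t s (C - s) β)⁻¹ := ⟨_, rfl⟩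
  have hSS : sM m t s (C - s) β * S' = 1 := by rw [hS', Matrix.mul_nonsing_inv _ hSu]
  have hcy : t * s + (C - s) * ((β 1)⁻¹ - (β 2)⁻¹) ≠ 0 := by rwa [← hD]
  have hST := sMT_cyc hm hs hcy
  have hsim : Sim (Matrix.toLin' S') (Matrix.toLin' (segM m β)) := by
    have hT : (sM m t s (C - s) β)ᵀ * S'ᵀ = 1 := by
      rw [← Matrix.transpose_mul, mul_eq_one_comm.1 hSS, Matrix.transpose_one]
    have hup : (sM m t s (C - s) β)ᵀ.BlockTriangular id := fun i j hij => by
      have h : (j : ℕ) < i := hij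
      simp only [sM, sS, Matrix.transpose_apply, Matrix.of_apply]
      rw [if_neg (by omega), if_neg (by omega), if_neg (by omega)]
    haveI : Invertible (sM m t s (C - s) β)ᵀ := invertibleOfRightInverse _ _ hT
    have hup' : S'ᵀ.BlockTriangular id := by
      rw [← Matrix.inv_eq_right_inv hT]
      exact Matrix.blockTriangular_inv_of_blockTriangular hup
    have hdiag : ∀ i : Fin m, S'ᵀ i i = β ((i : ℕ) + 1) := fun i => by
      have h := congrFun (congrFun hT i) i
      rw [Matrix.mul_apply, Matrix.one_apply_eq, Finset.sum_eq_single i (fun b _ hb => ?_) (by simp)] at h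
      · have : (sM m t s (C - s) β)ᵀ i i = (β ((i : ℕ) + 1))⁻¹ := by simp [sM, sS]
        rw [this] at h
        exact ((inv_mul_eq_one₀ (hβ _ (by omega) i.2)).1 h).symm
      · rcases lt_or_gt_of_ne hb with hlt | hgt
        · rw [hup hlt, zero_mul]
        · rw [hup' hgt, mul_zero]
    obtain ⟨g, hg⟩ : ∃ g, g = (segM m β : Matrix (Fin m) (Fin m) F)ᵀ.charpoly := ⟨_, rfl⟩
    have hg' : S'ᵀ.charpoly = g := by
      rw [hg, Matrix.charpoly_transpose (M := segM m β), Matrix.charpoly_of_upperTriangular _ hup',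
        Matrix.charpoly_of_upperTriangular _ segM_upper]
      refine Finset.prod_congr rfl fun i _ => ?_
      rw [hdiag]
      simp [segM]
    have hgm : g.Monic := by rw [hg]; exact Matrix.charpoly_monic _
    have hgd : g.natDegree = Fintype.card (Fin m) := by rw [hg, Matrix.charpoly_natDegree_eq_dim]
    have h1 : Sim (rt g) (Matrix.toLin' (segM m β)ᵀ) := cyclic_sim _ _ (segT_cyc (by omega)) hgm hgd
      (by rw [hg, Matrix.aeval_self_charpoly, Matrix.zero_mulVec])
    have h2 : Sim (rt g) (Matrix.toLin' S'ᵀ) := by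
      refine cyclic_sim _ (eF F m (m - 1)) ?_ hgm hgd (by rw [← hg', Matrix.aeval_self_charpoly, Matrix.zero_mulVec])
      rw [cyc_iff]
      intro W h0 hW
      refine (cyc_iff _ _).1 hST W h0 fun v hv => ?_
      have hinj : Function.Injective (Matrix.toLin' S'ᵀ) := fun a b hab => by
        have h := congrArg (fun w => (sM m t s (C - s) β)ᵀ *ᵥ w) hab
        simp only [Matrix.toLin'_apply, Matrix.mulVec_mulVec, hT, Matrix.one_mulVec] at h
        exact h
      have hmap : W.map (Matrix.toLin' S'ᵀ) = W := Submodule.eq_of_le_of_finrank_eq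
        (by rintro _ ⟨w, hw, rfl⟩; exact hW w hw) ((Submodule.equivMapOfInjective _ hinj W).finrank_eq).symm
      obtain ⟨u, hu, rfl⟩ := (show v ∈ W.map (Matrix.toLin' S'ᵀ) by rw [hmap]; exact hv)
      rwa [Matrix.toLin'_apply, Matrix.mulVec_mulVec, hT, Matrix.one_mulVec]
    have h := sim_transpose (h1.symm.trans h2)
    rwa [Matrix.transpose_transpose, Matrix.transpose_transpose] at h
  have hcycP : Cyc (lowP (sM m t s (C - s) β) 0 1 * qM m y β) (eLast F m) :=
    prod_cyc hm hy hβ hβ1 (fun h => htD (by rw [hD]; linear_combination h))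
  have h := blk_of (sM m t s (C - s) β) S' hSS (qM m y β) (Matrix.toLin' (segM m β)) hx hy hf hdeg hd hsim
    (qM_sim hm hβ1) hcycP fun z hz => ?_
  · rwa [LinearMap.det_toLin', segM_det, hprod] at h
  have hlast : z ⟨m - 1, by omega⟩ = 0 := by
    have htr := Matrix.trace_eq_neg_charpoly_coeff (lowP (sM m t s (C - s) β) z x⁻¹ * qM m y β)
    rw [hz, Fintype.card_sum, Fintype.card_fin, Fintype.card_unique, Nat.add_sub_cancel, Matrix.trace,
      Fintype.sum_sum_type] at htr
    have hl : ∀ i : Fin m, Matrix.diag (lowP (sM m t s (C - s) β) z x⁻¹ * qM m y β) (Sum.inl i) =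
        ((β ((i : ℕ) + 1))⁻¹ * (if (i : ℕ) = 0 then y else β i) + if 3 ≤ (i : ℕ) then 1 else 0) +
          if (i : ℕ) = 2 then C else 0 := fun i => by
      rw [Matrix.diag_apply, Matrix.mul_apply, Fintype.sum_sum_type]
      have h0 : ∑ u : Unit, lowP (sM m t s (C - s) β) z x⁻¹ (Sum.inl i) (Sum.inr u) *
          qM m y β (Sum.inr u) (Sum.inl i) = 0 := by simp [lowP]
      rw [h0, add_zero]
      have h1 : ∑ k : Fin m, lowP (sM m t s (C - s) β) z x⁻¹ (Sum.inl i) (Sum.inl k) *
          qM m y β (Sum.inl k) (Sum.inl i) = ∑ k : Fin m, sS t s (C - s) β i k * qq y β (k : ℕ) i :=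
        Finset.sum_congr rfl fun k _ => by simp [lowP, qM, sM, pos]
      rw [h1, diag_sum]
      split_ifs <;> ring
    rw [Finset.sum_congr rfl fun i _ => hl i, Finset.sum_add_distrib (g := fun i : Fin m => if (i : ℕ) = 2 then C else 0)]
      at htr
    have h2 : ∑ i : Fin m, (if (i : ℕ) = 2 then C else 0) = C := by
      rw [Finset.sum_eq_single (⟨2, by omega⟩ : Fin m) (fun b _ hb => if_neg fun h => hb (Fin.ext h)) (by simp)]
      simp
    have hr' : ∑ u : Unit, Matrix.diag (lowP (sM m t s (C - s) β) z x⁻¹ * qM m y β) (Sum.inr u) =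
        z ⟨m - 1, by omega⟩ + x⁻¹ * x := by
      rw [Fintype.sum_unique, Matrix.diag_apply, Matrix.mul_apply, Fintype.sum_sum_type]
      congr 1
      · rw [Finset.sum_eq_single (⟨m - 1, by omega⟩ : Fin m) (fun b _ hb => ?_) (by simp)]
        · show z ⟨m - 1, _⟩ * qq y β (m - 1) m = z ⟨m - 1, _⟩
          unfold qq
          rw [if_neg (by omega), if_neg (by omega), if_pos ⟨hm, by omega⟩, mul_one]
        · have hb' : (b : ℕ) ≠ m - 1 := fun h => hb (Fin.ext h)
          have := b.2
          show z b * qq y β b m = 0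
          unfold qq
          rw [if_neg (by omega), if_neg (by omega), if_neg (by omega), mul_zero]
      · simp [lowP, qM, pos, qq, show m ≠ 0 by omega, hβm]
    rw [h2, hr', inv_mul_cancel₀ hx, hC] at htr
    linear_combination htr
  -- the image of `x⁻¹ - Sᵀ`
  let A : Matrix (Fin m) (Fin m) F := x⁻¹ • 1 - (sM m t s (C - s) β)ᵀ
  have htop : LinearMap.range (Matrix.mulVecLin A) ⊔ Submodule.span F {eF F m (m - 1)} = ⊤ := by
    refine (cyc_iff _ _).1 hST _ (Submodule.mem_sup_right (Submodule.mem_span_singleton_self _)) fun v hv => ?_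
    obtain ⟨_, ⟨u, rfl⟩, _, hw, rfl⟩ := Submodule.mem_sup.1 hv
    obtain ⟨a, rfl⟩ := Submodule.mem_span_singleton.1 hw
    have e : ∀ w : Fin m → F, (sM m t s (C - s) β)ᵀ *ᵥ w = x⁻¹ • w - A *ᵥ w := fun w => by
      simp only [A, Matrix.sub_mulVec, Matrix.smul_mulVec, Matrix.one_mulVec, sub_sub_cancel]
    rw [e, show x⁻¹ • (Matrix.mulVecLin A u + a • eF F m (m - 1)) - A *ᵥ (Matrix.mulVecLin A u + a • eF F m (m - 1)) =
      (Matrix.mulVecLin A (x⁻¹ • u - A *ᵥ u - a • eF F m (m - 1))) + (x⁻¹ * a) • eF F m (m - 1) by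
      simp only [Matrix.mulVecLin_apply, Matrix.mulVec_add, Matrix.mulVec_sub, Matrix.mulVec_smul]; module]
    exact Submodule.add_mem_sup ⟨_, rfl⟩ (Submodule.smul_mem _ _ (Submodule.mem_span_singleton_self _))
  obtain ⟨_, ⟨u, rfl⟩, _, hw, hz'⟩ := Submodule.mem_sup.1 (show z ∈ _ ⊔ _ by rw [htop]; exact Submodule.mem_top)
  obtain ⟨a, rfl⟩ := Submodule.mem_span_singleton.1 hw
  have ha : a = 0 := by
    have h0 : (A *ᵥ u) ⟨m - 1, by omega⟩ = 0 := by
      rw [Matrix.mulVec, dotProduct]
      refine Finset.sum_eq_zero fun k _ => ?_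
      have := k.2
      by_cases hk : (k : ℕ) = m - 1
      · have hke : k = ⟨m - 1, by omega⟩ := Fin.ext hk
        rw [hke]
        simp [A, sM, sS, show m - 1 + 1 = m by omega, hβm]
      · simp only [A, Matrix.sub_apply, Matrix.smul_apply, Matrix.transpose_apply, sM, sS, Matrix.of_apply,
          Matrix.one_apply, Fin.ext_iff]
        rw [if_neg (Ne.symm hk), if_neg hk, if_neg (by omega), if_neg (by omega)]
        simp
    have h := congrFun hz' ⟨m - 1, by omega⟩
    rw [hlast, Pi.add_apply, Matrix.mulVecLin_apply, h0, zero_add] at h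
    simpa [eF] using h
  refine ⟨u, ?_⟩
  rw [← hz', ha, zero_smul, add_zero, Matrix.mulVecLin_apply]
  show u ᵥ* (x⁻¹ • 1 - sM m t s (C - s) β) = A *ᵥ u
  rw [← Matrix.mulVec_transpose]
  simp only [A, Matrix.transpose_sub, Matrix.transpose_smul, Matrix.transpose_one]

end Cfsg.Lib.Linear.SLComm
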