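import Cfsg.Agent.Lib.Linear.SLCommutator.Small
import Cfsg.Agent.Lib.Linear.SLCommutator.Big

/-!
# Families of companion blocks as multisets

Commutators for families: sums, merging coprime members, and the chain of extra eigenvalues through
the constants of the blocks.
-/

set_option autoImplicit false
set_option linter.unusedSectionVars false

universe u

namespace Cfsg.Lib.Linear.SLComm

open Polynomial Module

variable {F : Type u} [Field F]

/-- The family is a commutator. -/
def GM (S : Multiset F[X]) : Prop := Good (opFam fun i : Fin S.toList.length => S.toList[i])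

theorem map_univ_fin (l : List F[X]) :
    (Finset.univ : Finset (Fin l.length)).val.map (fun i => l[i]) = (l : Multiset F[X]) := by
  rw [Fin.univ_val_map]
  exact congrArg _ List.ofFn_getElem

theorem opFam_sim_of_map_eq {ι κ : Type*} [Fintype ι] [Fintype κ] (f : ι → F[X]) (g : κ → F[X])
    (h : (Finset.univ : Finset ι).val.map f = (Finset.univ : Finset κ).val.map g) : Sim (opFam g) (opFam f) := by
  obtain ⟨σ, rfl⟩ := Cfsg.Lib.CanonicalForm.exists_equiv_of_map_eq f g h
  exact opFam_comp f σ

theorem GM.good {S : Multiset F[X]} (h : GM S) {ι : Type*} [Fintype ι] (f : ι → F[X])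
    (hf : (Finset.univ : Finset ι).val.map f = S) : Good (opFam f) := by
  exact h.of_sim (opFam_sim_of_map_eq f _ (by rw [hf, map_univ_fin, Multiset.coe_toList]))

theorem gm_of_good {ι : Type*} [Fintype ι] (f : ι → F[X]) (h : Good (opFam f)) :
    GM ((Finset.univ : Finset ι).val.map f) :=
  h.of_sim (opFam_sim_of_map_eq _ f (by rw [map_univ_fin, Multiset.coe_toList]))

theorem gm_zero : GM (0 : Multiset F[X]) := by
  have h := gm_of_good (ι := Empty) (fun i : Empty => (1 : F[X]))
    (by
      rw [show opFam (fun i : Empty => (1 : F[X])) = LinearMap.id from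
        LinearMap.ext fun v => funext fun i => isEmptyElim i]
      exact Good.one)
  simpa using h

theorem gm_add {S T : Multiset F[X]} (hSm : ∀ f ∈ S, f.Monic) (hTm : ∀ f ∈ T, f.Monic) (hS : GM S) (hT : GM T) :
    GM (S + T) := by
  let f : Fin S.toList.length ⊕ Fin T.toList.length → F[X] := Sum.elim (fun i => S.toList[i]) (fun j => T.toList[j])
  have hf : (Finset.univ : Finset _).val.map f = S + T := by
    rw [show (Finset.univ : Finset (Fin S.toList.length ⊕ Fin T.toList.length)).val =
      (Finset.univ.val.map Sum.inl) + (Finset.univ.val.map Sum.inr) from rfl, Multiset.map_add, Multiset.map_map,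
      Multiset.map_map]
    show Finset.univ.val.map (fun i => S.toList[i]) + Finset.univ.val.map (fun j => T.toList[j]) = _
    rw [map_univ_fin, map_univ_fin, Multiset.coe_toList, Multiset.coe_toList]
  haveI : ∀ i : Fin S.toList.length, Module.Finite F (AdjoinRoot (f (Sum.inl i))) := fun i =>
    (hSm _ (Multiset.mem_toList.1 (List.getElem_mem _))).finite_adjoinRoot
  haveI : ∀ j : Fin T.toList.length, Module.Finite F (AdjoinRoot (f (Sum.inr j))) := fun j =>
    (hTm _ (Multiset.mem_toList.1 (List.getElem_mem _))).finite_adjoinRoot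
  have h1 := hS.good (fun i : Fin S.toList.length => f (Sum.inl i)) (by
    show Finset.univ.val.map (fun i => S.toList[i]) = S
    rw [map_univ_fin, Multiset.coe_toList])
  have h2 := hT.good (fun j : Fin T.toList.length => f (Sum.inr j)) (by
    show Finset.univ.val.map (fun j => T.toList[j]) = T
    rw [map_univ_fin, Multiset.coe_toList])
  rw [← hf]
  exact gm_of_good f ((h1.prod h2).of_sim (opFam_sum f).symm)

theorem gm_single {f : F[X]} (h : Good (rt f)) : GM ({f} : Multiset F[X]) :=
  gm_of_good (ι := Unit) (fun _ => f) (h.of_sim (opFam_unique _).symm)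

/-- Merging two coprime members. -/
theorem gm_merge {f g : F[X]} {S : Multiset F[X]} (hf : f.Monic) (hg : g.Monic)
    (hcop : IsCoprime f g) (h : GM ((f * g) ::ₘ S)) : GM (f ::ₘ g ::ₘ S) := by
  let c : Fin S.toList.length → F[X] := fun i => S.toList[i]
  have hc : (Finset.univ : Finset _).val.map c = S := by rw [map_univ_fin, Multiset.coe_toList]
  have huniv : ∀ (A B : Type) [Fintype A] [Fintype B] (p : A ⊕ B → F[X]),
      (Finset.univ : Finset (A ⊕ B)).val.map p =
        Finset.univ.val.map (fun a => p (Sum.inl a)) + Finset.univ.val.map (fun b => p (Sum.inr b)) := by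
    intro A B _ _ p
    rw [show (Finset.univ : Finset (A ⊕ B)).val = (Finset.univ.val.map Sum.inl) + (Finset.univ.val.map Sum.inr) from rfl,
      Multiset.map_add, Multiset.map_map, Multiset.map_map]
    rfl
  let p : Unit ⊕ Fin S.toList.length → F[X] := Sum.elim (fun _ => f * g) c
  let r : (Unit ⊕ Unit) ⊕ Fin S.toList.length → F[X] := Sum.elim (Sum.elim (fun _ => f) fun _ => g) c
  have hp : (Finset.univ : Finset _).val.map p = (f * g) ::ₘ S := by
    rw [huniv]
    show Finset.univ.val.map (fun _ : Unit => f * g) + Finset.univ.val.map c = _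
    rw [hc, ← Multiset.singleton_add]
    rfl
  have hr : (Finset.univ : Finset _).val.map r = f ::ₘ g ::ₘ S := by
    rw [huniv, huniv]
    show Finset.univ.val.map (fun _ : Unit => f) + Finset.univ.val.map (fun _ : Unit => g) +
      Finset.univ.val.map c = _
    rw [hc, ← Multiset.singleton_add, ← Multiset.singleton_add, add_assoc]
    rfl
  have h1 := h.good p hp
  rw [← hr]
  refine gm_of_good r (h1.of_sim ((opFam_sum p).trans ((Sim.prod ?_ (Sim.refl _)).trans (opFam_sum r).symm)))
  exact (opFam_unique _).trans ((rt_mul hf hg hcop).trans (((opFam_unique (fun _ : Unit => f)).symm.prod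
    (opFam_unique (fun _ : Unit => g)).symm).trans (opFam_sum (fun i : Unit ⊕ Unit => r (Sum.inl i))).symm))

theorem dv_ne_zero {f : F[X]} (h : f.coeff 0 ≠ 0) : dv f ≠ 0 :=
  mul_ne_zero (pow_ne_zero _ (neg_ne_zero.2 one_ne_zero)) h

theorem prod_dv_ne_zero {S : Multiset F[X]} (h : (S.map dv).prod = 1) {f : F[X]} (hf : f ∈ S) : dv f ≠ 0 := by
  intro h0
  rw [Multiset.prod_eq_zero (h0 ▸ Multiset.mem_map_of_mem dv hf)] at h
  exact zero_ne_one h

/-- Blocks of every degree. -/
theorem blk_any [Fintype F] {f : F[X]} (hf : f.Monic) {r x y : F} (hr : r ≠ 0) (hx : x ≠ 0) (hy : y ≠ 0)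
    (hd : dv f = y / x) (h1 : f.natDegree = 1 → r = 1) (h2 : f.natDegree = 2 → r ≠ x ∧ r ≠ y)
    (h0 : 1 ≤ f.natDegree) : Blk f r x y := by
  rcases (show f.natDegree = 1 ∨ f.natDegree = 2 ∨ f.natDegree = 3 ∨ 4 ≤ f.natDegree by omega) with h | h | h | h
  · rw [h1 h]; exact blk_one hx hy hf h hd
  · exact blk_two hr hx hy (h2 h).1 (h2 h).2 hf h hd
  · exact blk_three hr hx hy hf h hd
  · exact blk_big (m := f.natDegree - 1) hr hx hy hf (by omega) (by omega) hd

/-- The chain criterion. -/
theorem gm_chain [Fintype F] {ι : Type} [Fintype ι] [Nonempty ι] (f : ι → F[X]) (hm : ∀ i, (f i).Monic)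
    (hdeg : ∀ i, 1 ≤ (f i).natDegree) (σ : Equiv.Perm ι) (r x : ι → F) (hr : ∀ i, r i ≠ 0) (hx : ∀ i, x i ≠ 0)
    (hd : ∀ i, x i * dv (f i) = x (σ i)) (h1 : ∀ i, (f i).natDegree = 1 → r i = 1)
    (h2 : ∀ i, (f i).natDegree = 2 → r i ≠ x i ∧ r i ≠ x (σ i)) (hprod : ∏ i, r i * x i = 1) :
    GM ((Finset.univ : Finset ι).val.map f) :=
  gm_of_good f (good_of_blk f r x σ (fun i => blk_any (hm i) (hr i) (hx i) (hx _)
    (by rw [← hd i, mul_div_cancel_left₀ _ (hx i)]) (h1 i) (h2 i) (hdeg i)) hprod)

/-- The running products. -/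
def run {k : ℕ} (d : Fin (k + 1) → F) (i : Fin (k + 1)) : F :=
  ∏ j ∈ Finset.univ.filter (fun j => j < i), d j

theorem run_succ {k : ℕ} (d : Fin (k + 1) → F) (hd : ∏ j, d j = 1) (i : Fin (k + 1)) :
    run d i * d i = run d (finRotate (k + 1) i) := by
  rw [finRotate_succ_apply, run, run]
  by_cases h : i = Fin.last k
  · subst h
    rw [Fin.last_add_one, Finset.filter_eq_empty_iff.2 (fun j _ => (not_lt.2 (Fin.zero_le j))), Finset.prod_empty,
      ← hd, ← Finset.prod_erase_mul Finset.univ d (Finset.mem_univ (Fin.last k))]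
    congr 2
    ext j
    simp [lt_iff_le_and_ne, Fin.le_last]
  · have hv : ((i + 1 : Fin (k + 1)) : ℕ) = i + 1 := Fin.val_add_one_of_lt (lt_of_le_of_ne (Fin.le_last i) h)
    have e : Finset.univ.filter (fun j => j < i + 1) = insert i (Finset.univ.filter (fun j => j < i)) := by
      ext j
      simp only [Finset.mem_filter, Finset.mem_univ, true_and, Finset.mem_insert, Fin.lt_def, Fin.ext_iff, hv]
      omega
    rw [e, Finset.prod_insert (by simp), mul_comm]

/-- Units avoiding a small set. -/
theorem exists_avoid [Fintype F] [DecidableEq F] (s : Finset F) (h : s.card + 1 < Fintype.card F) :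
    ∃ a : F, a ≠ 0 ∧ a ∉ s := by
  obtain ⟨a, ha⟩ : ((Finset.univ : Finset F) \ insert 0 s).Nonempty := by
    rw [← Finset.card_pos, Finset.card_sdiff, Finset.inter_univ, Finset.card_univ]
    have := Finset.card_insert_le (0 : F) s
    omega
  simp only [Finset.mem_sdiff, Finset.mem_univ, true_and, Finset.mem_insert, not_or] at ha
  exact ⟨a, ha⟩

/-- The extra eigenvalue of a block of degree two. -/
theorem exists_choice [Fintype F] (hq : 4 ≤ Fintype.card F) (x y : F) : ∃ r : F, r ≠ 0 ∧ r ≠ x ∧ r ≠ y := by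
  classical
  obtain ⟨a, ha0, ha⟩ := exists_avoid ({x, y} : Finset F) (by have := Finset.card_le_two (a := x) (b := y); omega)
  simp only [Finset.mem_insert, Finset.mem_singleton, not_or] at ha
  exact ⟨a, ha0, ha⟩

/-- A family with a block of degree at least three, when all blocks of degree two have a choice. -/
theorem gm_of_large [Fintype F] {ι : Type} [Fintype ι] [DecidableEq ι] [Nonempty ι] (f : ι → F[X])
    (hm : ∀ i, (f i).Monic) (hdeg : ∀ i, 1 ≤ (f i).natDegree) (σ : Equiv.Perm ι) (x : ι → F) (hx : ∀ i, x i ≠ 0)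
    (hd : ∀ i, x i * dv (f i) = x (σ i))
    (hc : ∀ i, (f i).natDegree = 2 → ∃ r, r ≠ 0 ∧ r ≠ x i ∧ r ≠ x (σ i)) (i₀ : ι) (hi₀ : 3 ≤ (f i₀).natDegree) :
    GM ((Finset.univ : Finset ι).val.map f) := by
  classical
  let r' : ι → F := fun i => if h : (f i).natDegree = 2 then (hc i h).choose else 1
  have hr' : ∀ i, r' i ≠ 0 := fun i => by
    simp only [r']
    split_ifs with h
    · exact (hc i h).choose_spec.1
    · exact one_ne_zero
  let P : F := x i₀ * ∏ i ∈ Finset.univ.erase i₀, r' i * x i
  have hP : P ≠ 0 := mul_ne_zero (hx _) (Finset.prod_ne_zero_iff.2 fun i _ => mul_ne_zero (hr' i) (hx i))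
  refine gm_chain f hm hdeg σ (Function.update r' i₀ P⁻¹) x (fun i => ?_) hx hd (fun i hi => ?_) (fun i hi => ?_) ?_
  · by_cases h : i = i₀
    · rw [h, Function.update_self]; exact inv_ne_zero hP
    · rw [Function.update_of_ne h]; exact hr' i
  · rw [Function.update_of_ne (fun h => by rw [h] at hi; omega)]
    simp [r', show (f i).natDegree ≠ 2 by omega]
  · rw [Function.update_of_ne (fun h => by rw [h] at hi; omega)]
    simp only [r', dif_pos hi]
    exact (hc i hi).choose_spec.2
  · rw [← Finset.mul_prod_erase _ _ (Finset.mem_univ i₀), Function.update_self,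
      Finset.prod_congr rfl (g := fun i => r' i * x i) (fun i hi => by
        rw [Function.update_of_ne (Finset.ne_of_mem_erase hi)]), mul_assoc]
    exact inv_mul_cancel₀ hP

end Cfsg.Lib.Linear.SLComm
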