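import Cfsg.Agent.Lib.Linear.SLCommutator.Engine
import Cfsg.Agent.Lib.Linear.SLCommutator.Scalar

/-!
# Commutators over at least four elements

Every primary family of determinant one is a commutator: induction on the number of members.
-/

set_option autoImplicit false
set_option linter.unusedSectionVars false

universe u

namespace Cfsg.Lib.Linear.SLComm

open Polynomial Module

variable {F : Type u} [Field F]

/-- A power of a monic irreducible polynomial, with non-zero constant. -/
def IsPrimary (f : F[X]) : Prop :=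
  ∃ (p : F[X]) (e : ℕ), p.Monic ∧ Irreducible p ∧ 1 ≤ e ∧ f = p ^ e

theorem IsPrimary.monic {f : F[X]} : IsPrimary f → f.Monic := fun ⟨_, e, hp, _, _, h⟩ => h ▸ hp.pow e

theorem IsPrimary.one_le_natDegree {f : F[X]} : IsPrimary f → 1 ≤ f.natDegree := fun ⟨p, e, hp, hi, he, h⟩ => by
  rw [h, hp.natDegree_pow]
  exact Nat.mul_pos he hi.natDegree_pos

theorem coprime_primes {p r : F[X]} (hp : p.Monic) (hpi : Irreducible p) (hr : r.Monic) (hri : Irreducible r)
    (hne : p ≠ r) (a b : ℕ) : IsCoprime (p ^ a) (r ^ b) :=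
  (hpi.coprime_iff_not_dvd.2 fun hd => hne (eq_of_monic_of_associated hp hr
    (hpi.associated_of_dvd hri hd))).pow

theorem eq_replicate_two [DecidableEq F[X]] {S : Multiset F[X]} {f g : F[X]} (hne : f ≠ g)
    (h : ∀ x ∈ S, x = f ∨ x = g) :
    S = Multiset.replicate (S.count f) f + Multiset.replicate (S.count g) g := by
  refine Multiset.ext.2 fun x => ?_
  rw [Multiset.count_add, Multiset.count_replicate, Multiset.count_replicate]
  by_cases hx : x ∈ S
  · rcases h x hx with rfl | rfl
    · rw [if_pos rfl, if_neg hne.symm, add_zero]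
    · rw [if_neg hne, if_pos rfl, zero_add]
  · rw [Multiset.count_eq_zero_of_notMem hx]
    by_cases h1 : f = x
    · rw [if_pos h1, if_neg (fun h2 => hne (h1.trans h2.symm)), h1, Multiset.count_eq_zero_of_notMem hx]
    · rw [if_neg h1]
      by_cases h2 : g = x
      · rw [if_pos h2, h2, Multiset.count_eq_zero_of_notMem hx]
      · rw [if_neg h2]

theorem replicate_split {α : Type*} (f : α) {i a : ℕ} (h : i ≤ a) :
    Multiset.replicate a f = Multiset.replicate i f + Multiset.replicate (a - i) f := by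
  rw [← Multiset.replicate_add, Nat.add_sub_cancel' h]

theorem gm_merge_rep {f g : F[X]} (hf : f.Monic) (hg : g.Monic) (hcop : IsCoprime f g) :
    ∀ (p : ℕ) (T : Multiset F[X]), GM (Multiset.replicate p (f * g) + T) →
      GM (Multiset.replicate p f + Multiset.replicate p g + T) := by
  intro p
  induction p with
  | zero => intro T h; simpa using h
  | succ p ih =>
    intro T h
    have h1 : GM (Multiset.replicate p f + Multiset.replicate p g + ((f * g) ::ₘ T)) := ih _ (by
      rw [Multiset.add_cons, ← Multiset.cons_add, ← Multiset.replicate_succ]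
      exact h)
    rw [Multiset.add_cons] at h1
    have h2 := gm_merge hf hg hcop h1
    rw [Multiset.replicate_succ, Multiset.replicate_succ, Multiset.cons_add, Multiset.add_cons, Multiset.cons_add,
      Multiset.cons_add]
    exact h2

variable [Fintype F]

/-- A family with a member of degree at least three. -/
theorem gm_large (hq : 4 ≤ Fintype.card F) {S : Multiset F[X]} (hm : ∀ f ∈ S, f.Monic)
    (hdeg : ∀ f ∈ S, 1 ≤ f.natDegree) (hd : (S.map dv).prod = 1) (h3 : ∃ f ∈ S, 3 ≤ f.natDegree) : GM S := by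
  classical
  obtain ⟨l, rfl⟩ : ∃ l : List F[X], (l : Multiset F[X]) = S := ⟨S.toList, S.coe_toList⟩
  obtain ⟨f, hf, hf3⟩ := h3
  obtain ⟨i₀, hi₀, rfl⟩ := List.mem_iff_getElem.1 (Multiset.mem_coe.1 hf)
  haveI : Nonempty (Fin l.length) := ⟨⟨i₀, hi₀⟩⟩
  have hmem : ∀ i : Fin l.length, l[i] ∈ (l : Multiset F[X]) := fun i => Multiset.mem_coe.2 (List.getElem_mem _)
  have hprod : ∏ i : Fin l.length, dv l[i] = 1 := by
    rw [← hd, ← map_univ_fin l, Multiset.map_map]
    rfl
  obtain ⟨σ, x, hx, hσ⟩ := exists_chain (fun i : Fin l.length => dv l[i])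
    (fun i => prod_dv_ne_zero hd (hmem i)) hprod
  have h := gm_of_large (fun i : Fin l.length => l[i]) (fun i => hm _ (hmem i)) (fun i => hdeg _ (hmem i)) σ x hx hσ
    (fun i _ => exists_choice hq _ _) ⟨i₀, hi₀⟩ hf3
  rwa [map_univ_fin] at h

/-- Two coprime members of degrees adding up to at least three. -/
theorem gm_coprime (hq : 4 ≤ Fintype.card F) {f g : F[X]} {S : Multiset F[X]} (hm : ∀ x ∈ f ::ₘ g ::ₘ S, x.Monic)
    (hdeg : ∀ x ∈ f ::ₘ g ::ₘ S, 1 ≤ x.natDegree) (hd : ((f ::ₘ g ::ₘ S).map dv).prod = 1)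
    (hcop : IsCoprime f g) (h3 : 3 ≤ f.natDegree + g.natDegree) : GM (f ::ₘ g ::ₘ S) := by
  have hf : f.Monic := hm f (Multiset.mem_cons_self _ _)
  have hg : g.Monic := hm g (Multiset.mem_cons_of_mem (Multiset.mem_cons_self _ _))
  refine gm_merge hf hg hcop (gm_large hq (fun x hx => ?_) (fun x hx => ?_) ?_ ⟨_, Multiset.mem_cons_self _ _, ?_⟩)
  · rcases Multiset.mem_cons.1 hx with rfl | hx
    · exact hf.mul hg
    · exact hm x (Multiset.mem_cons_of_mem (Multiset.mem_cons_of_mem hx))
  · rcases Multiset.mem_cons.1 hx with rfl | hx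
    · rw [hf.natDegree_mul hg]
      omega
    · exact hdeg x (Multiset.mem_cons_of_mem (Multiset.mem_cons_of_mem hx))
  · rw [← hd, Multiset.map_cons, Multiset.map_cons, Multiset.map_cons, Multiset.prod_cons, Multiset.prod_cons,
      Multiset.prod_cons, dv_mul hf hg, mul_assoc]
  · rw [hf.natDegree_mul hg]; exact h3

/-- Primary families of determinant one over at least four elements. -/
theorem gm_four (hq : 4 ≤ Fintype.card F) :
    ∀ S : Multiset F[X], (∀ f ∈ S, IsPrimary f) → (S.map dv).prod = 1 → GM S := by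
  classical
  intro S
  induction hn : Multiset.card S using Nat.strong_induction_on generalizing S with
  | _ n IH =>
  intro hP hd
  subst hn
  have hm : ∀ f ∈ S, f.Monic := fun f hf => (hP f hf).monic
  have hdeg : ∀ f ∈ S, 1 ≤ f.natDegree := fun f hf => (hP f hf).one_le_natDegree
  have split : ∀ T U : Multiset F[X], S = T + U → 1 ≤ Multiset.card T → 1 ≤ Multiset.card U →
      (T.map dv).prod = 1 → GM S := fun T U hS hT hU hTd => by
    have hUd : (U.map dv).prod = 1 := by rwa [hS, Multiset.map_add, Multiset.prod_add, hTd, one_mul] at hd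
    have hc : Multiset.card S = Multiset.card T + Multiset.card U := by rw [hS, Multiset.card_add]
    have hTP : ∀ f ∈ T, IsPrimary f := fun f hf => hP f (hS ▸ Multiset.mem_add.2 (Or.inl hf))
    have hUP : ∀ f ∈ U, IsPrimary f := fun f hf => hP f (hS ▸ Multiset.mem_add.2 (Or.inr hf))
    rw [hS]
    exact gm_add (fun f hf => (hTP f hf).monic) (fun f hf => (hUP f hf).monic)
      (IH _ (by omega) T rfl hTP hTd) (IH _ (by omega) U rfl hUP hUd)
  by_cases h3 : ∃ f ∈ S, 3 ≤ f.natDegree
  · exact gm_large hq hm hdeg hd h3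
  push Not at h3
  rcases Multiset.empty_or_exists_mem S with rfl | ⟨w, hw⟩
  · exact gm_zero
  have pair : ∀ f ∈ S, ∀ g ∈ S, f ≠ g → IsCoprime f g → 3 ≤ f.natDegree + g.natDegree → GM S :=
    fun f hf g hg hne hcop h => by
      obtain ⟨S₁, rfl⟩ := Multiset.exists_cons_of_mem hf
      obtain ⟨S₂, rfl⟩ := Multiset.exists_cons_of_mem ((Multiset.mem_cons.1 hg).resolve_left (Ne.symm hne))
      exact gm_coprime hq hm hdeg hd hcop h
  -- copies of one quadratic
  have copies : ∀ (f : F[X]) (a : ℕ), f.natDegree = 2 → S = Multiset.replicate a f → 1 ≤ a → GM S :=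
    fun f a hf hS ha => by
      have hfm : f.Monic := hm f (by rw [hS]; exact Multiset.mem_replicate.2 ⟨by omega, rfl⟩)
      have hda : dv f ^ a = 1 := by rwa [hS, Multiset.map_replicate, Multiset.prod_replicate] at hd
      by_cases hmin : ∃ j, 1 ≤ j ∧ j < a ∧ dv f ^ j = 1
      · obtain ⟨j, hj1, hja, hj⟩ := hmin
        exact split (Multiset.replicate j f) (Multiset.replicate (a - j) f) (by rw [hS, replicate_split f hja.le])
          (by simp only [Multiset.card_replicate]; omega) (by simp only [Multiset.card_replicate]; omega)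
          (by rw [Multiset.map_replicate, Multiset.prod_replicate, hj])
      push Not at hmin
      rcases (show a = 1 ∨ 2 ≤ a by omega) with rfl | ha2
      · rw [hS, Multiset.replicate_one]
        exact gm_one_alone hq hfm hf (by rwa [pow_one] at hda)
      · by_cases hq6 : 6 ≤ Fintype.card F
        · haveI : Nonempty (Fin a) := ⟨⟨0, by omega⟩⟩
          obtain ⟨σ, x, hx, hσ⟩ := exists_chain (fun _ : Fin a => dv f)
            (fun _ => prod_dv_ne_zero hd (by rw [hS]; exact Multiset.mem_replicate.2 ⟨by omega, rfl⟩))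
            (by rw [Finset.prod_const, Finset.card_univ, Fintype.card_fin, hda])
          have h := gm_six hq6 (fun _ : Fin a => f) (fun _ => hfm) (fun _ => by omega) σ x hx hσ
            (i₀ := ⟨0, by omega⟩) (i₁ := ⟨1, by omega⟩) (by simp) hf hf
          rwa [Multiset.map_const', Finset.card_val, Finset.card_univ, Fintype.card_fin, ← hS] at h
        · rw [hS]
          exact gm_small_copies hq (by omega) hfm hf ha2 hda hmin
  by_cases h2 : ∃ f ∈ S, f.natDegree = 2
  · -- all members share a prime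
    obtain ⟨f, hf, hf2⟩ := h2
    obtain ⟨p, e, hpm, hpi, he, hfe⟩ := hP f hf
    by_cases hsame : ∃ g ∈ S, ∃ (r : F[X]) (b : ℕ), r.Monic ∧ Irreducible r ∧ g = r ^ b ∧ r ≠ p
    · obtain ⟨g, hg, r, b, hrm, hri, hgb, hne⟩ := hsame
      have hcop : IsCoprime f g := by rw [hfe, hgb]; exact coprime_primes hpm hpi hrm hri hne.symm e b
      refine pair f hf g hg (fun h => ?_) hcop (by have := hdeg g hg; omega)
      rw [← h, isCoprime_self] at hcop
      have := natDegree_eq_zero_of_isUnit hcop
      omega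
    push Not at hsame
    have hall : ∀ g ∈ S, g = f ∨ (g = p ∧ p.natDegree = 1) := fun g hg => by
      obtain ⟨r, b, hrm, hri, hb, hgb⟩ := hP g hg
      obtain rfl := hsame g hg r b hrm hri hgb
      have h1 := h3 g hg
      have h4 : g.natDegree = b * r.natDegree := by rw [hgb, hpm.natDegree_pow]
      have h5 : f.natDegree = e * r.natDegree := by rw [hfe, hpm.natDegree_pow]
      rw [hf2] at h5
      have hr0 := hri.natDegree_pos
      rcases (show r.natDegree = 1 ∨ 2 ≤ r.natDegree by omega) with hr1 | hr2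
      · rw [hr1, mul_one] at h4 h5
        rcases (show b = 1 ∨ b = 2 by omega) with rfl | rfl
        · exact Or.inr ⟨by rw [hgb, pow_one], hr1⟩
        · exact Or.inl (by rw [hgb, hfe, ← h5])
      · have he' : e * 2 ≤ e * r.natDegree := Nat.mul_le_mul_left e hr2
        have hb' : b * 2 ≤ b * r.natDegree := Nat.mul_le_mul_left b hr2
        exact Or.inl (by rw [hgb, hfe, show b = e by omega])
    by_cases hp1 : p.natDegree = 1
    swap
    · refine copies f (Multiset.card S) hf2 (Multiset.eq_replicate.2 ⟨rfl, fun g hg => ?_⟩)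
        (Multiset.card_pos_iff_exists_mem.2 ⟨f, hf⟩)
      exact (hall g hg).resolve_right fun h => hp1 h.2
    have hne : f ≠ p := fun h => by rw [h, hp1] at hf2; omega
    obtain ⟨a, c, hS, ha⟩ : ∃ a c, S = Multiset.replicate a f + Multiset.replicate c p ∧ 1 ≤ a :=
      ⟨_, _, eq_replicate_two hne fun g hg => (hall g hg).imp id And.left, Multiset.one_le_count_iff_mem.2 hf⟩
    rcases Nat.eq_zero_or_pos c with rfl | hc
    · exact copies f a hf2 (by rw [hS, Multiset.replicate_zero, add_zero]) ha
    obtain ⟨l, hl⟩ : ∃ l, l = dv p := ⟨_, rfl⟩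
    have hdf : dv f = l ^ 2 := by
      rw [hl, hfe, show e = 2 by rw [hfe, hpm.natDegree_pow, hp1, mul_one] at hf2; exact hf2, pow_two, pow_two,
        dv_mul hpm hpm]
    have hd' : l ^ (2 * a + c) = 1 := by
      rwa [hS, Multiset.map_add, Multiset.prod_add, Multiset.map_replicate, Multiset.map_replicate,
        Multiset.prod_replicate, Multiset.prod_replicate, hdf, ← hl, ← pow_mul, ← pow_add] at hd
    have sub : ∀ i j, i ≤ a → j ≤ c → 1 ≤ i + j → i + j < a + c → l ^ (2 * i + j) = 1 → GM S :=
      fun i j hi hj h1 h2 h => split (Multiset.replicate i f + Multiset.replicate j p)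
        (Multiset.replicate (a - i) f + Multiset.replicate (c - j) p)
        (by rw [hS, replicate_split f hi, replicate_split p hj, add_add_add_comm])
        (by simp only [Multiset.card_add, Multiset.card_replicate]; omega)
        (by simp only [Multiset.card_add, Multiset.card_replicate]; omega)
        (by rw [Multiset.map_add, Multiset.prod_add, Multiset.map_replicate, Multiset.map_replicate,
          Multiset.prod_replicate, Multiset.prod_replicate, hdf, ← hl, ← pow_mul, ← pow_add, h])
    rcases (show a = 1 ∨ 2 ≤ a by omega) with rfl | ha2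
    · by_cases hmin : ∃ j, 1 ≤ j ∧ j ≤ c + 1 ∧ l ^ j = 1
      · obtain ⟨j, hj1, hjc, hj⟩ := hmin
        rcases (show j ≤ c ∨ j = c + 1 by omega) with hjc' | rfl
        · exact sub 0 j (by omega) hjc' (by omega) (by omega) (by rwa [Nat.mul_zero, zero_add])
        · exact sub 1 (c - 1) le_rfl (by omega) (by omega) (by omega)
            (by rwa [show 2 * 1 + (c - 1) = c + 1 by omega])
      push Not at hmin
      rw [hS, Multiset.replicate_one, Multiset.singleton_add]
      exact gm_one_linear (hm f hf) hf2 hpm hp1 hc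
        (by rw [hdf, ← hl, ← pow_add, show 2 + c = 2 * 1 + c by omega]; exact hd') (by rw [← hl]; exact hmin)
    · by_cases hq6 : 6 ≤ Fintype.card F
      · haveI : Nonempty (Fin a ⊕ Fin c) := ⟨Sum.inl ⟨0, by omega⟩⟩
        have hmem : ∀ i, two f p a c i ∈ S := fun i => by
          rw [hS, ← map_two f p a c]
          exact Multiset.mem_map_of_mem _ (Finset.mem_univ i)
        obtain ⟨σ, x, hx, hσ⟩ := exists_chain (fun i => dv (two f p a c i)) (fun i => prod_dv_ne_zero hd (hmem i)) (by
          rw [← hd, hS, ← map_two f p a c, Multiset.map_map]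
          rfl)
        have h := gm_six hq6 (two f p a c) (fun i => hm _ (hmem i)) (fun i => hdeg _ (hmem i)) σ x hx hσ
          (i₀ := Sum.inl ⟨0, by omega⟩) (i₁ := Sum.inl ⟨1, by omega⟩) (by simp) hf2 hf2
        rwa [map_two, ← hS] at h
      · have hl0 : l ≠ 0 := fun h => by rw [h, zero_pow (by omega)] at hd'; exact zero_ne_one hd'
        obtain ⟨j, hj1, hj4, hj⟩ : ∃ j, 1 ≤ j ∧ j ≤ 4 ∧ l ^ j = 1 :=
          ⟨Fintype.card F - 1, by omega, by omega, FiniteField.pow_card_sub_one_eq_one l hl0⟩
        exact sub (j / 2) (j % 2) (by omega) (by omega) (by omega) (by omega)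
          (by rwa [show 2 * (j / 2) + j % 2 = j by omega])
  push Not at h2
  have h1 : ∀ f ∈ S, f.natDegree = 1 := fun f hf => by
    have := hdeg f hf
    have := h3 f hf
    have := h2 f hf
    omega
  have hirr : ∀ f ∈ S, Irreducible f := fun f hf => irreducible_of_degree_eq_one (by
    rw [degree_eq_natDegree (hm f hf).ne_zero, h1 f hf]; rfl)
  have hcopS : ∀ f ∈ S, ∀ g ∈ S, f ≠ g → IsCoprime f g := fun f hf g hg hne => by
    have := coprime_primes (hm f hf) (hirr f hf) (hm g hg) (hirr g hg) hne 1 1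
    rwa [pow_one, pow_one] at this
  by_cases hall : ∀ f ∈ S, f = w
  · -- scalars
    obtain ⟨lam, hlam⟩ : ∃ lam, w = X - C lam := ⟨-w.coeff 0, by
      conv_lhs => rw [(hm w hw).eq_X_add_C (h1 w hw)]
      rw [map_neg, sub_neg_eq_add]⟩
    have hS : S = Multiset.replicate (Multiset.card S) w := Multiset.eq_replicate.2 ⟨rfl, hall⟩
    have hdw : dv w = lam := by rw [dv, h1 w hw, hlam]; simp
    have hd' : lam ^ Multiset.card S = 1 := by
      rwa [hS, Multiset.map_replicate, Multiset.prod_replicate, hdw] at hd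
    by_cases hmin : ∃ j, 1 ≤ j ∧ j < Multiset.card S ∧ lam ^ j = 1
    · obtain ⟨j, hj1, hj2, hj⟩ := hmin
      exact split (Multiset.replicate j w) (Multiset.replicate (Multiset.card S - j) w)
        (by rw [← replicate_split w hj2.le]; exact hS)
        (by simp only [Multiset.card_replicate]; omega) (by simp only [Multiset.card_replicate]; omega)
        (by rw [Multiset.map_replicate, Multiset.prod_replicate, hdw, hj])
    push Not at hmin
    rw [hS, hlam]
    exact gm_scalar (Multiset.card_pos_iff_exists_mem.2 ⟨w, hw⟩) hd' hmin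
  push Not at hall
  obtain ⟨v, hv, hvw⟩ := hall
  by_cases hthree : ∃ z ∈ S, z ≠ w ∧ z ≠ v
  · -- three different values
    obtain ⟨z, hz, hzw, hzv⟩ := hthree
    have c1 := hcopS w hw v hv hvw.symm
    have c2 : IsCoprime (w * v) z := IsCoprime.mul_left (hcopS w hw z hz hzw.symm) (hcopS v hv z hz hzv.symm)
    have d1 := h1 w hw
    have d2 := h1 v hv
    have d3 := h1 z hz
    obtain ⟨S₁, rfl⟩ := Multiset.exists_cons_of_mem hw
    obtain ⟨S₂, rfl⟩ := Multiset.exists_cons_of_mem ((Multiset.mem_cons.1 hv).resolve_left hvw)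
    obtain ⟨S₃, rfl⟩ := Multiset.exists_cons_of_mem
      ((Multiset.mem_cons.1 ((Multiset.mem_cons.1 hz).resolve_left hzw)).resolve_left hzv)
    have hwm : w.Monic := hm w (Multiset.mem_cons_self _ _)
    have hvm : v.Monic := hm v (Multiset.mem_cons_of_mem (Multiset.mem_cons_self _ _))
    refine gm_merge hwm hvm c1 (gm_coprime hq (fun x hx => ?_) (fun x hx => ?_) ?_ c2
      (by rw [hwm.natDegree_mul hvm]; omega))
    · rcases Multiset.mem_cons.1 hx with rfl | hx
      · exact hwm.mul hvm
      · exact hm x (Multiset.mem_cons_of_mem (Multiset.mem_cons_of_mem hx))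
    · rcases Multiset.mem_cons.1 hx with rfl | hx
      · rw [hwm.natDegree_mul hvm]; omega
      · exact hdeg x (Multiset.mem_cons_of_mem (Multiset.mem_cons_of_mem hx))
    · rw [← hd]
      simp only [Multiset.map_cons, Multiset.prod_cons, dv_mul hwm hvm, mul_assoc]
  push Not at hthree
  have hcase : ∀ x ∈ S, x = w ∨ x = v := fun x hx => by
    by_cases h : x = w
    · exact Or.inl h
    · exact Or.inr (hthree x hx h)
  obtain ⟨g₀, g₁, p, c, hS, hp1, hg0, hg1, hne⟩ : ∃ g₀ g₁ : F[X], ∃ p c : ℕ,
      S = Multiset.replicate p g₀ + Multiset.replicate (p + c) g₁ ∧ 1 ≤ p ∧ g₀ ∈ S ∧ g₁ ∈ S ∧ g₀ ≠ g₁ := by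
    rcases Nat.le_total (S.count w) (S.count v) with h | h
    · exact ⟨w, v, S.count w, S.count v - S.count w,
        by rw [Nat.add_sub_cancel' h]; exact eq_replicate_two hvw.symm hcase, Multiset.one_le_count_iff_mem.2 hw, hw, hv,
        hvw.symm⟩
    · exact ⟨v, w, S.count v, S.count w - S.count v, by
        rw [Nat.add_sub_cancel' h, add_comm]; exact eq_replicate_two hvw.symm hcase,
        Multiset.one_le_count_iff_mem.2 hv, hv, hw, hvw⟩
  have hm0 := hm _ hg0
  have hm1 := hm _ hg1
  have hdm : (g₀ * g₁).natDegree = 2 := by rw [hm0.natDegree_mul hm1, h1 _ hg0, h1 _ hg1]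
  have hd01 := dv_mul hm0 hm1
  have hd' : dv g₀ ^ p * dv g₁ ^ (p + c) = 1 := by
    rwa [hS, Multiset.map_add, Multiset.prod_add, Multiset.map_replicate, Multiset.map_replicate,
      Multiset.prod_replicate, Multiset.prod_replicate] at hd
  have hn0 : dv g₀ ≠ 0 := prod_dv_ne_zero hd hg0
  have hn1 : dv g₁ ≠ 0 := prod_dv_ne_zero hd hg1
  have sub : ∀ i j, i ≤ p → j ≤ p + c → 1 ≤ i + j → i + j < p + (p + c) → dv g₀ ^ i * dv g₁ ^ j = 1 → GM S :=
    fun i j hi hj h1 h2 h => split (Multiset.replicate i g₀ + Multiset.replicate j g₁)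
      (Multiset.replicate (p - i) g₀ + Multiset.replicate (p + c - j) g₁)
      (by rw [hS, replicate_split g₀ hi, replicate_split g₁ hj, add_add_add_comm])
      (by simp only [Multiset.card_add, Multiset.card_replicate]; omega)
      (by simp only [Multiset.card_add, Multiset.card_replicate]; omega)
      (by rw [Multiset.map_add, Multiset.prod_add, Multiset.map_replicate, Multiset.map_replicate,
        Multiset.prod_replicate, Multiset.prod_replicate, h])
  have hmerge : GM (Multiset.replicate p (g₀ * g₁) + Multiset.replicate c g₁) → GM S := fun h => by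
    rw [hS, Multiset.replicate_add, ← add_assoc]
    exact gm_merge_rep hm0 hm1 (hcopS _ hg0 _ hg1 hne) p _ h
  rcases (show p = 1 ∨ 2 ≤ p by omega) with rfl | hp2
  · by_cases hmin : ∃ j, 1 ≤ j ∧ j ≤ c + 1 ∧ dv g₁ ^ j = 1
    · obtain ⟨j, hj1, hjc, hj⟩ := hmin
      exact sub 0 j (by omega) (by omega) (by omega) (by omega) (by rw [pow_zero, one_mul, hj])
    push Not at hmin
    refine hmerge ?_
    rw [Multiset.replicate_one, Multiset.singleton_add]
    rw [pow_one] at hd'
    rcases Nat.eq_zero_or_pos c with rfl | hc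
    · rw [Multiset.replicate_zero]
      exact gm_one_alone hq (hm0.mul hm1) hdm (by rw [hd01]; rwa [add_zero, pow_one] at hd')
    · exact gm_one_linear (hm0.mul hm1) hdm hm1 (h1 _ hg1) hc
        (by rw [hd01, mul_assoc, ← pow_succ', add_comm c 1]; exact hd') hmin
  by_cases hq6 : 6 ≤ Fintype.card F
  · refine hmerge ?_
    haveI : Nonempty (Fin p ⊕ Fin c) := ⟨Sum.inl ⟨0, by omega⟩⟩
    have hmi : ∀ i, (two (g₀ * g₁) g₁ p c i).Monic := fun i => by rcases i with i | i <;> [exact hm0.mul hm1; exact hm1]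
    have hdi : ∀ i, 1 ≤ (two (g₀ * g₁) g₁ p c i).natDegree := fun i => by
      rcases i with i | i <;> [exact hdm.symm ▸ one_le_two; exact (h1 _ hg1).symm ▸ le_rfl]
    obtain ⟨σ, x, hx, hσ⟩ := exists_chain (fun i => dv (two (g₀ * g₁) g₁ p c i)) (fun i => by
        rcases i with i | i <;> [exact hd01 ▸ mul_ne_zero hn0 hn1; exact hn1]) (by
      rw [Fintype.prod_sum_type]
      show (∏ _ : Fin p, dv (g₀ * g₁)) * ∏ _ : Fin c, dv g₁ = 1
      rw [Finset.prod_const, Finset.prod_const, Finset.card_univ, Finset.card_univ, Fintype.card_fin,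
        Fintype.card_fin, hd01, mul_pow, mul_assoc, ← pow_add, hd'])
    have h := gm_six hq6 (two (g₀ * g₁) g₁ p c) hmi hdi σ x hx hσ
      (i₀ := Sum.inl ⟨0, by omega⟩) (i₁ := Sum.inl ⟨1, by omega⟩) (by simp) hdm hdm
    rwa [map_two] at h
  by_cases hbig : Fintype.card F ≤ p + (p + c)
  · -- two prefixes with the same product
    let pre : Fin (p + (p + c)) → Fˣ := fun k => Units.mk0 (dv g₀ ^ (min (k : ℕ) p) * dv g₁ ^ ((k : ℕ) - p))
      (mul_ne_zero (pow_ne_zero _ hn0) (pow_ne_zero _ hn1))
    obtain ⟨k, k', hkk, hk⟩ := Fintype.exists_ne_map_eq_of_card_lt pre (by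
      rw [Fintype.card_units, Fintype.card_fin]; omega)
    obtain ⟨k, l, hkl, hk⟩ : ∃ k l : Fin (p + (p + c)), k < l ∧ pre k = pre l := by
      rcases lt_or_gt_of_ne hkk with h | h
      · exact ⟨k, k', h, hk⟩
      · exact ⟨k', k, h, hk.symm⟩
    have hk' : (dv g₀ ^ min (k : ℕ) p * dv g₁ ^ ((k : ℕ) - p)) = dv g₀ ^ min (l : ℕ) p * dv g₁ ^ ((l : ℕ) - p) :=
      congrArg Units.val hk
    have hkl' : (k : ℕ) < l := hkl
    have := l.2
    refine sub (min (l : ℕ) p - min (k : ℕ) p) ((l : ℕ) - p - ((k : ℕ) - p)) (by omega) (by omega) (by omega) (by omega)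
      (mul_left_cancel₀ (mul_ne_zero (pow_ne_zero (min (k : ℕ) p) hn0) (pow_ne_zero ((k : ℕ) - p) hn1)) ?_)
    rw [mul_one, mul_mul_mul_comm, ← pow_add, ← pow_add, Nat.add_sub_cancel' (by omega),
      Nat.add_sub_cancel' (by omega)]
    exact hk'.symm
  obtain ⟨rfl, rfl⟩ : p = 2 ∧ c = 0 := by omega
  by_cases h11 : dv g₀ * dv g₁ = 1
  · exact sub 1 1 (by omega) (by omega) (by omega) (by omega) (by rwa [pow_one, pow_one])
  refine hmerge ?_
  rw [Multiset.replicate_zero, add_zero]
  exact gm_small_copies hq (by omega) (hm0.mul hm1) hdm le_rfl (by rw [hd01, mul_pow]; exact hd')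
    (fun j hj1 hj2 => by rw [show j = 1 by omega, pow_one, hd01]; exact h11)

end Cfsg.Lib.Linear.SLComm
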