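import Cfsg.Agent.Lib.Linear.CanonicalForm

/-!
# Commutators of determinant one

Operators which are commutators of automorphisms of determinant one: transport, products, the operator
of a family of polynomials, and the criterion by pairs of similar factors.
-/

set_option autoImplicit false
set_option linter.unusedSectionVars false

universe u

namespace Cfsg.Lib.Linear.SLComm

open Polynomial Module

variable {F : Type u} [Field F] {V W V' W' : Type*} [AddCommGroup V] [Module F V] [AddCommGroup W] [Module F W]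
  [AddCommGroup V'] [Module F V'] [AddCommGroup W'] [Module F W']

/-- A commutator of two automorphisms of determinant one. -/
def Good (Z : V →ₗ[F] V) : Prop :=
  ∃ a b : V ≃ₗ[F] V, LinearMap.det (a : V →ₗ[F] V) = 1 ∧ LinearMap.det (b : V →ₗ[F] V) = 1 ∧
    ∀ v, Z (b (a v)) = a (b v)

/-- Similarity of operators. -/
def Sim (f : V →ₗ[F] V) (g : W →ₗ[F] W) : Prop := ∃ P : V ≃ₗ[F] W, ∀ v, P (f v) = g (P v)

theorem Sim.refl (f : V →ₗ[F] V) : Sim f f := ⟨LinearEquiv.refl F V, fun _ => rfl⟩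

theorem Sim.symm {f : V →ₗ[F] V} {g : W →ₗ[F] W} : Sim f g → Sim g f := fun ⟨P, hP⟩ =>
  ⟨P.symm, fun w => by rw [LinearEquiv.symm_apply_eq, hP, P.apply_symm_apply]⟩

theorem Sim.trans {f : V →ₗ[F] V} {g : W →ₗ[F] W} {h : V' →ₗ[F] V'} : Sim f g → Sim g h → Sim f h :=
  fun ⟨P, hP⟩ ⟨Q, hQ⟩ => ⟨P.trans Q, fun v => by simp [hP, hQ]⟩

theorem Sim.det_eq {f : V →ₗ[F] V} {g : W →ₗ[F] W} : Sim f g → LinearMap.det f = LinearMap.det g :=
  fun ⟨P, hP⟩ => by
    rw [← LinearMap.det_conj f P]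
    congr 1
    exact LinearMap.ext fun w => by simp [hP]

theorem Sim.prod {f : V →ₗ[F] V} {g : W →ₗ[F] W} {f' : V' →ₗ[F] V'} {g' : W' →ₗ[F] W'} :
    Sim f f' → Sim g g' → Sim (f.prodMap g) (f'.prodMap g') :=
  fun ⟨P, hP⟩ ⟨Q, hQ⟩ => ⟨P.prodCongr Q, fun v => by simp [hP, hQ]⟩

theorem det_conj_equiv (P : V ≃ₗ[F] W) (a : V ≃ₗ[F] V) :
    LinearMap.det ((P.symm.trans a).trans P : W →ₗ[F] W) = LinearMap.det (a : V →ₗ[F] V) := by
  rw [← LinearMap.det_conj (a : V →ₗ[F] V) P]
  rfl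

theorem Good.of_sim {f : V →ₗ[F] V} {g : W →ₗ[F] W} : Sim f g → Good f → Good g := fun ⟨P, hP⟩ ⟨a, b, ha, hb, h⟩ =>
  ⟨(P.symm.trans a).trans P, (P.symm.trans b).trans P, by rw [det_conj_equiv, ha], by rw [det_conj_equiv, hb],
    fun w => by simp [← hP, h]⟩

theorem Good.one : Good (LinearMap.id : V →ₗ[F] V) :=
  ⟨LinearEquiv.refl F V, LinearEquiv.refl F V, by simp, by simp, fun _ => rfl⟩

theorem Good.prod [FiniteDimensional F V] [FiniteDimensional F W] {f : V →ₗ[F] V} {g : W →ₗ[F] W} :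
    Good f → Good g → Good (f.prodMap g) := fun ⟨a, b, ha, hb, h⟩ ⟨a', b', ha', hb', h'⟩ =>
  ⟨a.prodCongr a', b.prodCongr b',
    by rw [LinearEquiv.coe_prodCongr, LinearMap.det_prodMap, ha, ha', one_mul],
    by rw [LinearEquiv.coe_prodCongr, LinearMap.det_prodMap, hb, hb', one_mul],
    fun v => by simp [h, h']⟩

/-- A quotient of two similar automorphisms of determinant one whose centralizer reaches every determinant. -/
theorem good_of_pair {Z : V →ₗ[F] V} (X Y : V ≃ₗ[F] V) (hZ : ∀ v, Z v = X.symm (Y v))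
    (hdet : LinearMap.det (X : V →ₗ[F] V) = 1) (hsim : Sim (X : V →ₗ[F] V) (Y : V →ₗ[F] V))
    (hcent : ∀ c : Fˣ, ∃ s : V ≃ₗ[F] V, LinearMap.det (s : V →ₗ[F] V) = (c : F) ∧ ∀ v, s (X v) = X (s v)) :
    Good Z := by
  obtain ⟨g, hg⟩ := hsim
  obtain ⟨s, hs, hsX⟩ := hcent (LinearEquiv.det g)⁻¹
  refine ⟨X.symm, s.trans g, ?_, ?_, fun v => ?_⟩
  · have h1 : LinearMap.det ((X.symm : V →ₗ[F] V) ∘ₗ (X : V →ₗ[F] V)) = 1 := by
      rw [LinearEquiv.symm_comp, LinearMap.det_id]
    rwa [LinearMap.det_comp, hdet, mul_one] at h1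
  · rw [show ((s.trans g : V ≃ₗ[F] V) : V →ₗ[F] V) = (g : V →ₗ[F] V) ∘ₗ (s : V →ₗ[F] V) from rfl,
      LinearMap.det_comp, hs, ← LinearEquiv.coe_det]
    exact Units.mul_inv _
  · have h1 : ∀ w, g (X w) = Y (g w) := hg
    show Z (g (s (X.symm v))) = X.symm (g (s v))
    rw [hZ, ← h1, ← hsX, X.apply_symm_apply]

/-! ### Families of polynomials -/

/-- Multiplication by the root. -/
noncomputable def rt (f : F[X]) : AdjoinRoot f →ₗ[F] AdjoinRoot f := LinearMap.mulLeft F (AdjoinRoot.root f)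

/-- The operator of a family. -/
noncomputable def opFam {ι : Type*} (f : ι → F[X]) : (∀ i, AdjoinRoot (f i)) →ₗ[F] ∀ i, AdjoinRoot (f i) :=
  LinearMap.pi fun i => (rt (f i)).comp (LinearMap.proj i)

theorem opFam_apply {ι : Type*} (f : ι → F[X]) (v : ∀ i, AdjoinRoot (f i)) (i : ι) :
    opFam f v i = AdjoinRoot.root (f i) * v i := rfl

theorem opFam_comp {ι κ : Type*} (f : ι → F[X]) (e : κ ≃ ι) : Sim (opFam (f ∘ e)) (opFam f) := by
  refine ⟨LinearEquiv.piCongrLeft F (fun i => AdjoinRoot (f i)) e, fun v => funext fun i => ?_⟩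
  obtain ⟨j, rfl⟩ := e.surjective i
  rw [opFam_apply]
  simp only [LinearEquiv.piCongrLeft, LinearEquiv.piCongrLeft', LinearEquiv.coe_symm_mk, LinearEquiv.symm]
  exact (Equiv.piCongrLeft_apply_apply (fun i => AdjoinRoot (f i)) e _ j).trans
    (congrArg _ (Equiv.piCongrLeft_apply_apply (fun i => AdjoinRoot (f i)) e _ j).symm)

/-- Splitting a family. -/
theorem opFam_sum {ι κ : Type*} (f : ι ⊕ κ → F[X]) :
    Sim (opFam f) ((opFam fun i => f (Sum.inl i)).prodMap (opFam fun j => f (Sum.inr j))) :=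
  ⟨{ toFun := fun v => (fun i => v (Sum.inl i), fun j => v (Sum.inr j))
     invFun := fun p s => Sum.rec (motive := fun s => AdjoinRoot (f s)) p.1 p.2 s
     left_inv := fun v => funext fun s => by cases s <;> rfl
     right_inv := fun p => rfl
     map_add' := fun _ _ => rfl
     map_smul' := fun _ _ => rfl }, fun v => rfl⟩

theorem opFam_unique {ι : Type*} [Unique ι] (f : ι → F[X]) : Sim (opFam f) (rt (f default)) :=
  ⟨LinearEquiv.piUnique F fun i => AdjoinRoot (f i), fun v => rfl⟩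

/-- The Chinese remainder theorem for the root. -/
theorem rt_mul {f g : F[X]} (hf : f.Monic) (hg : g.Monic) (h : IsCoprime f g) :
    Sim (rt (f * g)) ((rt f).prodMap (rt g)) := by
  haveI := hf.finite_adjoinRoot
  haveI := hg.finite_adjoinRoot
  haveI := (hf.mul hg).finite_adjoinRoot
  let φ : AdjoinRoot (f * g) →ₐ[F] AdjoinRoot f × AdjoinRoot g :=
    AlgHom.prod (AdjoinRoot.algHomOfDvd F (f * g) f (Dvd.intro g rfl))
      (AdjoinRoot.algHomOfDvd F (f * g) g (Dvd.intro_left f rfl))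
  have hinj : Function.Injective φ := by
    refine (injective_iff_map_eq_zero φ).2 fun z hz => ?_
    obtain ⟨p, rfl⟩ := AdjoinRoot.mk_surjective z
    have h1 : AdjoinRoot.mk f p = 0 ∧ AdjoinRoot.mk g p = 0 := by
      have h2 : φ (Polynomial.aeval (AdjoinRoot.root (f * g)) p) = 0 := by rwa [AdjoinRoot.aeval_eq]
      rw [← Polynomial.aeval_algHom_apply, Prod.ext_iff] at h2
      simpa [φ, Polynomial.aeval_prod_apply, AdjoinRoot.aeval_eq] using h2
    rw [AdjoinRoot.mk_eq_zero] at h1 ⊢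
    rw [AdjoinRoot.mk_eq_zero] at h1
    exact h.mul_dvd h1.1 h1.2
  have hd : finrank F (AdjoinRoot (f * g)) = finrank F (AdjoinRoot f × AdjoinRoot g) := by
    rw [finrank_prod, (AdjoinRoot.powerBasis' (hf.mul hg)).finrank, (AdjoinRoot.powerBasis' hf).finrank,
      (AdjoinRoot.powerBasis' hg).finrank]
    exact Polynomial.natDegree_mul hf.ne_zero hg.ne_zero
  refine ⟨LinearEquiv.ofBijective φ.toLinearMap ⟨hinj, (LinearMap.injective_iff_surjective_of_finrank_eq_finrank hd).1 hinj⟩,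
    fun v => ?_⟩
  show φ (AdjoinRoot.root (f * g) * v) = _
  rw [map_mul]
  refine Prod.ext ?_ ?_ <;> simp [φ, rt] <;> rfl

/-- The constant of a block. -/
noncomputable def dv (f : F[X]) : F := (-1) ^ f.natDegree * f.coeff 0

theorem dv_mul {f g : F[X]} (hf : f.Monic) (hg : g.Monic) : dv (f * g) = dv f * dv g := by
  rw [dv, dv, dv, hf.natDegree_mul hg, mul_coeff_zero, pow_add]
  ring

theorem rt_charpoly {f : F[X]} (hf : f.Monic) :
    haveI := hf.finite_adjoinRoot
    (rt f).charpoly = f := by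
  haveI := hf.finite_adjoinRoot
  let pb := AdjoinRoot.powerBasis' hf
  rw [← LinearMap.charpoly_toMatrix (rt f) pb.basis]
  have h1 : LinearMap.toMatrix pb.basis pb.basis (rt f) = Algebra.leftMulMatrix pb.basis pb.gen := rfl
  rw [h1, charpoly_leftMulMatrix]
  show minpoly F (AdjoinRoot.root f) = f
  rw [AdjoinRoot.minpoly_root hf.ne_zero, hf.leadingCoeff, inv_one, C_1, mul_one]

theorem rt_det {f : F[X]} (hf : f.Monic) : LinearMap.det (rt f) = dv f := by
  haveI := hf.finite_adjoinRoot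
  rw [LinearMap.det_eq_sign_charpoly_coeff, rt_charpoly hf, dv,
    show finrank F (AdjoinRoot f) = f.natDegree from (AdjoinRoot.powerBasis' hf).finrank]

/-! ### Blocks -/

/-- A factorisation of a block as a quotient of two factors of the shape `R × x` and `R × y`. -/
def Blk (f : F[X]) (r x y : F) : Prop :=
  ∃ (m : ℕ) (R : (Fin m → F) →ₗ[F] (Fin m → F)) (X Y : AdjoinRoot f ≃ₗ[F] AdjoinRoot f),
    LinearMap.det R = r ∧ (∀ v, rt f v = X.symm (Y v)) ∧
      Sim (X : AdjoinRoot f →ₗ[F] AdjoinRoot f) (R.prodMap (x • LinearMap.id : F →ₗ[F] F)) ∧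
      Sim (Y : AdjoinRoot f →ₗ[F] AdjoinRoot f) (R.prodMap (y • LinearMap.id : F →ₗ[F] F))

/-- The criterion: the extra eigenvalues of the first factors are permuted into those of the second ones. -/
theorem good_of_blk {ι : Type*} [Fintype ι] [Nonempty ι] (f : ι → F[X]) (r x : ι → F) (σ : Equiv.Perm ι)
    (hb : ∀ i, Blk (f i) (r i) (x i) (x (σ i))) (hdet : ∏ i, r i * x i = 1) : Good (opFam f) := by
  classical
  choose m R X Y hr hZ hX hY using hb
  choose P hP using hX
  choose Q hQ using hY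
  let M : (∀ i, (Fin (m i) → F) × F) →ₗ[F] (∀ i, (Fin (m i) → F) × F) :=
    LinearMap.pi fun i => ((R i).prodMap (x i • LinearMap.id : F →ₗ[F] F)).comp (LinearMap.proj i)
  let X' : (∀ i, AdjoinRoot (f i)) ≃ₗ[F] ∀ i, AdjoinRoot (f i) := LinearEquiv.piCongrRight X
  let Y' : (∀ i, AdjoinRoot (f i)) ≃ₗ[F] ∀ i, AdjoinRoot (f i) := LinearEquiv.piCongrRight Y
  have hXM : Sim (X' : _ →ₗ[F] _) M :=
    ⟨LinearEquiv.piCongrRight P, fun v => funext fun i => hP i (v i)⟩
  let π : (∀ i, (Fin (m i) → F) × F) ≃ₗ[F] (∀ i, (Fin (m i) → F) × F) :=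
    { toFun := fun v i => ((v i).1, (v (σ i)).2)
      invFun := fun v i => ((v i).1, (v (σ.symm i)).2)
      left_inv := fun v => funext fun i => Prod.ext rfl (congrArg (fun j => (v j).2) (σ.apply_symm_apply i))
      right_inv := fun v => funext fun i => Prod.ext rfl (congrArg (fun j => (v j).2) (σ.symm_apply_apply i))
      map_add' := fun _ _ => rfl
      map_smul' := fun _ _ => rfl }
  let N : (∀ i, (Fin (m i) → F) × F) →ₗ[F] (∀ i, (Fin (m i) → F) × F) :=
    LinearMap.pi fun i => ((R i).prodMap (x (σ i) • LinearMap.id : F →ₗ[F] F)).comp (LinearMap.proj i)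
  have hYN : Sim (Y' : (∀ i, AdjoinRoot (f i)) →ₗ[F] (∀ i, AdjoinRoot (f i))) N :=
    ⟨LinearEquiv.piCongrRight Q, fun v => funext fun i => hQ i (v i)⟩
  have hMN : Sim M N := ⟨π, fun v => funext fun i => rfl⟩
  have hXY : Sim (X' : (∀ i, AdjoinRoot (f i)) →ₗ[F] (∀ i, AdjoinRoot (f i)))
      (Y' : (∀ i, AdjoinRoot (f i)) →ₗ[F] (∀ i, AdjoinRoot (f i))) := hXM.trans (hMN.trans hYN.symm)
  refine good_of_pair X' Y' (fun v => funext fun i => hZ i (v i)) ?_ hXY fun c => ?_
  · rw [hXM.det_eq]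
    haveI : ∀ i, Module.Finite F ((Fin (m i) → F) × F) := fun i => inferInstance
    have h1 : LinearMap.det M = ∏ i, r i * x i := by
      let b : ∀ i, Basis _ F ((Fin (m i) → F) × F) := fun i => (Pi.basisFun F (Fin (m i))).prod (Basis.singleton Unit F)
      rw [← LinearMap.det_toMatrix (Pi.basis b)]
      have h2 : LinearMap.toMatrix (Pi.basis b) (Pi.basis b) M = Matrix.blockDiagonal' fun i =>
          LinearMap.toMatrix (b i) (b i) ((R i).prodMap (x i • LinearMap.id : F →ₗ[F] F)) := by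
        ext ⟨i, a⟩ ⟨j, c⟩
        rw [LinearMap.toMatrix_apply, Pi.basis_repr, Pi.basis_apply]
        rcases eq_or_ne i j with rfl | h
        · rw [Matrix.blockDiagonal'_apply_eq, LinearMap.toMatrix_apply]
          simp [M]
        · rw [Matrix.blockDiagonal'_apply_ne _ _ _ h]
          simp [M, h, Prod.mk_zero_zero]
      rw [h2, Cfsg.Lib.CanonicalForm.det_blockDiag]
      refine Finset.prod_congr rfl fun i _ => ?_
      rw [LinearMap.det_toMatrix, LinearMap.det_prodMap, hr, LinearMap.det_smul, Module.finrank_self, pow_one,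
        LinearMap.det_id, mul_one]
    rw [h1, hdet]
  · obtain ⟨i₀⟩ := ‹Nonempty ι›
    let u : ι → Fˣ := Function.update 1 i₀ c
    let T : (∀ i, (Fin (m i) → F) × F) ≃ₗ[F] (∀ i, (Fin (m i) → F) × F) :=
      LinearEquiv.piCongrRight fun i => (LinearEquiv.refl F (Fin (m i) → F)).prodCongr (LinearEquiv.smulOfUnit (u i))
    obtain ⟨Pi', hPi'⟩ := hXM
    refine ⟨(Pi'.trans T).trans Pi'.symm, ?_, fun v => ?_⟩
    · have h0 := det_conj_equiv Pi'.symm T
      rw [LinearEquiv.symm_symm] at h0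
      rw [h0]
      let b : ∀ i, Basis _ F ((Fin (m i) → F) × F) := fun i => (Pi.basisFun F (Fin (m i))).prod (Basis.singleton Unit F)
      rw [← LinearMap.det_toMatrix (Pi.basis b)]
      have h2 : LinearMap.toMatrix (Pi.basis b) (Pi.basis b) (T : _ →ₗ[F] _) = Matrix.blockDiagonal' fun i =>
          LinearMap.toMatrix (b i) (b i) ((LinearMap.id : (Fin (m i) → F) →ₗ[F] _).prodMap ((u i : F) • LinearMap.id : F →ₗ[F] F)) := by
        ext ⟨i, a⟩ ⟨j, d⟩
        rw [LinearMap.toMatrix_apply, Pi.basis_repr, Pi.basis_apply]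
        rcases eq_or_ne i j with rfl | h
        · rw [Matrix.blockDiagonal'_apply_eq, LinearMap.toMatrix_apply]
          simp [T, LinearEquiv.smulOfUnit, Units.smul_def]
        · rw [Matrix.blockDiagonal'_apply_ne _ _ _ h]
          simp [T, h, Prod.mk_zero_zero]
      rw [h2, Cfsg.Lib.CanonicalForm.det_blockDiag]
      rw [Finset.prod_eq_single i₀ (fun i _ hi => ?_) (fun h => absurd (Finset.mem_univ _) h)]
      · rw [LinearMap.det_toMatrix, LinearMap.det_prodMap, LinearMap.det_smul, Module.finrank_self, pow_one,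
          LinearMap.det_id, LinearMap.det_id, one_mul, mul_one]
        simp [u]
      · rw [LinearMap.det_toMatrix, LinearMap.det_prodMap, LinearMap.det_smul, Module.finrank_self, pow_one,
          LinearMap.det_id, LinearMap.det_id, one_mul, mul_one]
        simp [u, hi]
    · apply Pi'.injective
      have h3 : ∀ w, T (M w) = M (T w) := fun w => funext fun i => by
        simp [T, M, LinearEquiv.smulOfUnit, Units.smul_def, mul_left_comm]
      simp only [LinearEquiv.trans_apply, LinearEquiv.apply_symm_apply]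
      rw [show Pi' (X' v) = M (Pi' v) from hPi' v, h3]
      conv_rhs => rw [show ∀ w, Pi' (X' w) = M (Pi' w) from hPi', LinearEquiv.apply_symm_apply]

/-- From operators to matrices. -/
theorem exists_commutator {n : ℕ} (g : Matrix.SpecialLinearGroup (Fin n) F)
    (hg : Good (Matrix.toLin' g.1)) :
    ∃ a b : Matrix.SpecialLinearGroup (Fin n) F, g = a * b * a⁻¹ * b⁻¹ := by
  obtain ⟨a, b, ha, hb, h⟩ := hg
  refine ⟨⟨LinearMap.toMatrix' (a : (Fin n → F) →ₗ[F] (Fin n → F)), by rw [LinearMap.det_toMatrix']; exact ha⟩,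
    ⟨LinearMap.toMatrix' (b : (Fin n → F) →ₗ[F] (Fin n → F)), by rw [LinearMap.det_toMatrix']; exact hb⟩, ?_⟩
  refine eq_mul_inv_of_mul_eq (eq_mul_inv_of_mul_eq ?_)
  refine Subtype.ext (Matrix.toLin'.injective (LinearMap.ext fun v => ?_))
  show Matrix.toLin' (g.1 * LinearMap.toMatrix' (b : (Fin n → F) →ₗ[F] (Fin n → F)) *
      LinearMap.toMatrix' (a : (Fin n → F) →ₗ[F] (Fin n → F))) v =
    Matrix.toLin' (LinearMap.toMatrix' (a : (Fin n → F) →ₗ[F] (Fin n → F)) *
      LinearMap.toMatrix' (b : (Fin n → F) →ₗ[F] (Fin n → F))) v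
  rw [Matrix.toLin'_mul, Matrix.toLin'_mul, Matrix.toLin'_mul, Matrix.toLin'_toMatrix', Matrix.toLin'_toMatrix']
  exact h v

/-- From canonical forms to operators. -/
theorem good_of_hasForm {n : ℕ} (A : Matrix (Fin n) (Fin n) F) {ι : Type u} {f : ι → F[X]}
    (h : Cfsg.Lib.CanonicalForm.HasForm A f) (hg : Good (opFam f)) : Good (Matrix.toLin' A) := by
  obtain ⟨Ψ, hΨ⟩ := h
  exact hg.of_sim (Sim.symm (⟨Ψ, fun v => funext fun i => hΨ v i⟩ : Sim (Matrix.toLin' A) (opFam f)))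

theorem dv_prod_of_hasForm {n : ℕ} (A : Matrix (Fin n) (Fin n) F) {ι : Type u} [Fintype ι] [DecidableEq ι]
    {f : ι → F[X]} (hm : ∀ i, (f i).Monic) (h : Cfsg.Lib.CanonicalForm.HasForm A f) :
    ∏ i, dv (f i) = A.det := by
  obtain ⟨Ψ, hΨ⟩ := h
  rw [← LinearMap.det_toLin', Sim.det_eq (⟨Ψ, fun v => funext fun i => hΨ v i⟩ : Sim (Matrix.toLin' A) (opFam f))]
  haveI : ∀ i, Module.Finite F (AdjoinRoot (f i)) := fun i => (hm i).finite_adjoinRoot
  let b := fun i => (AdjoinRoot.powerBasis' (hm i)).basis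
  rw [← LinearMap.det_toMatrix (Pi.basis b)]
  have h2 : LinearMap.toMatrix (Pi.basis b) (Pi.basis b) (opFam f) = Matrix.blockDiagonal' fun i =>
      LinearMap.toMatrix (b i) (b i) (rt (f i)) := by
    ext ⟨i, a⟩ ⟨j, d⟩
    rw [LinearMap.toMatrix_apply, Pi.basis_repr, Pi.basis_apply]
    rcases eq_or_ne i j with rfl | h
    · rw [Matrix.blockDiagonal'_apply_eq, LinearMap.toMatrix_apply, opFam_apply]
      simp [rt]
    · rw [Matrix.blockDiagonal'_apply_ne _ _ _ h, opFam_apply]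
      simp [h]
  rw [h2, Cfsg.Lib.CanonicalForm.det_blockDiag]
  exact Finset.prod_congr rfl fun i _ => by rw [LinearMap.det_toMatrix, rt_det (hm i)]

end Cfsg.Lib.Linear.SLComm
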