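import Cfsg.Agent.Lib.Linear.SLCommutator.Basic

/-!
# Prescribing the characteristic polynomial by one row

A matrix with a cyclic vector `e` can be given any monic annihilator of `e` by changing one row;
this turns a pair of triangular factors into a factorisation of a companion block.
-/

set_option autoImplicit false
set_option linter.unusedSectionVars false

universe u

namespace Cfsg.Lib.Linear.SLComm

open Polynomial Module
open scoped Matrix

variable {F : Type u} [Field F] {ι : Type} [Fintype ι] [DecidableEq ι]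

/-- The orbit of `e` spans. -/
def Cyc (M : Matrix ι ι F) (e : ι → F) : Prop :=
  Submodule.span F (Set.range fun i : ℕ => (M ^ i) *ᵥ e) = ⊤

/-- A criterion for cyclicity: an invariant subspace containing `e` is everything. -/
theorem cyc_iff (M : Matrix ι ι F) (e : ι → F) :
    Cyc M e ↔ ∀ K : Submodule F (ι → F), e ∈ K → (∀ v ∈ K, M *ᵥ v ∈ K) → K = ⊤ := by
  constructor
  · intro h K he hK
    rw [eq_top_iff, ← h, Submodule.span_le]
    rintro _ ⟨i, rfl⟩
    show (M ^ i) *ᵥ e ∈ K
    induction i with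
    | zero => rwa [pow_zero, Matrix.one_mulVec]
    | succ i ih => rw [pow_succ', ← Matrix.mulVec_mulVec]; exact hK _ ih
  · intro h
    refine h _ (Submodule.subset_span ⟨0, by simp⟩) fun v hv => ?_
    have h1 : M *ᵥ v ∈ (Submodule.span F (Set.range fun i : ℕ => (M ^ i) *ᵥ e)).map (Matrix.mulVecLin M) :=
      ⟨v, hv, rfl⟩
    rw [Submodule.map_span] at h1
    refine Submodule.span_mono ?_ h1
    rintro _ ⟨_, ⟨i, rfl⟩, rfl⟩
    exact ⟨i + 1, by simp [pow_succ', Matrix.mulVec_mulVec]⟩

/-- A matrix with a cyclic vector is similar to the root of an annihilator of full degree. -/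
theorem cyclic_sim (M : Matrix ι ι F) (e : ι → F) (he : Cyc M e) {f : F[X]} (hf : f.Monic)
    (hdeg : f.natDegree = Fintype.card ι) (hann : aeval M f *ᵥ e = 0) : Sim (rt f) (Matrix.toLin' M) := by
  haveI := hf.finite_adjoinRoot
  let Φ : AdjoinRoot f →ₗ[F] (ι → F) :=
    { toFun := fun v => aeval M (AdjoinRoot.modByMonicHom hf v) *ᵥ e
      map_add' := fun v w => by rw [map_add, map_add, Matrix.add_mulVec]
      map_smul' := fun c v => by rw [map_smul, map_smul, Matrix.smul_mulVec, RingHom.id_apply] }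
  have hΦ : ∀ g : F[X], Φ (AdjoinRoot.mk f g) = aeval M g *ᵥ e := fun g => by
    show aeval M (AdjoinRoot.modByMonicHom hf (AdjoinRoot.mk f g)) *ᵥ e = _
    rw [AdjoinRoot.modByMonicHom_mk]
    conv_rhs => rw [← Polynomial.modByMonic_add_div g f, map_add, Matrix.add_mulVec, mul_comm f,
      map_mul, ← Matrix.mulVec_mulVec, hann, Matrix.mulVec_zero, add_zero]
  have hsurj : Function.Surjective Φ := by
    rw [← LinearMap.range_eq_top, eq_top_iff, ← he, Submodule.span_le]
    rintro _ ⟨i, rfl⟩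
    exact ⟨AdjoinRoot.mk f (X ^ i), by rw [hΦ, map_pow, aeval_X]⟩
  have hd : finrank F (AdjoinRoot f) = finrank F (ι → F) := by
    rw [Module.finrank_fintype_fun_eq_card, ← hdeg, (AdjoinRoot.powerBasis' hf).finrank]
    rfl
  refine ⟨LinearEquiv.ofBijective Φ ⟨(LinearMap.injective_iff_surjective_of_finrank_eq_finrank hd).2 hsurj, hsurj⟩,
    fun v => ?_⟩
  obtain ⟨g, rfl⟩ := AdjoinRoot.mk_surjective v
  show Φ (AdjoinRoot.root f * AdjoinRoot.mk f g) = M *ᵥ Φ (AdjoinRoot.mk f g)
  rw [← AdjoinRoot.mk_X, ← map_mul, hΦ, hΦ, map_mul, aeval_X, Matrix.mulVec_mulVec]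

theorem coeff_divX_iterate (p : F[X]) : ∀ j i : ℕ, (divX^[j] p).coeff i = p.coeff (i + j) := by
  intro j
  induction j with
  | zero => intro i; rfl
  | succ j ih => intro i; rw [Function.iterate_succ_apply', coeff_divX, ih]; congr 1; omega

theorem divX_iterate_natDegree {p : F[X]} (hp : p.Monic) : divX^[p.natDegree] p = 1 := by
  ext i
  rw [coeff_divX_iterate]
  rcases Nat.eq_zero_or_pos i with rfl | hi
  · rw [zero_add, coeff_one_zero]
    exact hp
  · rw [coeff_eq_zero_of_natDegree_lt (by omega), coeff_one, if_neg (by omega)]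

/-- Changing one row prescribes the annihilator of a cyclic vector. -/
theorem exists_change (M : Matrix ι ι F) (e : ι → F) (he : Cyc M e) {f : F[X]} (hf : f.Monic)
    (hdeg : f.natDegree = Fintype.card ι) :
    ∃ w : ι → F, Sim (rt f) (Matrix.toLin' (M + Matrix.vecMulVec e w)) := by
  classical
  set k := Fintype.card ι with hk
  set χ := M.charpoly with hχ
  have hχk : χ.natDegree = k := M.charpoly_natDegree_eq_dim
  let b : ℕ → ι → F := fun j => aeval M (divX^[j] χ) *ᵥ e
  have hb0 : b 0 = 0 := by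
    show aeval M χ *ᵥ e = 0
    rw [hχ, Matrix.aeval_self_charpoly, Matrix.zero_mulVec]
  have hbk : b k = e := by
    show aeval M (divX^[k] χ) *ᵥ e = e
    rw [← hχk, divX_iterate_natDegree M.charpoly_monic, map_one, Matrix.one_mulVec]
  have hrec : ∀ j, b j = M *ᵥ b (j + 1) + χ.coeff j • e := fun j => by
    show aeval M (divX^[j] χ) *ᵥ e = _
    conv_lhs => rw [← X_mul_divX_add (divX^[j] χ), map_add, map_mul, aeval_X, aeval_C, Matrix.add_mulVec,
      ← Matrix.mulVec_mulVec, coeff_divX_iterate, zero_add, Algebra.algebraMap_eq_smul_one, Matrix.smul_mulVec,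
      Matrix.one_mulVec, ← Function.iterate_succ_apply' divX j χ]
  have hspan : ⊤ ≤ Submodule.span F (Set.range fun j : Fin k => b (j + 1)) := by
    refine le_of_eq ((cyc_iff M e).1 he _ ?_ fun v hv => ?_).symm
    · rcases Nat.eq_zero_or_pos k with h0 | h0
      · haveI : IsEmpty ι := Fintype.card_eq_zero_iff.1 h0
        rw [show e = 0 from Subsingleton.elim _ _]
        exact zero_mem _
      · refine Submodule.subset_span ⟨⟨k - 1, by omega⟩, ?_⟩
        show b (k - 1 + 1) = e
        rw [show k - 1 + 1 = k by omega, hbk]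
    · have he' : e ∈ Submodule.span F (Set.range fun j : Fin k => b (j + 1)) := by
        rcases Nat.eq_zero_or_pos k with h0 | h0
        · haveI : IsEmpty ι := Fintype.card_eq_zero_iff.1 h0
          rw [show e = 0 from Subsingleton.elim _ _]
          exact zero_mem _
        · refine Submodule.subset_span ⟨⟨k - 1, by omega⟩, ?_⟩
          show b (k - 1 + 1) = e
          rw [show k - 1 + 1 = k by omega, hbk]
      have h1 : Submodule.span F (Set.range fun j : Fin k => b (j + 1)) ≤
          (Submodule.span F (Set.range fun j : Fin k => b (j + 1))).comap M.mulVecLin := by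
        rw [Submodule.span_le]
        rintro _ ⟨⟨j, hj⟩, rfl⟩
        show M *ᵥ b (j + 1) ∈ Submodule.span F (Set.range fun j : Fin k => b (j + 1))
        rw [show M *ᵥ b (j + 1) = b j - χ.coeff j • e from eq_sub_of_add_eq (hrec j).symm]
        refine sub_mem ?_ (Submodule.smul_mem _ _ he')
        rcases j with _ | j
        · rw [hb0]; exact zero_mem _
        · exact Submodule.subset_span ⟨⟨j, by omega⟩, rfl⟩
      exact h1 hv
  let bas : Basis (Fin k) F (ι → F) := basisOfTopLeSpanOfCardEqFinrank (fun j : Fin k => b (j + 1)) hspan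
    (by rw [Fintype.card_fin, Module.finrank_fintype_fun_eq_card])
  let L : (ι → F) →ₗ[F] F := bas.constr F fun j => χ.coeff j - f.coeff j
  let w : ι → F := fun i => L (Pi.single i 1)
  have hw : ∀ v, w ⬝ᵥ v = L v := fun v => by
    conv_rhs => rw [pi_eq_sum_univ' v]
    rw [map_sum, dotProduct]
    refine Finset.sum_congr rfl fun i _ => ?_
    rw [LinearMap.map_smul, smul_eq_mul, mul_comm]
  set M' := M + Matrix.vecMulVec e w with hM'
  have hM'v : ∀ v, M' *ᵥ v = M *ᵥ v + L v • e := fun v => by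
    rw [hM', Matrix.add_mulVec, Matrix.vecMulVec_mulVec, hw, op_smul_eq_smul]
  have hstep : ∀ j, j < k → M' *ᵥ b (j + 1) + f.coeff j • e = b j := fun j hj => by
    have hL : L (b (j + 1)) = χ.coeff j - f.coeff j := by
      rw [show b (j + 1) = bas ⟨j, hj⟩ by rw [coe_basisOfTopLeSpanOfCardEqFinrank], Basis.constr_basis]
    rw [hM'v, hL, hrec j, sub_smul]
    abel
  have hmain : ∀ d, d ≤ k → aeval M' (divX^[k - d] f) *ᵥ e = b (k - d) := by
    intro d
    induction d with
    | zero => intro _; rw [Nat.sub_zero, hbk, ← hdeg, divX_iterate_natDegree hf, map_one, Matrix.one_mulVec]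
    | succ d ih =>
      intro hd
      have hj : k - d = k - (d + 1) + 1 := by omega
      have h1 := ih (by omega)
      rw [hj, Function.iterate_succ_apply'] at h1
      conv_lhs => rw [← X_mul_divX_add (divX^[k - (d + 1)] f), map_add, map_mul, aeval_X, aeval_C,
        Matrix.add_mulVec, ← Matrix.mulVec_mulVec, coeff_divX_iterate, zero_add, Algebra.algebraMap_eq_smul_one,
        Matrix.smul_mulVec, Matrix.one_mulVec, h1]
      exact hstep _ (by omega)
  refine ⟨w, cyclic_sim M' e ?_ hf hdeg ?_⟩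
  · rw [cyc_iff]
    intro K heK hK
    have hbK : ∀ d, d ≤ k → b (k - d) ∈ K := by
      intro d
      induction d with
      | zero => intro _; rwa [Nat.sub_zero, hbk]
      | succ d ih =>
        intro hd
        rw [← hstep _ (show k - (d + 1) < k by omega), show k - (d + 1) + 1 = k - d by omega]
        exact add_mem (hK _ (ih (by omega))) (Submodule.smul_mem _ _ heK)
    rw [eq_top_iff]
    refine hspan.trans (Submodule.span_le.2 ?_)
    rintro _ ⟨⟨j, hj⟩, rfl⟩
    show b (j + 1) ∈ K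
    rw [show j + 1 = k - (k - (j + 1)) by omega]
    exact hbK _ (by omega)
  · have h := hmain k le_rfl
    rwa [Nat.sub_self, hb0] at h

/-- The lower factor. -/
def lowP {m : ℕ} (S : Matrix (Fin m) (Fin m) F) (z : Fin m → F) (c : F) : Matrix (Fin m ⊕ Unit) (Fin m ⊕ Unit) F :=
  Matrix.fromBlocks S 0 (Matrix.of fun _ j => z j) (Matrix.of fun _ _ => c)

/-- The last unit vector. -/
def eLast (F : Type u) [Field F] (m : ℕ) : Fin m ⊕ Unit → F := Pi.single (Sum.inr ()) 1

theorem lowP_det {m : ℕ} (S : Matrix (Fin m) (Fin m) F) (z : Fin m → F) (c : F) :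
    (lowP S z c).det = S.det * c := by
  rw [lowP, Matrix.det_fromBlocks_zero₁₂]; congr 1; rw [Matrix.det_unique]
  rfl

/-- A companion block from the two factors. -/
theorem blk_of {m : ℕ} (S S' : Matrix (Fin m) (Fin m) F) (hS : S * S' = 1)
    (Q : Matrix (Fin m ⊕ Unit) (Fin m ⊕ Unit) F) (R : (Fin m → F) →ₗ[F] (Fin m → F)) {x y : F} (hx : x ≠ 0)
    (hy : y ≠ 0) {f : F[X]} (hf : f.Monic) (hdeg : f.natDegree = m + 1) (hd : dv f = y / x)
    (hSR : Sim (Matrix.toLin' S') R) (hQR : Sim (Matrix.toLin' Q) (R.prodMap (y • LinearMap.id : F →ₗ[F] F)))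
    (hcyc : Cyc (lowP S 0 1 * Q) (eLast F m))
    (hz : ∀ z : Fin m → F, (lowP S z x⁻¹ * Q).charpoly = f → ∃ v : Fin m → F, v ᵥ* (x⁻¹ • 1 - S) = z) :
    Blk f (LinearMap.det R) x y := by
  classical
  haveI := hf.finite_adjoinRoot
  have hRdet : LinearMap.det R ≠ 0 := by
    rw [← hSR.det_eq, LinearMap.det_toLin']
    intro h0
    have h := congrArg Matrix.det hS
    rw [Matrix.det_mul, h0, mul_zero, Matrix.det_one] at h
    exact zero_ne_one h
  have hQdet : Q.det = LinearMap.det R * y := by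
    rw [← LinearMap.det_toLin', hQR.det_eq, LinearMap.det_prodMap, LinearMap.det_smul, Module.finrank_self, pow_one,
      LinearMap.det_id, mul_one]
  have hQu : IsUnit Q := (Matrix.isUnit_iff_isUnit_det _).2 (isUnit_iff_ne_zero.2 (by
    rw [hQdet]; exact mul_ne_zero hRdet hy))
  obtain ⟨Qi, hQi⟩ := hQu.exists_left_inv
  have hQi' : Q * Qi = 1 := mul_eq_one_comm.1 hQi
  obtain ⟨w, hw⟩ := exists_change _ (eLast F m) hcyc hf (by simp [hdeg])
  obtain ⟨u, hu⟩ : ∃ u, u = w ᵥ* Qi := ⟨_, rfl⟩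
  have hP : lowP S 0 1 * Q + Matrix.vecMulVec (eLast F m) w =
      lowP S (fun j => u (Sum.inl j)) (1 + u (Sum.inr ())) * Q := by
    have h1 : lowP S (fun j => u (Sum.inl j)) (1 + u (Sum.inr ())) =
        lowP S 0 1 + Matrix.vecMulVec (eLast F m) u := by
      ext (i | i) (j | j) <;> simp [lowP, eLast, Matrix.vecMulVec_apply]
    rw [h1, add_mul, Matrix.vecMulVec_mul, hu, Matrix.vecMul_vecMul, hQi, Matrix.vecMul_one]
  rw [hP] at hw
  obtain ⟨c, hc⟩ : ∃ c, c = 1 + u (Sum.inr ()) := ⟨_, rfl⟩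
  obtain ⟨z, hzd⟩ : ∃ z, z = fun j => u (Sum.inl j) := ⟨_, rfl⟩
  rw [← hc, ← hzd] at hw
  have hchar : (lowP S z c * Q).charpoly = f := by
    rw [← Matrix.charpoly_toLin', ← rt_charpoly hf]
    obtain ⟨Ψ, hΨ⟩ := hw
    rw [← LinearEquiv.charpoly_conj Ψ (rt f)]
    congr 1
    exact LinearMap.ext fun v => by simp [hΨ]
  have hcx : c = x⁻¹ := by
    have h1 := hw.det_eq
    rw [rt_det hf, hd, LinearMap.det_toLin', Matrix.det_mul, lowP_det, hQdet] at h1
    have hSd : S.det * LinearMap.det R = 1 := by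
      rw [← hSR.det_eq, LinearMap.det_toLin', ← Matrix.det_mul, hS, Matrix.det_one]
    have h2 : y * (c * x) = y * 1 := by
      field_simp at h1
      linear_combination (-y) * h1 - (c * x * y) * hSd
    exact eq_inv_of_mul_eq_one_left (mul_left_cancel₀ hy h2)
  subst hcx
  obtain ⟨v, hv⟩ := hz z hchar
  obtain ⟨Ψ, hΨ⟩ := hw
  have hPu : IsUnit (lowP S z x⁻¹) := (Matrix.isUnit_iff_isUnit_det _).2 (isUnit_iff_ne_zero.2 (by
    rw [lowP_det]
    refine mul_ne_zero (fun h0 => ?_) (inv_ne_zero hx)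
    have h := congrArg Matrix.det hS
    rw [Matrix.det_mul, h0, zero_mul, Matrix.det_one] at h
    exact zero_ne_one h))
  obtain ⟨Pi', hPi⟩ := hPu.exists_left_inv
  have hPi' : lowP S z x⁻¹ * Pi' = 1 := mul_eq_one_comm.1 hPi
  let PE : (Fin m ⊕ Unit → F) ≃ₗ[F] (Fin m ⊕ Unit → F) := LinearEquiv.ofLinear (Matrix.toLin' Pi')
    (Matrix.toLin' (lowP S z x⁻¹)) (by rw [← Matrix.toLin'_mul, hPi, Matrix.toLin'_one])
    (by rw [← Matrix.toLin'_mul, hPi', Matrix.toLin'_one])
  let QE : (Fin m ⊕ Unit → F) ≃ₗ[F] (Fin m ⊕ Unit → F) := LinearEquiv.ofLinear (Matrix.toLin' Q) (Matrix.toLin' Qi)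
    (by rw [← Matrix.toLin'_mul, hQi', Matrix.toLin'_one]) (by rw [← Matrix.toLin'_mul, hQi, Matrix.toLin'_one])
  refine ⟨m, R, (Ψ.trans PE).trans Ψ.symm, (Ψ.trans QE).trans Ψ.symm, rfl, fun a => ?_, ?_, ?_⟩
  · apply Ψ.injective
    show _ = Ψ (Ψ.symm (PE.symm (Ψ (Ψ.symm (QE (Ψ a))))))
    rw [LinearEquiv.apply_symm_apply, LinearEquiv.apply_symm_apply]
    rw [hΨ, Matrix.toLin'_mul]
    rfl
  · refine Sim.trans (g := Matrix.toLin' Pi') ⟨Ψ, fun a => by simp [PE]⟩ ?_
    obtain ⟨G, hG⟩ := hSR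
    let E : (Fin m ⊕ Unit → F) ≃ₗ[F] (Fin m → F) × F :=
      { toFun := fun a => (G fun i => a (Sum.inl i), a (Sum.inr ()) + v ⬝ᵥ fun i => a (Sum.inl i))
        invFun := fun p s => Sum.elim (fun i => G.symm p.1 i) (fun _ => p.2 - v ⬝ᵥ G.symm p.1) s
        left_inv := fun a => funext fun s => by rcases s with i | ⟨⟩ <;> simp
        right_inv := fun p => by simp
        map_add' := fun a b => by
          refine Prod.ext ?_ ?_
          · simp only [Prod.fst_add, ← map_add]; rfl
          · show a (Sum.inr ()) + b (Sum.inr ()) + v ⬝ᵥ ((fun i => a (Sum.inl i)) + fun i => b (Sum.inl i)) = _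
            rw [dotProduct_add]
            simp only [Prod.snd_add]
            ring
        map_smul' := fun r a => by
          refine Prod.ext ?_ ?_
          · simp only [RingHom.id_apply, Prod.smul_fst, ← map_smul]; rfl
          · show r * a (Sum.inr ()) + v ⬝ᵥ (r • fun i => a (Sum.inl i)) = _
            rw [dotProduct_smul]
            simp only [RingHom.id_apply, Prod.smul_snd, smul_eq_mul]
            ring }
    refine ⟨E, fun a => ?_⟩
    obtain ⟨b, rfl⟩ : ∃ b, lowP S z x⁻¹ *ᵥ b = a := ⟨Pi' *ᵥ a, by rw [Matrix.mulVec_mulVec, hPi', Matrix.one_mulVec]⟩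
    rw [Matrix.toLin'_apply, Matrix.mulVec_mulVec, hPi, Matrix.one_mulVec]
    have hl : (fun i => (lowP S z x⁻¹ *ᵥ b) (Sum.inl i)) = S *ᵥ fun i => b (Sum.inl i) := by
      funext i
      simp [lowP, Matrix.mulVec, dotProduct, Fintype.sum_sum_type]
    have hr : (lowP S z x⁻¹ *ᵥ b) (Sum.inr ()) = (z ⬝ᵥ fun i => b (Sum.inl i)) + x⁻¹ * b (Sum.inr ()) := by
      simp [lowP, Matrix.mulVec, dotProduct, Fintype.sum_sum_type]
    refine Prod.ext ?_ ?_
    · show G (fun i => b (Sum.inl i)) = R (G fun i => (lowP S z x⁻¹ *ᵥ b) (Sum.inl i))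
      rw [hl, ← hG, Matrix.toLin'_apply, Matrix.mulVec_mulVec, mul_eq_one_comm.1 hS, Matrix.one_mulVec]
    · show b (Sum.inr ()) + v ⬝ᵥ (fun i => b (Sum.inl i)) =
        x • ((lowP S z x⁻¹ *ᵥ b) (Sum.inr ()) + v ⬝ᵥ fun i => (lowP S z x⁻¹ *ᵥ b) (Sum.inl i))
      rw [hl, hr, ← hv, ← Matrix.dotProduct_mulVec, Matrix.sub_mulVec, Matrix.smul_mulVec, Matrix.one_mulVec,
        dotProduct_sub, dotProduct_smul, smul_eq_mul, smul_eq_mul]
      field_simp
      ring
  · exact Sim.trans (g := Matrix.toLin' Q) ⟨Ψ, fun a => by simp [QE]⟩ hQR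

end Cfsg.Lib.Linear.SLComm
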