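import Cfsg.Agent.Lib.Linear.SLCommutator.Family

/-!
# Families of quadratic and linear blocks

Copies of one block of degree two and of one linear block.
-/

set_option autoImplicit false
set_option linter.unusedSectionVars false

universe u

namespace Cfsg.Lib.Linear.SLComm

open Polynomial Module

variable {F : Type u} [Field F] [Fintype F]

/-- Copies of two polynomials as a family. -/
def two (f g : F[X]) (a c : ℕ) : Fin a ⊕ Fin c → F[X] := Sum.elim (fun _ => f) fun _ => g

theorem map_two (f g : F[X]) (a c : ℕ) :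
    (Finset.univ : Finset (Fin a ⊕ Fin c)).val.map (two f g a c) = Multiset.replicate a f + Multiset.replicate c g := by
  rw [show (Finset.univ : Finset (Fin a ⊕ Fin c)).val = (Finset.univ.val.map Sum.inl) + (Finset.univ.val.map Sum.inr) from rfl,
    Multiset.map_add, Multiset.map_map, Multiset.map_map]
  show Finset.univ.val.map (fun _ : Fin a => f) + Finset.univ.val.map (fun _ : Fin c => g) = _
  rw [Multiset.map_const', Multiset.map_const', Finset.card_val, Finset.card_val, Finset.card_univ, Finset.card_univ,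
    Fintype.card_fin, Fintype.card_fin]

/-- At least two quadratic blocks over at least six elements. -/
theorem gm_six (hq : 6 ≤ Fintype.card F) {ι : Type} [Fintype ι] [DecidableEq ι] (f : ι → F[X])
    (hm : ∀ i, (f i).Monic) (hdeg : ∀ i, 1 ≤ (f i).natDegree) (σ : Equiv.Perm ι) (x : ι → F) (hx : ∀ i, x i ≠ 0)
    (hd : ∀ i, x i * dv (f i) = x (σ i)) {i₀ i₁ : ι} (hne : i₀ ≠ i₁) (h0 : (f i₀).natDegree = 2)
    (h1 : (f i₁).natDegree = 2) : GM ((Finset.univ : Finset ι).val.map f) := by
  classical
  haveI : Nonempty ι := ⟨i₀⟩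
  have hc := fun i : ι => exists_choice (by omega : 4 ≤ Fintype.card F) (x i) (x (σ i))
  choose r hr0 hrx hry using hc
  let r' : ι → F := fun i => if (f i).natDegree = 2 then r i else 1
  have hr' : ∀ i, r' i ≠ 0 := fun i => by
    simp only [r']
    split_ifs
    · exact hr0 i
    · exact one_ne_zero
  obtain ⟨P, hPd⟩ : ∃ P, P = x i₀ * x i₁ * ∏ i ∈ (Finset.univ.erase i₀).erase i₁, r' i * x i := ⟨_, rfl⟩
  have hP : P ≠ 0 := by
    rw [hPd]
    exact mul_ne_zero (mul_ne_zero (hx _) (hx _)) (Finset.prod_ne_zero_iff.2 fun i _ => mul_ne_zero (hr' i) (hx i))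
  obtain ⟨a, ha0, ha⟩ := exists_avoid ({x i₀, x (σ i₀), P⁻¹ / x i₁, P⁻¹ / x (σ i₁)} : Finset F) (by
    have := Finset.card_le_four (a := x i₀) (b := x (σ i₀)) (c := P⁻¹ / x i₁) (d := P⁻¹ / x (σ i₁))
    omega)
  simp only [Finset.mem_insert, Finset.mem_singleton, not_or] at ha
  obtain ⟨ha1, ha2, ha3, ha4⟩ := ha
  have hb0 : P⁻¹ / a ≠ 0 := div_ne_zero (inv_ne_zero hP) ha0
  have hb : ∀ z : F, z ≠ 0 → a ≠ P⁻¹ / z → P⁻¹ / a ≠ z := fun z hz h e => h (by rw [← e]; field_simp)
  refine gm_chain f hm hdeg σ (Function.update (Function.update r' i₁ (P⁻¹ / a)) i₀ a) x (fun i => ?_) hx hd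
    (fun i hi => ?_) (fun i hi => ?_) ?_
  · by_cases h : i = i₀
    · rw [h, Function.update_self]; exact ha0
    · rw [Function.update_of_ne h]
      by_cases h' : i = i₁
      · rw [h', Function.update_self]; exact hb0
      · rw [Function.update_of_ne h']; exact hr' i
  · rw [Function.update_of_ne (fun h => by rw [h] at hi; omega), Function.update_of_ne (fun h => by rw [h] at hi; omega)]
    simp [r', show (f i).natDegree ≠ 2 by omega]
  · by_cases h : i = i₀
    · rw [h, Function.update_self]; exact ⟨ha1, ha2⟩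
    · rw [Function.update_of_ne h]
      by_cases h' : i = i₁
      · rw [h', Function.update_self]; exact ⟨hb _ (hx _) ha3, hb _ (hx _) ha4⟩
      · rw [Function.update_of_ne h']
        simp only [r', if_pos hi]
        exact ⟨hrx i, hry i⟩
  · rw [← Finset.mul_prod_erase _ _ (Finset.mem_univ i₀),
      ← Finset.mul_prod_erase _ _ (Finset.mem_erase.2 ⟨hne.symm, Finset.mem_univ i₁⟩), Function.update_self,
      Function.update_of_ne hne.symm, Function.update_self,
      Finset.prod_congr rfl (g := fun i => r' i * x i) (fun i hi => by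
        rw [Function.update_of_ne (Finset.ne_of_mem_erase (Finset.mem_of_mem_erase hi)),
          Function.update_of_ne (Finset.ne_of_mem_erase hi)])]
    generalize hE : ∏ i ∈ (Finset.univ.erase i₀).erase i₁, r' i * x i = E at hPd
    calc a * x i₀ * (P⁻¹ / a * x i₁ * E) = P⁻¹ * (x i₀ * x i₁ * E) := by field_simp
      _ = 1 := by rw [← hPd, inv_mul_cancel₀ hP]

/-- Running products give a chain on any finite ordered index. -/
theorem exists_chain {ι : Type} [Fintype ι] [Nonempty ι] (d : ι → F) (hd0 : ∀ i, d i ≠ 0) (hd : ∏ i, d i = 1) :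
    ∃ (σ : Equiv.Perm ι) (x : ι → F), (∀ i, x i ≠ 0) ∧ ∀ i, x i * d i = x (σ i) := by
  obtain ⟨k, hk⟩ : ∃ k, Fintype.card ι = k + 1 := ⟨Fintype.card ι - 1, by have := Fintype.card_pos (α := ι); omega⟩
  let e : ι ≃ Fin (k + 1) := (Fintype.equivFin ι).trans (finCongr hk)
  refine ⟨(e.trans (finRotate (k + 1))).trans e.symm, fun i => run (fun j => d (e.symm j)) (e i), fun i => ?_,
    fun i => ?_⟩
  · exact Finset.prod_ne_zero_iff.2 fun j _ => hd0 _
  · have h := run_succ (fun j => d (e.symm j)) (by rw [e.symm.prod_comp d]; exact hd) (e i)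
    rw [e.symm_apply_apply] at h
    simpa using h

/-- At least two copies of the same quadratic block over four or five elements. -/
theorem gm_small_copies (hq : 4 ≤ Fintype.card F) (hq' : Fintype.card F ≤ 5) {f : F[X]} (hf : f.Monic)
    (hdeg : f.natDegree = 2) {a : ℕ} (ha : 2 ≤ a) (hd : dv f ^ a = 1)
    (hmin : ∀ j, 1 ≤ j → j < a → dv f ^ j ≠ 1) : GM (Multiset.replicate a f) := by
  classical
  obtain ⟨d, hdd⟩ : ∃ d, d = dv f := ⟨_, rfl⟩
  rw [← hdd] at hd hmin
  have hd0 : d ≠ 0 := fun h => by rw [h, zero_pow (by omega)] at hd; exact zero_ne_one hd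
  have hord : orderOf d = a := (orderOf_eq_iff (by omega)).2 ⟨hd, fun j hj hj0 => hmin j hj0 hj⟩
  have hdvd : a ∣ Fintype.card F - 1 := by
    rw [← hord]
    exact orderOf_dvd_of_pow_eq_one (FiniteField.pow_card_sub_one_eq_one d hd0)
  have hale : a ≤ 4 := le_trans (Nat.le_of_dvd (by omega) hdvd) (by omega)
  have hmap : (Finset.univ : Finset (Fin a)).val.map (fun _ : Fin a => f) = Multiset.replicate a f := by
    rw [Multiset.map_const', Finset.card_val, Finset.card_univ, Fintype.card_fin]
  rw [← hmap]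
  haveI : Nonempty (Fin a) := ⟨⟨0, by omega⟩⟩
  have h1 : d ≠ 1 := fun h => hmin 1 le_rfl (by omega) (by rw [pow_one, h])
  interval_cases a
  · -- two copies
    obtain ⟨u, hu0, hu⟩ := exists_avoid ({1, -1} : Finset F) (by
      have := Finset.card_le_two (a := (1 : F)) (b := -1); omega)
    simp only [Finset.mem_insert, Finset.mem_singleton, not_or] at hu
    have hu4 : (u ^ 2) ^ 2 = 1 := by
      have h := FiniteField.pow_card_sub_one_eq_one u hu0
      rcases (show Fintype.card F = 4 ∨ Fintype.card F = 5 by omega) with hc | hc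
      · rw [hc] at hdvd; norm_num at hdvd
      · rw [hc] at h; rw [← pow_mul]; exact h
    have hu2 : u ^ 2 ≠ 1 := fun h => (sq_eq_one_iff.1 h).elim hu.1 hu.2
    have hud : u ^ 2 = d := by
      rcases sq_eq_one_iff.1 hu4 with h | h
      · exact absurd h hu2
      · rw [h, (sq_eq_one_iff.1 hd).resolve_left h1]
    refine gm_chain _ (fun _ => hf) (fun _ => by omega) (finRotate 2) ![u, u] ![1, d] (fun i => ?_) (fun i => ?_)
      (fun i => ?_) (fun i hi => absurd hi (by omega)) (fun i _ => ?_) ?_
    · fin_cases i <;> exact hu0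
    · fin_cases i <;> simp [hd0]
    · rw [← hdd]; fin_cases i <;> simp [← pow_two, hd]
    · have hud' : u ≠ d := fun h => by
        rw [← h] at hud
        exact hu.1 (mul_left_cancel₀ hu0 (by rw [mul_one, ← pow_two]; exact hud))
      fin_cases i <;> simp [hu.1, hud']
    · rw [Fin.prod_univ_two]
      simp only [Matrix.cons_val_zero, Matrix.cons_val_one]
      rw [mul_one, ← mul_assoc, ← pow_two, hud, ← pow_two, hd]
  · -- three copies
    have h2 : d ^ 2 ≠ 1 := hmin 2 (by omega) (by omega)
    refine gm_chain _ (fun _ => hf) (fun _ => by omega) (finRotate 3) ![d ^ 2, 1, d] ![1, d, d ^ 2] (fun i => ?_)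
      (fun i => ?_) (fun i => ?_) (fun i hi => absurd hi (by omega)) (fun i _ => ?_) ?_
    · fin_cases i <;> simp [hd0]
    · fin_cases i <;> simp [hd0]
    · rw [← hdd]; fin_cases i <;> simp [← pow_succ, ← pow_two, hd]
    · have e1 : d ^ 2 ≠ d := fun h => h1 (mul_left_cancel₀ hd0 (by rw [mul_one, ← pow_two]; exact h))
      fin_cases i <;> simp [h1, h2, e1, h1.symm, h2.symm, e1.symm]
    · rw [Fin.prod_univ_three]
      simp only [Matrix.cons_val_zero, Matrix.cons_val_one, Matrix.cons_val_two, Matrix.tail_cons, Matrix.head_cons]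
      calc d ^ 2 * 1 * (1 * d) * (d * d ^ 2) = d ^ 3 * d ^ 3 := by ring
        _ = 1 := by rw [hd, one_mul]
  · -- four copies
    have h2 : d ^ 2 ≠ 1 := hmin 2 (by omega) (by omega)
    have h3 : d ^ 3 ≠ 1 := hmin 3 (by omega) (by omega)
    refine gm_chain _ (fun _ => hf) (fun _ => by omega) (finRotate 4) ![d ^ 2, d ^ 3, 1, d] ![1, d, d ^ 2, d ^ 3]
      (fun i => ?_) (fun i => ?_) (fun i => ?_) (fun i hi => absurd hi (by omega)) (fun i _ => ?_) ?_
    · fin_cases i <;> simp [hd0]
    · fin_cases i <;> simp [hd0]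
    · rw [← hdd]; fin_cases i <;> simp [← pow_succ, ← pow_two, hd]
    · have e1 : d ^ 2 ≠ d := fun h => h1 (mul_left_cancel₀ hd0 (by rw [mul_one, ← pow_two]; exact h))
      have e2 : d ^ 3 ≠ d := fun h => h2 (mul_left_cancel₀ hd0 (by rw [mul_one, ← pow_succ']; exact h))
      have e3 : d ^ 3 ≠ d ^ 2 := fun h => h1 (mul_left_cancel₀ (pow_ne_zero 2 hd0) (by rw [mul_one, ← pow_succ]; exact h))
      fin_cases i <;> simp [h1, h2, h3, e1, e2, e3, h1.symm, h2.symm, h3.symm, e1.symm, e2.symm, e3.symm]
    · rw [Fin.prod_univ_four]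
      simp only [Matrix.cons_val_zero, Matrix.cons_val_one, Matrix.cons_val_two, Matrix.cons_val_three,
        Matrix.tail_cons, Matrix.head_cons]
      calc d ^ 2 * 1 * (d ^ 3 * d) * (1 * d ^ 2) * (d * d ^ 3) = d ^ 4 * d ^ 4 * d ^ 4 := by ring
        _ = 1 := by rw [hd, one_mul, one_mul]

/-- One quadratic block of constant one. -/
theorem gm_one_alone (hq : 4 ≤ Fintype.card F) {f : F[X]} (hf : f.Monic) (hdeg : f.natDegree = 2) (hd : dv f = 1) :
    GM ({f} : Multiset F[X]) := by
  classical
  obtain ⟨u, hu0, hu⟩ := exists_avoid ({1, -1} : Finset F) (by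
    have := Finset.card_le_two (a := (1 : F)) (b := -1); omega)
  simp only [Finset.mem_insert, Finset.mem_singleton, not_or] at hu
  have h := gm_chain (fun _ : Unit => f) (fun _ => hf) (fun _ => by omega) 1 (fun _ => u⁻¹) (fun _ => u)
    (fun _ => inv_ne_zero hu0) (fun _ => hu0) (fun _ => by rw [hd, mul_one])
    (fun _ hi => absurd hi (by omega)) (fun _ _ => ?_) (by simp [hu0])
  · simpa using h
  · have : u⁻¹ ≠ u := fun e => by
      have h2 : u ^ 2 = 1 := by
        rw [pow_two]
        nth_rewrite 1 [← e]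
        exact inv_mul_cancel₀ hu0
      exact (sq_eq_one_iff.1 h2).elim hu.1 hu.2
    exact ⟨this, this⟩

/-- One quadratic block and copies of a linear one whose constant has large order. -/
theorem gm_one_linear {f g : F[X]} (hf : f.Monic) (hfd : f.natDegree = 2) (hg : g.Monic)
    (hgd : g.natDegree = 1) {c : ℕ} (hc : 1 ≤ c) (hdet : dv f * dv g ^ c = 1)
    (hmin : ∀ j, 1 ≤ j → j ≤ c + 1 → dv g ^ j ≠ 1) : GM (f ::ₘ Multiset.replicate c g) := by
  classical
  obtain ⟨l, hl⟩ : ∃ l, l = dv g := ⟨_, rfl⟩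
  rw [← hl] at hdet hmin
  have hl0 : l ≠ 0 := fun h => by rw [h, zero_pow (by omega), mul_zero] at hdet; exact zero_ne_one hdet
  have hm : 0 < orderOf l ∧ c + 2 ≤ orderOf l := by
    have h0 : 0 < orderOf l := orderOf_pos_iff.2 (isOfFinOrder_iff_pow_eq_one.2 ⟨Fintype.card F - 1,
      by have := Fintype.one_lt_card (α := F); omega, FiniteField.pow_card_sub_one_eq_one l hl0⟩)
    refine ⟨h0, ?_⟩
    by_contra h
    exact hmin (orderOf l) h0 (by omega) (pow_orderOf_eq_one l)
  obtain ⟨U, hU⟩ : ∃ U, U = ∑ i ∈ Finset.range (c + 1), i := ⟨_, rfl⟩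
  have hU2 : 2 * U = c * (c + 1) := by
    rw [hU, mul_comm, Finset.sum_range_id_mul_two]
    rw [Nat.add_sub_cancel, mul_comm]
  obtain ⟨s, hs1, hs2⟩ : ∃ s : ℕ, l ^ (s * (c + 2) + U) ≠ 1 ∧ l ^ (s * (c + 2) + U + c) ≠ 1 := by
    by_contra h
    push Not at h
    have key : ∀ s, l ^ (s * (c + 2) + U) = 1 ∨ l ^ (s * (c + 2) + U + c) = 1 := fun s => by
      by_cases h1 : l ^ (s * (c + 2) + U) = 1
      · exact Or.inl h1
      · exact Or.inr (h s h1)
    have hsub : ∀ a b, l ^ a = 1 → l ^ b = 1 → a ≤ b → l ^ (b - a) = 1 := fun a b ha hb hab => by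
      have e : l ^ b = l ^ a * l ^ (b - a) := by rw [← pow_add, Nat.add_sub_cancel' hab]
      rwa [ha, hb, one_mul, eq_comm] at e
    -- two of the three values agree
    have h2N : l ^ (c + 2) = 1 ∨ l ^ (2 * (c + 2)) = 1 := by
      rcases key 0 with a | a <;> rcases key 1 with b | b <;> rcases key 2 with e | e <;>
        simp only [zero_mul, one_mul, zero_add] at a b e
      all_goals first
        | (left; have := hsub _ _ a b (by omega); rwa [show c + 2 + U - U = c + 2 by omega] at this)
        | (left; have := hsub _ _ a b (by omega); rwa [show c + 2 + U + c - (U + c) = c + 2 by omega] at this)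
        | (left; have := hsub _ _ b e (by omega); rwa [show 2 * (c + 2) + U - (c + 2 + U) = c + 2 by omega] at this)
        | (left; have := hsub _ _ b e (by omega);
           rwa [show 2 * (c + 2) + U + c - (c + 2 + U + c) = c + 2 by omega] at this)
        | (right; have := hsub _ _ a e (by omega); rwa [show 2 * (c + 2) + U - U = 2 * (c + 2) by omega] at this)
        | (right; have := hsub _ _ a e (by omega);
           rwa [show 2 * (c + 2) + U + c - (U + c) = 2 * (c + 2) by omega] at this)
    by_cases hN : l ^ (c + 2) = 1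
    · -- the order is `c + 2`
      have hord : orderOf l = c + 2 := le_antisymm (orderOf_le_of_pow_eq_one (by omega) hN) hm.2
      rcases key 0 with a | a <;> simp only [zero_mul, zero_add] at a
      · obtain ⟨k, hk⟩ := hord ▸ orderOf_dvd_of_pow_eq_one a
        have h2 : (c + 2) ∣ c * (c + 1) := ⟨2 * k, by rw [← hU2, hk]; ring⟩
        have h3 : (c + 2) ∣ c * (c + 1) + (c + 2) := (Nat.dvd_add_left dvd_rfl).2 h2
        have h4 : (c + 2) ∣ (c + 2) * c + 2 := by convert h3 using 1; ring
        have := Nat.le_of_dvd (by omega) ((Nat.dvd_add_right (dvd_mul_right (c + 2) c)).1 h4)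
        omega
      · obtain ⟨k, hk⟩ := hord ▸ orderOf_dvd_of_pow_eq_one a
        have h2 : (c + 2) ∣ c * (c + 3) := ⟨2 * k, by
          calc c * (c + 3) = c * (c + 1) + 2 * c := by ring
            _ = 2 * (U + c) := by rw [← hU2]; ring
            _ = _ := by rw [hk]; ring⟩
        have h3 : (c + 2) ∣ c * (c + 3) + 2 := by
          have e : c * (c + 3) + 2 = (c + 2) * (c + 1) := by ring
          rw [e]; exact dvd_mul_right _ _
        have := Nat.le_of_dvd (by omega) ((Nat.dvd_add_right h2).1 h3)
        omega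
    · have h2 := h2N.resolve_left hN
      rcases key 0 with a | a <;> rcases key 1 with b | b <;> simp only [zero_mul, one_mul, zero_add] at a b
      · have := hsub _ _ a b (by omega)
        rw [show c + 2 + U - U = c + 2 by omega] at this
        exact hN this
      · have h3 := hsub _ _ a b (by omega)
        rw [show c + 2 + U + c - U = 2 * c + 2 by omega] at h3
        have h4 := hsub _ _ h3 h2 (by omega)
        rw [show 2 * (c + 2) - (2 * c + 2) = 2 by omega] at h4
        exact hmin 2 (by omega) (by omega) h4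
      · rcases Nat.lt_or_ge (U + c) (c + 2 + U) with hlt | hge
        · have h3 := hsub _ _ a b hlt.le
          rw [show c + 2 + U - (U + c) = 2 by omega] at h3
          exact hmin 2 (by omega) (by omega) h3
        · omega
      · have := hsub _ _ a b (by omega)
        rw [show c + 2 + U + c - (U + c) = c + 2 by omega] at this
        exact hN this
  -- the blocks
  let v : Fin (c + 1) → F[X] := fun i => if i = Fin.last c then f else g
  have hmap : (Finset.univ : Finset (Fin (c + 1))).val.map v = f ::ₘ Multiset.replicate c g := by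
    rw [Fin.univ_castSuccEmb c, Finset.cons_val, Multiset.map_cons, Finset.map_val, Multiset.map_map]
    congr 1
    · simp [v]
    · rw [Multiset.eq_replicate]
      exact ⟨by simp, fun b hb => by
        obtain ⟨i, -, rfl⟩ := Multiset.mem_map.1 hb
        simp [v, Fin.castSucc_ne_last]⟩
  rw [← hmap]
  obtain ⟨x, hxd⟩ : ∃ x : Fin (c + 1) → F, ∀ i, x i = l ^ (s + i) := ⟨_, fun i => rfl⟩
  obtain ⟨P, hPd⟩ : ∃ P : F, P = ∏ i, x i := ⟨_, rfl⟩
  have hx : ∀ i, x i ≠ 0 := fun i => by rw [hxd]; exact pow_ne_zero _ hl0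
  have hP : P ≠ 0 := by rw [hPd]; exact Finset.prod_ne_zero_iff.2 fun i _ => hx i
  have hPv : P = l ^ (s * (c + 1) + U) := by
    rw [hPd, Finset.prod_congr rfl fun i _ => hxd i, Finset.prod_pow_eq_pow_sum, Finset.sum_add_distrib, Finset.sum_const,
      Finset.card_univ, Fintype.card_fin, smul_eq_mul, Fin.sum_univ_eq_sum_range (fun i => i) (c + 1), ← hU]
    ring_nf
  refine gm_chain v (fun i => by simp only [v]; split_ifs <;> assumption)
    (fun i => by simp only [v]; split_ifs <;> omega) (finRotate (c + 1))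
    (fun i => if i = Fin.last c then P⁻¹ else 1) x (fun i => ?_) hx (fun i => ?_) (fun i hi => ?_) (fun i hi => ?_) ?_
  · split_ifs
    · exact inv_ne_zero hP
    · exact one_ne_zero
  · rw [finRotate_succ_apply, hxd, hxd]
    simp only [v]
    by_cases h : i = Fin.last c
    · subst h
      rw [if_pos rfl, Fin.last_add_one, Fin.val_zero, Fin.val_last, add_zero]
      calc l ^ (s + c) * dv f = l ^ s * (dv f * l ^ c) := by rw [pow_add]; ring
        _ = l ^ s := by rw [hdet, mul_one]
    · rw [if_neg h, ← hl, Fin.val_add_one_of_lt (lt_of_le_of_ne (Fin.le_last i) h), ← add_assoc, pow_succ]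
  · rw [if_neg (fun h => by rw [h] at hi; simp [v] at hi; omega)]
  · have h : i = Fin.last c := by
      by_contra h
      simp only [v, if_neg h] at hi
      omega
    subst h
    rw [if_pos rfl, finRotate_succ_apply, Fin.last_add_one, hxd, hxd, Fin.val_last, Fin.val_zero, add_zero]
    constructor <;> intro e <;> have e' := mul_inv_cancel₀ hP <;> rw [e, hPv, ← pow_add] at e'
    · exact hs2 (by rwa [show s * (c + 2) + U + c = s * (c + 1) + U + (s + c) by ring])
    · exact hs1 (by rwa [show s * (c + 2) + U = s * (c + 1) + U + s by ring])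
  · rw [Finset.prod_mul_distrib, Finset.prod_ite_eq' Finset.univ (Fin.last c) (fun _ => P⁻¹), if_pos (Finset.mem_univ _),
      ← hPd, inv_mul_cancel₀ hP]

end Cfsg.Lib.Linear.SLComm
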