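import Cfsg.Agent.Lib.Linear.SLCommutator.Family
import Cfsg.Agent.Lib.Linear.SLCommutator.Scalar

/-!
# Extensions

An operator with an invariant subspace, on which it is a commutator of an irreducible pair and is far
from cyclic, and cyclic commutator quotient, is a commutator.
-/

set_option autoImplicit false
set_option linter.unusedSectionVars false

universe u

namespace Cfsg.Lib.Linear.SLComm

open Polynomial Module
open scoped Matrix

variable {F : Type u} [Field F]

/-- The companion matrix. -/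
def comp (f : F[X]) (k : ℕ) : Matrix (Fin k) (Fin k) F :=
  Matrix.of fun i j => if (j : ℕ) + 1 = k then -f.coeff i else if (i : ℕ) = (j : ℕ) + 1 then 1 else 0

theorem comp_sim {f : F[X]} (hf : f.Monic) {k : ℕ} (hk : f.natDegree = k) :
    Sim (rt f) (Matrix.toLin' (comp f k)) := by
  rcases Nat.eq_zero_or_pos k with rfl | hk0
  · refine cyclic_sim _ 0 ((cyc_iff _ _).2 fun K _ _ => Subsingleton.elim _ _) hf (by simp [hk]) (Subsingleton.elim _ _)
  let e : ℕ → Fin k → F := fun j i => if (i : ℕ) = j then 1 else 0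
  have hstep : ∀ j, j + 1 < k → comp f k *ᵥ e j = e (j + 1) := fun j hj => by
    funext i
    rw [Matrix.mulVec, dotProduct, Finset.sum_eq_single (⟨j, by omega⟩ : Fin k)
      (fun b _ hb => by simp [e, show (b : ℕ) ≠ j from fun h => hb (Fin.ext h)]) (by simp)]
    simp [comp, e, show j + 1 ≠ k by omega]
  have hlast : comp f k *ᵥ e (k - 1) = fun i : Fin k => -f.coeff i := by
    funext i
    rw [Matrix.mulVec, dotProduct, Finset.sum_eq_single (⟨k - 1, by omega⟩ : Fin k)
      (fun b _ hb => by simp [e, show (b : ℕ) ≠ k - 1 from fun h => hb (Fin.ext h)]) (by simp)]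
    simp [comp, e, show k - 1 + 1 = k by omega]
  have hpow : ∀ j, j < k → (comp f k ^ j) *ᵥ e 0 = e j := by
    intro j
    induction j with
    | zero => intro _; rw [pow_zero, Matrix.one_mulVec]
    | succ j ih => intro hj; rw [pow_succ', ← Matrix.mulVec_mulVec, ih (by omega), hstep j hj]
  refine cyclic_sim _ (e 0) ?_ hf (by simp [hk]) ?_
  · rw [Cyc, eq_top_iff]
    intro v _
    rw [pi_eq_sum_univ' v]
    refine sum_mem fun i _ => Submodule.smul_mem _ _ (Submodule.subset_span ⟨i, ?_⟩)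
    show (comp f k ^ (i : ℕ)) *ᵥ e 0 = _
    rw [hpow i i.2]
    funext b
    simp [e, Pi.single_apply, Fin.ext_iff]
  · rw [aeval_eq_sum_range, Matrix.sum_mulVec, hk, Finset.sum_range_succ]
    have hk' : (comp f k ^ k) *ᵥ e 0 = fun i : Fin k => -f.coeff i := by
      have hk1 : comp f k ^ k = comp f k * comp f k ^ (k - 1) := by
        rw [← pow_succ']; congr 1; omega
      rw [hk1, ← Matrix.mulVec_mulVec, hpow (k - 1) (by omega), hlast]
    rw [Matrix.smul_mulVec, hk', show f.coeff k = 1 by rw [← hk]; exact hf.coeff_natDegree, one_smul]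
    rw [Finset.sum_congr rfl (g := fun j => f.coeff j • e j) fun j hj => by
      rw [Matrix.smul_mulVec, hpow j (Finset.mem_range.1 hj)]]
    funext i
    rw [Pi.add_apply, Finset.sum_apply, Finset.sum_eq_single (i : ℕ)
      (fun b _ hb => by simp [e, Ne.symm hb]) (fun h => absurd (Finset.mem_range.2 i.2) h)]
    simp [e]

theorem toLin'_diag_sim {ι κ : Type} [Fintype ι] [DecidableEq ι] [Fintype κ] [DecidableEq κ] (A : Matrix ι ι F)
    (B : Matrix κ κ F) :
    Sim ((Matrix.toLin' A).prodMap (Matrix.toLin' B)) (Matrix.toLin' (Matrix.fromBlocks A 0 0 B)) :=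
  ⟨{ toFun := fun p => Sum.elim p.1 p.2
     invFun := fun v => (fun i => v (Sum.inl i), fun j => v (Sum.inr j))
     left_inv := fun p => rfl
     right_inv := fun v => funext fun s => by rcases s with i | j <;> rfl
     map_add' := fun p r => funext fun s => by rcases s with i | j <;> rfl
     map_smul' := fun c p => funext fun s => by rcases s with i | j <;> rfl },
   fun p => funext fun s => by
    rcases s with i | j <;> simp [Matrix.mulVec, dotProduct, Fintype.sum_sum_type] <;> rfl⟩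

/-- A commutator from matrices. -/
theorem good_of_mat {ι : Type} [Fintype ι] [DecidableEq ι] (A g h : Matrix ι ι F) (hg : g.det = 1) (hh : h.det = 1)
    (heq : A * h * g = g * h) : Good (Matrix.toLin' A) := by
  have mk : ∀ M : Matrix ι ι F, M.det = 1 → ∃ E : (ι → F) ≃ₗ[F] (ι → F), (E : (ι → F) →ₗ[F] (ι → F)) = Matrix.toLin' M :=
    fun M hM => by
      have hu : IsUnit M.det := by rw [hM]; exact isUnit_one
      exact ⟨LinearEquiv.ofLinear (Matrix.toLin' M) (Matrix.toLin' M⁻¹)
        (by rw [← Matrix.toLin'_mul, Matrix.mul_nonsing_inv _ hu, Matrix.toLin'_one])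
        (by rw [← Matrix.toLin'_mul, Matrix.nonsing_inv_mul _ hu, Matrix.toLin'_one]), rfl⟩
  obtain ⟨a, ha⟩ := mk g hg
  obtain ⟨b, hb⟩ := mk h hh
  refine ⟨a, b, by rw [ha, LinearMap.det_toLin', hg], by rw [hb, LinearMap.det_toLin', hh], fun v => ?_⟩
  have ha' : ∀ w, a w = g *ᵥ w := fun w => LinearMap.congr_fun ha w
  have hb' : ∀ w, b w = h *ᵥ w := fun w => LinearMap.congr_fun hb w
  rw [ha', hb', hb', ha', Matrix.toLin'_apply, Matrix.mulVec_mulVec, Matrix.mulVec_mulVec, Matrix.mulVec_mulVec, heq]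

theorem mat_of_good {ι : Type} [Fintype ι] [DecidableEq ι] {A : Matrix ι ι F} (hA : Good (Matrix.toLin' A)) :
    ∃ g h : Matrix ι ι F, g.det = 1 ∧ h.det = 1 ∧ A * h * g = g * h := by
  obtain ⟨a, b, ha, hb, hab⟩ := hA
  refine ⟨LinearMap.toMatrix' (a : (ι → F) →ₗ[F] (ι → F)), LinearMap.toMatrix' (b : (ι → F) →ₗ[F] (ι → F)),
    by rw [LinearMap.det_toMatrix']; exact ha, by rw [LinearMap.det_toMatrix']; exact hb,
    Matrix.toLin'.injective ?_⟩
  rw [Matrix.toLin'_mul, Matrix.toLin'_mul, Matrix.toLin'_mul, Matrix.toLin'_toMatrix', Matrix.toLin'_toMatrix']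
  exact LinearMap.ext hab

/-- Triangular operators: an irreducible pair above a commutator. -/
theorem good_triangular {ι κ : Type} [Fintype ι] [DecidableEq ι] [Fintype κ] [DecidableEq κ]
    (A₁ g₁ h₁ : Matrix ι ι F) (hg₁ : g₁.det = 1) (hh₁ : h₁.det = 1) (he₁ : A₁ * h₁ * g₁ = g₁ * h₁)
    (hirr : ∀ W : Submodule F (ι → F), (∀ v ∈ W, g₁ *ᵥ v ∈ W) → (∀ v ∈ W, h₁ *ᵥ v ∈ W) → W = ⊥ ∨ W = ⊤)
    (A₂ : Matrix κ κ F) (hA₂ : Good (Matrix.toLin' A₂)) (p : F[X]) (hp : aeval A₁ p = 0)
    (hker : finrank F (LinearMap.ker (Matrix.toLin' (aeval A₂ p))) < Fintype.card ι) (X : Matrix ι κ F) :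
    Good (Matrix.toLin' (Matrix.fromBlocks A₁ X 0 A₂)) := by
  classical
  obtain ⟨g₂, h₂, hg₂, hh₂, he₂⟩ := mat_of_good hA₂
  let Φ : Matrix ι κ F × Matrix ι κ F →ₗ[F] Matrix ι κ F :=
    { toFun := fun p => g₁ * p.2 + p.1 * h₂ - A₁ * h₁ * p.1 - A₁ * p.2 * g₂
      map_add' := fun p r => by simp only [Prod.fst_add, Prod.snd_add, Matrix.mul_add, Matrix.add_mul]; abel
      map_smul' := fun c p => by
        simp only [Prod.smul_fst, Prod.smul_snd, Matrix.mul_smul, Matrix.smul_mul, RingHom.id_apply, smul_sub, smul_add] }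
  have hrange : LinearMap.range Φ = ⊤ := by
    by_contra hne
    obtain ⟨φ, hφ0, hφ⟩ := Submodule.exists_dual_map_eq_bot_of_lt_top (lt_top_iff_ne_top.2 hne) inferInstance
    let B : Matrix κ ι F := Matrix.of fun j i => φ (Matrix.single i j 1)
    have htr : ∀ M : Matrix ι κ F, φ M = (B * M).trace := fun M => by
      conv_lhs => rw [Matrix.matrix_eq_sum_single M]
      rw [map_sum]
      simp only [map_sum, Matrix.trace, Matrix.diag_apply, Matrix.mul_apply, B, Matrix.of_apply]
      rw [Finset.sum_comm]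
      refine Finset.sum_congr rfl fun j _ => Finset.sum_congr rfl fun i _ => ?_
      rw [show Matrix.single i j (M i j) = M i j • Matrix.single i j 1 by rw [Matrix.smul_single, smul_eq_mul, mul_one],
        map_smul, smul_eq_mul, mul_comm]
    have hz : ∀ Y Z : Matrix ι κ F, (B * (g₁ * Z + Y * h₂ - A₁ * h₁ * Y - A₁ * Z * g₂)).trace = 0 := fun Y Z => by
      rw [← htr]
      have h : φ (Φ (Y, Z)) ∈ (LinearMap.range Φ).map φ := ⟨_, ⟨(Y, Z), rfl⟩, rfl⟩
      rw [hφ, Submodule.mem_bot] at h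
      exact h
    have hone : ∀ (N : Matrix κ ι F), (∀ Z : Matrix ι κ F, (N * Z).trace = 0) → N = 0 := fun N hN => by
      ext j i
      have h := hN (Matrix.single i j 1)
      simpa [Matrix.trace, Matrix.mul_apply, Matrix.single_apply, Finset.sum_ite_eq, ite_and] using h
    have hB1 : B * g₁ = g₂ * (B * A₁) := by
      refine sub_eq_zero.1 (hone _ fun Z => ?_)
      have h := hz 0 Z
      simp only [Matrix.zero_mul, Matrix.mul_zero, add_zero, sub_zero, Matrix.mul_sub, Matrix.trace_sub] at h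
      rw [Matrix.sub_mul, Matrix.trace_sub, Matrix.mul_assoc g₂ (B * A₁) Z, Matrix.trace_mul_comm g₂ (B * A₁ * Z)]
      simpa only [Matrix.mul_assoc] using h
    have hB2 : h₂ * B = B * (A₁ * h₁) := by
      refine sub_eq_zero.1 (hone _ fun Y => ?_)
      have h := hz Y 0
      simp only [Matrix.zero_mul, Matrix.mul_zero, zero_add, sub_zero, Matrix.mul_sub, Matrix.trace_sub] at h
      rw [Matrix.sub_mul, Matrix.trace_sub, Matrix.mul_assoc h₂ B Y, Matrix.trace_mul_comm h₂ (B * Y)]
      simpa only [Matrix.mul_assoc] using h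
    have hug₁ : IsUnit g₁.det := by rw [hg₁]; exact isUnit_one
    have huh₁ : IsUnit h₁.det := by rw [hh₁]; exact isUnit_one
    have hug₂ : IsUnit g₂.det := by rw [hg₂]; exact isUnit_one
    have huh₂ : IsUnit h₂.det := by rw [hh₂]; exact isUnit_one
    obtain ⟨D, hD⟩ : ∃ D, D = B * g₁ := ⟨_, rfl⟩
    have hDh : h₂ * D = D * h₁ := by
      rw [hD, ← Matrix.mul_assoc, hB2, Matrix.mul_assoc B, he₁, Matrix.mul_assoc B]
    have hDg : g₂ * (h₂ * D) = h₂ * (D * g₁) := by
      have h : D * (h₁ * g₁) = g₂ * (D * h₁) := by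
        calc D * (h₁ * g₁) = g₂ * (B * A₁) * (h₁ * g₁) := by rw [hD, hB1]
          _ = g₂ * (B * (A₁ * h₁ * g₁)) := by simp only [Matrix.mul_assoc]
          _ = g₂ * (D * h₁) := by rw [he₁, hD, Matrix.mul_assoc B]
      rw [← Matrix.mul_assoc D, ← hDh, Matrix.mul_assoc h₂] at h
      exact h.symm
    have hD' : A₂ * (h₂ * D) = h₂ * D * A₁ := by
      have e : A₂ * (h₂ * D) * (h₁ * g₁) = h₂ * D * A₁ * (h₁ * g₁) := by
        calc A₂ * (h₂ * D) * (h₁ * g₁) = A₂ * h₂ * (D * h₁) * g₁ := by simp only [Matrix.mul_assoc]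
          _ = A₂ * h₂ * (h₂ * (D * g₁)) := by rw [← hDh]; simp only [Matrix.mul_assoc]
          _ = (A₂ * h₂ * g₂) * (h₂ * D) := by rw [← hDg]; simp only [Matrix.mul_assoc]
          _ = g₂ * (h₂ * (h₂ * D)) := by rw [he₂]; simp only [Matrix.mul_assoc]
          _ = g₂ * (h₂ * D) * h₁ := by rw [Matrix.mul_assoc g₂, Matrix.mul_assoc h₂ D, ← hDh]
          _ = h₂ * D * (g₁ * h₁) := by rw [hDg]; simp only [Matrix.mul_assoc]
          _ = h₂ * D * A₁ * (h₁ * g₁) := by rw [← he₁]; simp only [Matrix.mul_assoc]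
      have hu : IsUnit (h₁ * g₁).det := by rw [Matrix.det_mul]; exact huh₁.mul hug₁
      have e' := congrArg (fun M => M * (h₁ * g₁)⁻¹) e
      simpa only [Matrix.mul_assoc, Matrix.mul_nonsing_inv _ hu, Matrix.mul_one] using e'
    -- the kernel of `D`
    have hinv1 : ∀ v, D *ᵥ v = 0 → D *ᵥ (g₁ *ᵥ v) = 0 := fun v hv => by
      have h1 := congrArg (fun M => M *ᵥ v) hDg
      simp only [← Matrix.mulVec_mulVec, hv, Matrix.mulVec_zero] at h1
      have h2 := congrArg (fun w => h₂⁻¹ *ᵥ w) h1.symm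
      simpa only [Matrix.mulVec_mulVec, ← Matrix.mul_assoc, Matrix.nonsing_inv_mul _ huh₂, Matrix.one_mul, Matrix.mulVec_zero]
        using h2
    have hinv2 : ∀ v, D *ᵥ v = 0 → D *ᵥ (h₁ *ᵥ v) = 0 := fun v hv => by
      rw [Matrix.mulVec_mulVec, ← hDh, ← Matrix.mulVec_mulVec, hv, Matrix.mulVec_zero]
    rcases hirr (LinearMap.ker (Matrix.toLin' D)) (fun v hv => hinv1 v hv) (fun v hv => hinv2 v hv) with hbot | htop
    · -- an embedding into the kernel of `p (A₂)`
      have hpc : aeval A₂ p * (h₂ * D) = 0 := by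
        have hcomm : ∀ r : F[X], aeval A₂ r * (h₂ * D) = h₂ * D * aeval A₁ r := fun r => by
          induction r using Polynomial.induction_on with
          | C a => rw [aeval_C, aeval_C, Algebra.algebraMap_eq_smul_one, Algebra.algebraMap_eq_smul_one,
              Matrix.smul_mul, Matrix.one_mul, Matrix.mul_smul, Matrix.mul_one]
          | add r s hr hs => rw [map_add, map_add, Matrix.add_mul, Matrix.mul_add, hr, hs]
          | monomial k a hk =>
            rw [pow_succ, ← mul_assoc, map_mul (aeval A₂) (C a * Polynomial.X ^ k), map_mul (aeval A₁) (C a * Polynomial.X ^ k), aeval_X, aeval_X,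
              Matrix.mul_assoc, hD', ← Matrix.mul_assoc, hk, Matrix.mul_assoc]
        rw [hcomm, hp, Matrix.mul_zero]
      have hinj : Function.Injective (Matrix.toLin' (h₂ * D)) := by
        rw [← LinearMap.ker_eq_bot, eq_bot_iff]
        intro v hv
        rw [← hbot, LinearMap.mem_ker, Matrix.toLin'_apply]
        have h2 := congrArg (fun w => h₂⁻¹ *ᵥ w) (show (h₂ * D) *ᵥ v = 0 from hv)
        simpa only [Matrix.mulVec_mulVec, ← Matrix.mul_assoc, Matrix.nonsing_inv_mul _ huh₂, Matrix.one_mul,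
          Matrix.mulVec_zero] using h2
      have hle : finrank F (ι → F) ≤ finrank F (LinearMap.ker (Matrix.toLin' (aeval A₂ p))) :=
        LinearMap.finrank_le_finrank_of_injective (f := (Matrix.toLin' (h₂ * D)).codRestrict _ fun v => by
          rw [LinearMap.mem_ker, ← LinearMap.comp_apply, ← Matrix.toLin'_mul, hpc, map_zero, LinearMap.zero_apply])
          (fun a b hab => hinj (congrArg Subtype.val hab))
      rw [Module.finrank_fintype_fun_eq_card] at hle
      omega
    · refine hφ0 ?_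
      have hD0 : D = 0 := Matrix.toLin'.injective (by rw [LinearMap.ker_eq_top.1 htop, map_zero])
      refine LinearMap.ext fun M => ?_
      have hB0 : B = 0 := by
        rw [← Matrix.mul_one B, ← Matrix.mul_nonsing_inv _ hug₁, ← Matrix.mul_assoc, ← hD, hD0, Matrix.zero_mul]
      rw [htr, hB0, Matrix.zero_mul, Matrix.trace_zero, LinearMap.zero_apply]
  obtain ⟨⟨Y, Z⟩, hYZ⟩ : X * (h₂ * g₂) ∈ LinearMap.range Φ := by rw [hrange]; trivial
  refine good_of_mat _ (Matrix.fromBlocks g₁ Y 0 g₂) (Matrix.fromBlocks h₁ Z 0 h₂)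
    (by rw [Matrix.det_fromBlocks_zero₂₁, hg₁, hg₂, one_mul]) (by rw [Matrix.det_fromBlocks_zero₂₁, hh₁, hh₂, one_mul]) ?_
  simp only [Matrix.fromBlocks_multiply, Matrix.mul_zero, Matrix.zero_mul, add_zero, zero_add]
  rw [he₁, he₂]
  congr 1
  have e : g₁ * Z + Y * h₂ - A₁ * h₁ * Y - A₁ * Z * g₂ = X * (h₂ * g₂) := hYZ
  rw [Matrix.add_mul, Matrix.mul_assoc X, ← e]
  abel

theorem finrank_adjoinRoot {f : F[X]} (hf : f.Monic) : finrank F (AdjoinRoot f) = f.natDegree :=
  (AdjoinRoot.powerBasis' hf).finrank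

theorem ker_rt_le {g : F[X]} (hg : g.Monic) {p : F[X]} (hp : p.Monic) :
    finrank F (LinearMap.ker (aeval (rt g) p)) ≤ p.natDegree := by
  classical
  haveI := hg.finite_adjoinRoot
  rw [rt_aeval]
  let s : Fin p.natDegree → AdjoinRoot g := fun i => AdjoinRoot.mk g (X ^ (i : ℕ))
  let S := Submodule.span F (Set.range s)
  have htop : LinearMap.range (LinearMap.mulLeft F (AdjoinRoot.mk g p)) ⊔ S = ⊤ := by
    rw [eq_top_iff]
    intro v _
    obtain ⟨P, rfl⟩ := AdjoinRoot.mk_surjective v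
    rw [← Polynomial.modByMonic_add_div P p, map_add, add_comm]
    refine Submodule.add_mem_sup ⟨AdjoinRoot.mk g (P /ₘ p), by simp⟩ ?_
    rcases eq_or_ne p 1 with rfl | h1
    · simp [Polynomial.modByMonic_one]
    rw [(P %ₘ p).as_sum_range' p.natDegree (Polynomial.natDegree_modByMonic_lt P hp h1), map_sum]
    refine sum_mem fun i hi => ?_
    rw [← C_mul_X_pow_eq_monomial, map_mul, AdjoinRoot.mk_C, ← AdjoinRoot.algebraMap_eq, ← Algebra.smul_def]
    exact Submodule.smul_mem _ _ (Submodule.subset_span ⟨⟨i, Finset.mem_range.1 hi⟩, rfl⟩)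
  have h1 := Submodule.finrank_add_le_finrank_add_finrank (LinearMap.range (LinearMap.mulLeft F (AdjoinRoot.mk g p))) S
  rw [htop, finrank_top] at h1
  have h2 : finrank F S ≤ p.natDegree := (finrank_range_le_card s).trans (by rw [Fintype.card_fin])
  have h3 := LinearMap.finrank_range_add_finrank_ker (LinearMap.mulLeft F (AdjoinRoot.mk g p))
  omega

/-- A quadratic `f` and `f * g`: the invariant subspace carries two copies of `f`. -/
theorem gm_extension {f g : F[X]} (hf : f.Monic) (hfd : f.natDegree = 2) (hg : g.Monic)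
    (hgood : Good (rt g)) (g₁ h₁ : Matrix (Fin 2 ⊕ Fin 2) (Fin 2 ⊕ Fin 2) F) (hg₁ : g₁.det = 1) (hh₁ : h₁.det = 1)
    (he₁ : Matrix.fromBlocks (comp f 2) 0 0 (comp f 2) * h₁ * g₁ = g₁ * h₁)
    (hirr : ∀ W : Submodule F (Fin 2 ⊕ Fin 2 → F), (∀ v ∈ W, g₁ *ᵥ v ∈ W) → (∀ v ∈ W, h₁ *ᵥ v ∈ W) →
      W = ⊥ ∨ W = ⊤) : GM (f ::ₘ f * g ::ₘ 0) := by
  classical
  haveI := hf.finite_adjoinRoot
  haveI := hg.finite_adjoinRoot
  haveI := (hf.mul hg).finite_adjoinRoot
  obtain ⟨C₁, hC₁⟩ := comp_sim hf hfd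
  obtain ⟨C₂, hC₂⟩ := comp_sim hg (k := g.natDegree) rfl
  let π : AdjoinRoot (f * g) →ₐ[F] AdjoinRoot g := AdjoinRoot.algHomOfDvd F (f * g) g (Dvd.intro_left f rfl)
  have hπ : ∀ P, π (AdjoinRoot.mk (f * g) P) = AdjoinRoot.mk g P := fun P => by
    rw [← AdjoinRoot.aeval_eq, ← Polynomial.aeval_algHom_apply]
    simp [π, AdjoinRoot.aeval_eq]
  let ι : AdjoinRoot f →ₗ[F] AdjoinRoot (f * g) :=
    { toFun := fun a => AdjoinRoot.mk (f * g) (g * AdjoinRoot.modByMonicHom hf a)
      map_add' := fun a b => by rw [map_add, mul_add, map_add]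
      map_smul' := fun c a => by
        rw [map_smul, mul_smul_comm, RingHom.id_apply, smul_eq_C_mul, map_mul, AdjoinRoot.mk_C, Algebra.smul_def]
        rfl }
  have hι : ∀ P, ι (AdjoinRoot.mk f P) = AdjoinRoot.mk (f * g) (g * P) := fun P => by
    show AdjoinRoot.mk (f * g) (g * AdjoinRoot.modByMonicHom hf (AdjoinRoot.mk f P)) = _
    rw [AdjoinRoot.modByMonicHom_mk, AdjoinRoot.mk_eq_mk]
    exact ⟨-(P /ₘ f), by linear_combination g * Polynomial.modByMonic_add_div P f⟩
  have hιinj : Function.Injective ι := by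
    refine (injective_iff_map_eq_zero ι).2 fun a ha => ?_
    obtain ⟨P, rfl⟩ := AdjoinRoot.mk_surjective a
    rw [hι, AdjoinRoot.mk_eq_zero, mul_comm g] at ha
    exact AdjoinRoot.mk_eq_zero.2 ((mul_dvd_mul_iff_right hg.ne_zero).1 ha)
  have hπsurj : Function.Surjective π := fun a => by
    obtain ⟨P, rfl⟩ := AdjoinRoot.mk_surjective a
    exact ⟨_, hπ P⟩
  obtain ⟨s, hs⟩ := π.toLinearMap.exists_rightInverse_of_surjective (LinearMap.range_eq_top.2 hπsurj)
  have hs' : ∀ w, π (s w) = w := fun w => LinearMap.congr_fun hs w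
  have hex : ∀ z, π z = 0 → ∃ a, ι a = z := fun z hz => by
    obtain ⟨P, rfl⟩ := AdjoinRoot.mk_surjective z
    rw [hπ, AdjoinRoot.mk_eq_zero] at hz
    obtain ⟨R, rfl⟩ := hz
    exact ⟨AdjoinRoot.mk f R, hι R⟩
  have hπι : ∀ a, π (ι a) = 0 := fun a => by
    obtain ⟨P, rfl⟩ := AdjoinRoot.mk_surjective a
    rw [hι, hπ, AdjoinRoot.mk_eq_zero]
    exact dvd_mul_right g P
  have hιroot : ∀ a, ι (AdjoinRoot.root f * a) = AdjoinRoot.root (f * g) * ι a := fun a => by
    obtain ⟨P, rfl⟩ := AdjoinRoot.mk_surjective a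
    rw [← AdjoinRoot.mk_X, ← map_mul, hι, hι, ← AdjoinRoot.mk_X, ← map_mul]
    congr 1
    ring
  have hπroot : π (AdjoinRoot.root (f * g)) = AdjoinRoot.root g := by rw [← AdjoinRoot.mk_X, hπ, AdjoinRoot.mk_X]
  let ξ : (Fin g.natDegree → F) → AdjoinRoot (f * g) := fun b =>
    AdjoinRoot.root (f * g) * s (C₂.symm b) - s (AdjoinRoot.root g * C₂.symm b)
  have hξ : ∀ b, ∃ a, ι a = ξ b := fun b => hex _ (by
    simp only [ξ, map_sub, map_mul, hπroot, hs', sub_self])
  choose x hx using hξ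
  let xl : (Fin g.natDegree → F) →ₗ[F] AdjoinRoot f :=
    { toFun := x
      map_add' := fun a b => hιinj (by rw [map_add, hx, hx, hx]; simp only [ξ, map_add, mul_add]; abel)
      map_smul' := fun c a => hιinj (by
        rw [map_smul, hx, hx, RingHom.id_apply]; simp only [ξ, map_smul, mul_smul_comm, smul_sub]) }
  let X₁ : Matrix (Fin 2 ⊕ Fin 2) (Fin g.natDegree) F :=
    Matrix.of fun i b => Sum.elim (fun _ => (0 : F)) (fun j => C₁ (xl (Pi.single b 1)) j) i
  have hA₁ : aeval (Matrix.fromBlocks (comp f 2) 0 0 (comp f 2)) f = 0 := by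
    apply Matrix.toLin'.injective
    rw [map_zero]
    show Matrix.toLinAlgEquiv'.toAlgHom _ = 0
    rw [← Polynomial.aeval_algHom_apply]
    refine LinearMap.ext fun v => ?_
    have hsim := sim_aeval ((toLin'_diag_sim (comp f 2) (comp f 2)).symm.trans
      ((Sim.symm ⟨C₁, hC₁⟩).prod (Sim.symm ⟨C₁, hC₁⟩))) f
    obtain ⟨E, hE⟩ := hsim
    apply E.injective
    rw [LinearMap.zero_apply, map_zero]
    show E (aeval (Matrix.toLin' (Matrix.fromBlocks (comp f 2) 0 0 (comp f 2))) f v) = 0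
    rw [hE]
    have h0 : aeval (rt f) f = 0 := by rw [rt_aeval, AdjoinRoot.mk_self, LinearMap.mulLeft_zero_eq_zero]
    have hp : aeval ((rt f).prodMap (rt f)) f = (aeval (rt f) f).prodMap (aeval (rt f) f) :=
      (Polynomial.aeval_algHom_apply (LinearMap.prodMapAlgHom F (AdjoinRoot f) (AdjoinRoot f)) (rt f, rt f) _).trans
        (congrArg _ (Polynomial.aeval_prod_apply _ _))
    rw [hp, h0]
    simp
  have hkerA : finrank F (LinearMap.ker (Matrix.toLin' (aeval (comp g g.natDegree) f))) < Fintype.card (Fin 2 ⊕ Fin 2) := by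
    obtain ⟨E, hE⟩ := sim_aeval (F := F) ⟨C₂, hC₂⟩ f
    have e : Matrix.toLin' (aeval (comp g g.natDegree) f) = aeval (Matrix.toLin' (comp g g.natDegree)) f :=
      (Polynomial.aeval_algHom_apply Matrix.toLinAlgEquiv'.toAlgHom _ _).symm
    rw [e]
    have hmap : (LinearMap.ker (aeval (rt g) f)).map (E : AdjoinRoot g →ₗ[F] (Fin g.natDegree → F)) =
        LinearMap.ker (aeval (Matrix.toLin' (comp g g.natDegree)) f) := by
      ext v
      obtain ⟨w, rfl⟩ := E.surjective v
      rw [LinearMap.mem_ker, ← hE, LinearEquiv.map_eq_zero_iff]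
      exact ⟨fun ⟨u, hu, huw⟩ => by rw [← E.injective huw]; exact hu, fun h => ⟨w, h, rfl⟩⟩
    rw [← hmap, ← (Submodule.equivMapOfInjective _ E.injective _).finrank_eq]
    have := ker_rt_le hg hf
    rw [hfd] at this
    simp only [Fintype.card_sum, Fintype.card_fin]
    omega
  have hG := good_triangular _ g₁ h₁ hg₁ hh₁ he₁ hirr (comp g g.natDegree)
    (hgood.of_sim ⟨C₂, hC₂⟩) f hA₁ hkerA X₁
  let T : ((Fin 2 ⊕ Fin 2) ⊕ Fin g.natDegree → F) →ₗ[F] AdjoinRoot f × AdjoinRoot (f * g) :=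
    { toFun := fun v => (C₁.symm (fun i => v (Sum.inl (Sum.inl i))),
        ι (C₁.symm fun i => v (Sum.inl (Sum.inr i))) + s (C₂.symm fun b => v (Sum.inr b)))
      map_add' := fun v w => by
        refine Prod.ext ?_ ?_
        · simp only [Prod.fst_add, ← map_add]; rfl
        · simp only [Prod.snd_add]
          rw [add_add_add_comm, ← map_add ι, ← map_add s, ← map_add C₁.symm, ← map_add C₂.symm]
          rfl
      map_smul' := fun c v => by
        refine Prod.ext ?_ ?_
        · simp only [Prod.smul_fst, RingHom.id_apply, ← map_smul]; rfl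
        · simp only [Prod.smul_snd, RingHom.id_apply, smul_add, ← map_smul]; rfl }
  have hTinj : Function.Injective T := by
    refine (injective_iff_map_eq_zero T).2 fun v hv => ?_
    obtain ⟨h1, h2⟩ := Prod.ext_iff.1 hv
    change C₁.symm _ = 0 at h1
    change ι _ + s _ = 0 at h2
    have h3 : C₂.symm (fun b => v (Sum.inr b)) = 0 := by
      have := congrArg π h2
      rwa [map_add, hπι, hs', zero_add, map_zero] at this
    rw [h3, map_zero, add_zero, ← map_zero ι] at h2
    have h4 := hιinj h2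
    rw [LinearEquiv.map_eq_zero_iff] at h1 h3 h4
    funext i
    rcases i with (i | i) | i
    · exact congrFun h1 i
    · exact congrFun h4 i
    · exact congrFun h3 i
  let TE := LinearEquiv.ofBijective T ⟨hTinj, (LinearMap.injective_iff_surjective_of_finrank_eq_finrank (by
    rw [Module.finrank_fintype_fun_eq_card, Module.finrank_prod, finrank_adjoinRoot hf,
      finrank_adjoinRoot (hf.mul hg), hf.natDegree_mul hg, hfd]
    simp only [Fintype.card_sum, Fintype.card_fin]
    omega)).1 hTinj⟩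
  have hsim : Sim (Matrix.toLin' (Matrix.fromBlocks (Matrix.fromBlocks (comp f 2) 0 0 (comp f 2)) X₁ 0 (comp g g.natDegree)))
      ((rt f).prodMap (rt (f * g))) := by
    refine ⟨TE, fun v => ?_⟩
    show T _ = (rt f).prodMap (rt (f * g)) (T v)
    have hv : ∀ a : Fin 2 → F, C₁.symm (comp f 2 *ᵥ a) = AdjoinRoot.root f * C₁.symm a := fun a => by
      rw [LinearEquiv.symm_apply_eq, show AdjoinRoot.root f * C₁.symm a = rt f (C₁.symm a) from rfl, hC₁,
        C₁.apply_symm_apply, Matrix.toLin'_apply]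
    have hw : C₂.symm (comp g g.natDegree *ᵥ fun b => v (Sum.inr b)) = AdjoinRoot.root g * C₂.symm (fun b => v (Sum.inr b)) := by
      rw [LinearEquiv.symm_apply_eq, show AdjoinRoot.root g * C₂.symm (fun b => v (Sum.inr b)) =
        rt g (C₂.symm (fun b => v (Sum.inr b))) from rfl, hC₂, C₂.apply_symm_apply, Matrix.toLin'_apply]
    have hX : (fun i => (X₁ *ᵥ fun b => v (Sum.inr b)) (Sum.inr i)) = C₁ (xl fun b => v (Sum.inr b)) := by
      funext i
      conv_rhs => rw [pi_eq_sum_univ' (fun b => v (Sum.inr b)), map_sum, map_sum, Finset.sum_apply]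
      rw [Matrix.mulVec, dotProduct]
      refine Finset.sum_congr rfl fun b _ => ?_
      rw [map_smul, map_smul, Pi.smul_apply, smul_eq_mul, mul_comm]
      rfl
    rw [Matrix.toLin'_apply, Matrix.fromBlocks_mulVec]
    refine Prod.ext ?_ ?_
    · show C₁.symm _ = AdjoinRoot.root f * C₁.symm _
      rw [← hv]
      refine congrArg _ (funext fun i => ?_)
      simp [Matrix.mulVec, dotProduct, Fintype.sum_sum_type, X₁]
    · show ι (C₁.symm _) + s (C₂.symm _) = AdjoinRoot.root (f * g) * (ι (C₁.symm _) + s (C₂.symm _))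
      rw [mul_add, ← hιroot, ← hv]
      have e1 : (fun i => Sum.elim
          (Matrix.fromBlocks (comp f 2) 0 0 (comp f 2) *ᵥ (v ∘ Sum.inl) + X₁ *ᵥ (v ∘ Sum.inr))
          (0 *ᵥ (v ∘ Sum.inl) + comp g g.natDegree *ᵥ (v ∘ Sum.inr)) (Sum.inl (Sum.inr i))) =
          (comp f 2 *ᵥ fun i => v (Sum.inl (Sum.inr i))) + C₁ (xl fun b => v (Sum.inr b)) := by
        rw [← hX]
        funext i
        fin_cases i <;> simp [Matrix.mulVec, dotProduct, Fintype.sum_sum_type]
      rw [e1, map_add, C₁.symm_apply_apply, map_add, show ι (xl fun b => v (Sum.inr b)) = _ from hx _, add_assoc]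
      congr 1
      have e2 : (fun b => Sum.elim
          (Matrix.fromBlocks (comp f 2) 0 0 (comp f 2) *ᵥ (v ∘ Sum.inl) + X₁ *ᵥ (v ∘ Sum.inr))
          (0 *ᵥ (v ∘ Sum.inl) + comp g g.natDegree *ᵥ (v ∘ Sum.inr)) (Sum.inr b)) =
          comp g g.natDegree *ᵥ fun b => v (Sum.inr b) := by
        funext b
        simp [Function.comp_def]
      rw [e2, hw]
      simp only [ξ]
      abel
  have h := gm_of_good (ι := Unit ⊕ Unit) (Sum.elim (fun _ => f) (fun _ => f * g))
    ((hG.of_sim hsim).of_sim ((((opFam_unique (fun _ : Unit => f)).symm.prod (opFam_unique (fun _ : Unit => f * g)).symm)).trans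
      (opFam_sum (Sum.elim (fun _ : Unit => f) (fun _ : Unit => f * g))).symm))
  exact h

end Cfsg.Lib.Linear.SLComm
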