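import Cfsg.Agent.Lib.Linear.SLCommutator.Block

/-!
# Blocks of degree at most three
-/

set_option autoImplicit false
set_option linter.unusedSectionVars false

universe u

namespace Cfsg.Lib.Linear.SLComm

open Polynomial Module
open scoped Matrix

variable {F : Type u} [Field F]

/-- The upper factor. -/
def qB {m : ℕ} (Rm : Matrix (Fin m) (Fin m) F) (w : Fin m → F) (y : F) : Matrix (Fin m ⊕ Unit) (Fin m ⊕ Unit) F :=
  Matrix.fromBlocks Rm (Matrix.of fun i (_ : Unit) => w i) (0 : Matrix Unit (Fin m) F) (Matrix.of fun (_ _ : Unit) => y)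

theorem q_sim {m : ℕ} (Rm : Matrix (Fin m) (Fin m) F) (w : Fin m → F) (y : F) (u : Fin m → F)
    (hu : Rm *ᵥ u - y • u = w) :
    Sim (Matrix.toLin' (qB Rm w y))
      ((Matrix.toLin' Rm).prodMap (y • LinearMap.id : F →ₗ[F] F)) := by
  let E : (Fin m ⊕ Unit → F) ≃ₗ[F] (Fin m → F) × F :=
    { toFun := fun a => ((fun i => a (Sum.inl i)) + a (Sum.inr ()) • u, a (Sum.inr ()))
      invFun := fun p s => Sum.elim (fun i => p.1 i - p.2 * u i) (fun _ => p.2) s
      left_inv := fun a => funext fun s => by rcases s with i | ⟨⟩ <;> simp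
      right_inv := fun p => Prod.ext (funext fun i => by simp) (by simp)
      map_add' := fun a b => Prod.ext (funext fun i => by simp; ring) rfl
      map_smul' := fun r a => Prod.ext (funext fun i => by simp; ring) rfl }
  refine ⟨E, fun a => ?_⟩
  have hl : (fun i => (qB Rm w y *ᵥ a) (Sum.inl i)) = Rm *ᵥ (fun i => a (Sum.inl i)) + a (Sum.inr ()) • w := by
    funext i
    simp [qB, Matrix.mulVec, dotProduct, Fintype.sum_sum_type, mul_comm]
  have hr : (qB Rm w y *ᵥ a) (Sum.inr ()) = y * a (Sum.inr ()) := by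
    simp [qB, Matrix.mulVec, dotProduct, Fintype.sum_sum_type]
  refine Prod.ext ?_ ?_
  · show (fun i => (qB Rm w y *ᵥ a) (Sum.inl i)) + (qB Rm w y *ᵥ a) (Sum.inr ()) • u =
      Rm *ᵥ ((fun i => a (Sum.inl i)) + a (Sum.inr ()) • u)
    rw [hl, hr, Matrix.mulVec_add, Matrix.mulVec_smul, ← hu, smul_sub, smul_smul, mul_comm y]
    abel
  · show (qB Rm w y *ᵥ a) (Sum.inr ()) = y • a (Sum.inr ())
    rw [hr, smul_eq_mul]

/-- Blocks of degree one. -/
theorem blk_one {x y : F} (hx : x ≠ 0) (hy : y ≠ 0) {f : F[X]} (hf : f.Monic) (hdeg : f.natDegree = 1)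
    (hd : dv f = y / x) : Blk f 1 x y := by
  have h := blk_of (m := 0) (1 : Matrix (Fin 0) (Fin 0) F) 1 (one_mul 1)
    (qB 1 0 y)
    (Matrix.toLin' 1) hx hy hf hdeg hd (Sim.refl _)
    (q_sim 1 0 y 0 (Subsingleton.elim _ _))
    ((cyc_iff _ _).2 fun K he _ => by
      rw [eq_top_iff]
      intro v _
      have h1 : v = v (Sum.inr ()) • eLast F 0 := by
        funext s
        rcases s with i | ⟨⟩
        · exact i.elim0
        · simp [eLast]
      rw [h1]
      exact K.smul_mem _ he)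
    (fun z _ => ⟨0, Subsingleton.elim _ _⟩)
  rwa [LinearMap.det_toLin', Matrix.det_one] at h

/-- Blocks of degree two. -/
theorem blk_two {r x y : F} (hr : r ≠ 0) (hx : x ≠ 0) (hy : y ≠ 0) (hrx : r ≠ x) (hry : r ≠ y) {f : F[X]}
    (hf : f.Monic) (hdeg : f.natDegree = 2) (hd : dv f = y / x) : Blk f r x y := by
  classical
  have h := blk_of (m := 1) (Matrix.of fun _ _ => r⁻¹) (Matrix.of fun _ _ => r)
    (by ext i j; fin_cases i; fin_cases j; simp [Matrix.mul_apply, hr])
    (qB (Matrix.of fun _ _ => r) (fun _ => 1) y)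
    (Matrix.toLin' (Matrix.of fun _ _ => r)) hx hy hf hdeg hd (Sim.refl _)
    (q_sim _ _ y (fun _ => (r - y)⁻¹) (by
      funext i
      fin_cases i
      simp [Matrix.mulVec, dotProduct]
      rw [← sub_mul, mul_inv_cancel₀ (sub_ne_zero.2 hry)]))
    ((cyc_iff _ _).2 fun K he hK => by
      have h1 := hK _ he
      rw [eq_top_iff]
      intro v _
      have h2 : v = (v (Sum.inl 0) * r) • ((lowP (Matrix.of fun (_ _ : Fin 1) => r⁻¹) 0 1 *
            qB (Matrix.of fun (_ _ : Fin 1) => r) (fun _ => 1) y) *ᵥ eLast F 1) + (v (Sum.inr ()) - v (Sum.inl 0) * r * y) • eLast F 1 := by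
        funext s
        rcases s with i | ⟨⟩
        · fin_cases i
          simp [eLast, lowP, qB, Matrix.mulVec, dotProduct, Matrix.mul_apply, Fintype.sum_sum_type, hr]
        · simp [eLast, lowP, qB, Matrix.mulVec, dotProduct, Matrix.mul_apply, Fintype.sum_sum_type]
      rw [h2]
      exact add_mem (K.smul_mem _ h1) (K.smul_mem _ he))
    (fun z _ => ⟨fun _ => z 0 * (x⁻¹ - r⁻¹)⁻¹, by
      funext i
      fin_cases i
      simp [Matrix.vecMul, dotProduct]
      rw [mul_assoc, inv_mul_cancel₀ (sub_ne_zero.2 fun h => hrx (inv_injective h).symm), mul_one]⟩)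
  rwa [LinearMap.det_toLin', Matrix.det_unique] at h

/-- A root-free quadratic with given constant. -/
theorem exists_rootfree [Fintype F] {r : F} (hr : r ≠ 0) : ∃ τ : F, ∀ a : F, a ^ 2 - τ * a + r ≠ 0 := by
  classical
  by_contra h
  push Not at h
  have hs : Function.Surjective (fun a : {a : F // a ≠ 0} => (a : F) + r / a) := fun τ => by
    obtain ⟨a, ha⟩ := h τ
    have ha0 : a ≠ 0 := fun e => hr (by rw [e] at ha; simpa using ha)
    exact ⟨⟨a, ha0⟩, by field_simp; linear_combination ha⟩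
  have h1 := Fintype.card_le_of_surjective _ hs
  have h2 : Fintype.card {a : F // a ≠ 0} < Fintype.card F :=
    Fintype.card_subtype_lt (x := (0 : F)) (by simp)
  omega

/-- Blocks of degree three. -/
theorem blk_three [Fintype F] {r x y : F} (hr : r ≠ 0) (hx : x ≠ 0) (hy : y ≠ 0) {f : F[X]} (hf : f.Monic)
    (hdeg : f.natDegree = 3) (hd : dv f = y / x) : Blk f r x y := by
  classical
  obtain ⟨τ, hτ⟩ := exists_rootfree hr
  have hRy : IsUnit ((!![0, -r; 1, τ] : Matrix (Fin 2) (Fin 2) F) - y • 1).det := by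
    rw [isUnit_iff_ne_zero, Matrix.det_fin_two]
    intro h0
    refine hτ y ?_
    simp at h0
    linear_combination h0
  have hSx : IsUnit (x⁻¹ • 1 - r⁻¹ • (!![τ - 1, r + 1 - τ; -1, 1] : Matrix (Fin 2) (Fin 2) F)).det := by
    rw [isUnit_iff_ne_zero, Matrix.det_fin_two]
    intro h0
    refine hτ x ?_
    simp at h0
    field_simp at h0
    refine mul_left_cancel₀ hr ?_
    linear_combination h0
  have h := blk_of (m := 2) (r⁻¹ • !![τ - 1, r + 1 - τ; -1, 1]) !![1, τ - r - 1; 1, τ - 1]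
    (by ext i j; fin_cases i <;> fin_cases j <;> simp [Matrix.mul_apply, Fin.sum_univ_two] <;> field_simp <;> ring)
    (qB !![0, -r; 1, τ] (fun _ => 1) y)
    (Matrix.toLin' !![0, -r; 1, τ]) hx hy hf hdeg hd
    (by
      let T : (Fin 2 → F) ≃ₗ[F] (Fin 2 → F) :=
        { toFun := fun a => ![a 0 - a 1, a 1]
          invFun := fun a => ![a 0 + a 1, a 1]
          left_inv := fun a => by ext i; fin_cases i <;> simp
          right_inv := fun a => by ext i; fin_cases i <;> simp
          map_add' := fun a b => by ext i; fin_cases i <;> simp <;> ring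
          map_smul' := fun c a => by ext i; fin_cases i <;> simp <;> ring }
      refine ⟨T, fun a => ?_⟩
      ext i
      fin_cases i <;> simp [T, Matrix.mulVec, dotProduct, Fin.sum_univ_two] <;> ring)
    (q_sim _ _ y (((!![0, -r; 1, τ] : Matrix (Fin 2) (Fin 2) F) - y • 1)⁻¹ *ᵥ fun _ => 1) (by
      rw [show !![0, -r; 1, τ] *ᵥ ((((!![0, -r; 1, τ] : Matrix (Fin 2) (Fin 2) F) - y • 1))⁻¹ *ᵥ fun _ => 1) -
          y • ((((!![0, -r; 1, τ] : Matrix (Fin 2) (Fin 2) F) - y • 1))⁻¹ *ᵥ fun _ => 1) =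
        (((!![0, -r; 1, τ] : Matrix (Fin 2) (Fin 2) F) - y • 1)) *ᵥ
          ((((!![0, -r; 1, τ] : Matrix (Fin 2) (Fin 2) F) - y • 1))⁻¹ *ᵥ fun _ => 1) by
        rw [Matrix.sub_mulVec, Matrix.smul_mulVec, Matrix.one_mulVec],
        Matrix.mulVec_mulVec, Matrix.mul_nonsing_inv _ hRy, Matrix.one_mulVec]))
    ((cyc_iff _ _).2 fun K he hK => by
      obtain ⟨M, hM⟩ : ∃ M, M = lowP (r⁻¹ • (!![τ - 1, r + 1 - τ; -1, 1] : Matrix (Fin 2) (Fin 2) F)) 0 1 *
        qB !![0, -r; 1, τ] (fun _ => 1) y := ⟨_, rfl⟩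
      rw [← hM] at hK
      have h0 : (Pi.single (Sum.inl 0) 1 : Fin 2 ⊕ Unit → F) ∈ K := by
        have h1 : (Pi.single (Sum.inl 0) 1 : Fin 2 ⊕ Unit → F) = M *ᵥ eLast F 2 - y • eLast F 2 := by
          funext s
          rcases s with i | ⟨⟩
          · fin_cases i <;> simp [hM, eLast, lowP, qB, Matrix.mulVec, dotProduct, Matrix.mul_apply,
              Fintype.sum_sum_type, Fin.sum_univ_two] <;> field_simp <;> ring
          · simp [hM, eLast, lowP, qB, Matrix.mulVec, dotProduct, Matrix.mul_apply, Fintype.sum_sum_type]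
        rw [h1]
        exact sub_mem (hK _ he) (K.smul_mem _ he)
      rw [eq_top_iff]
      intro v _
      have h2 : v = (v (Sum.inl 1) * r) • (M *ᵥ Pi.single (Sum.inl 0) 1) +
          (v (Sum.inl 0) - v (Sum.inl 1) * (r + 1 - τ)) • (Pi.single (Sum.inl 0) 1 : Fin 2 ⊕ Unit → F) +
          v (Sum.inr ()) • eLast F 2 := by
        funext s
        rcases s with i | ⟨⟩
        · fin_cases i <;> simp [hM, eLast, lowP, qB, Matrix.mulVec, dotProduct, Matrix.mul_apply,
            Fintype.sum_sum_type, Fin.sum_univ_two] <;> field_simp <;> ring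
        · simp [hM, eLast, lowP, qB, Matrix.mulVec, dotProduct, Matrix.mul_apply, Fintype.sum_sum_type]
      rw [h2]
      exact add_mem (add_mem (K.smul_mem _ (hK _ h0)) (K.smul_mem _ h0)) (K.smul_mem _ he))
    (fun z _ => ⟨z ᵥ* (x⁻¹ • 1 - r⁻¹ • (!![τ - 1, r + 1 - τ; -1, 1] : Matrix (Fin 2) (Fin 2) F))⁻¹, by
      rw [Matrix.vecMul_vecMul, Matrix.nonsing_inv_mul _ hSx, Matrix.vecMul_one]⟩)
  rwa [LinearMap.det_toLin', Matrix.det_fin_two_of, zero_mul, zero_sub, mul_one, neg_neg] at h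

end Cfsg.Lib.Linear.SLComm
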