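import Cfsg.Agent.Lib.Linear.SLCommutator.Tables

/-!
# Explicit commutators over fields with two and three elements

The matrices were found by a random search; the kernel checks them.
-/

set_option autoImplicit false
set_option maxRecDepth 100000

namespace Cfsg.Lib.Linear.SLComm

open Polynomial Module
open scoped Matrix


theorem gm2_Q :
    GM ({(X ^ 2 + C 1 * X + C 1 : (ZMod 2)[X])} : Multiset (ZMod 2)[X]) :=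
  gm_mat1 (C := !![0, 1; 1, 1]) (g := !![1, 0; 1, 1]) (h := !![1, 1; 0, 1]) (quad_monic _ _) (quad_natDegree _ _)
    ((comp_quad _ _).trans (by decide +kernel)) (by decide +kernel) (by decide +kernel) (by decide +kernel)

theorem gm2_JJ :
    GM ((X ^ 2 + C 0 * X + C 1 : (ZMod 2)[X]) ::ₘ (X ^ 2 + C 0 * X + C 1 : (ZMod 2)[X]) ::ₘ 0) :=
  gm_mat2 (C := !![0, 1; 1, 0]) (C' := !![0, 1; 1, 0]) (A := !![0, 1, 0, 0; 1, 0, 0, 0; 0, 0, 0, 1; 0, 0, 1, 0])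
    (g := !![1, 1, 0, 0; 0, 0, 0, 1; 1, 0, 1, 1; 1, 1, 1, 1])
    (h := !![1, 1, 0, 1; 1, 0, 1, 0; 0, 1, 0, 0; 0, 0, 1, 0])
    (quad_monic _ _) (quad_natDegree _ _) (quad_monic _ _) (quad_natDegree _ _)
    ((comp_quad _ _).trans (by decide +kernel)) ((comp_quad _ _).trans (by decide +kernel)) (by decide +kernel) (by decide +kernel) (by decide +kernel) (by decide +kernel)

theorem gm2_JJ_ext {g : (ZMod 2)[X]} (hg : g.Monic) (hgood : Good (rt g)) :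
    GM ((X ^ 2 + C 0 * X + C 1 : (ZMod 2)[X]) ::ₘ (X ^ 2 + C 0 * X + C 1 : (ZMod 2)[X]) * g ::ₘ 0) := by
  refine gm_extension (quad_monic _ _) (quad_natDegree _ _) hg hgood
    (Matrix.fromBlocks !![1, 1; 0, 0] !![0, 0; 0, 1] !![1, 0; 1, 1] !![1, 1; 1, 1] : Matrix (Fin 2 ⊕ Fin 2) (Fin 2 ⊕ Fin 2) (ZMod 2))
    (Matrix.fromBlocks !![1, 1; 1, 0] !![0, 1; 1, 0] !![0, 1; 0, 0] !![0, 0; 1, 0] : Matrix (Fin 2 ⊕ Fin 2) (Fin 2 ⊕ Fin 2) (ZMod 2))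
    (by decide +kernel) (by decide +kernel) ?_ ?_
  · rw [comp_quad]; decide +kernel
  · exact irreducible_of_words (N := 16) _ _ ![[], [true], [false], [true, true], [false, true], [true, false], [false, false], [true, true, true], [false, true, true], [true, false, true], [false, false, true], [true, true, false], [false, true, false], [false, true, true, true], [true, false, true, true], [false, false, true, true]]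
      (fun i j => ((![![![1, 0, 0, 1, 0, 0, 0, 1, 1, 0, 1, 0, 1, 0, 1, 0], ![1, 0, 1, 1, 1, 1, 1, 1, 1, 0, 0, 1, 0, 0, 0, 0], ![1, 0, 1, 0, 1, 1, 0, 1, 0, 0, 0, 0, 0, 1, 1, 1], ![1, 0, 1, 0, 1, 0, 1, 0, 1, 0, 1, 0, 0, 1, 1, 0]],
        ![![1, 1, 1, 0, 0, 0, 0, 0, 1, 1, 0, 1, 1, 0, 0, 1], ![0, 0, 0, 1, 0, 0, 1, 1, 1, 1, 1, 0, 1, 1, 0, 1], ![0, 1, 0, 0, 1, 1, 1, 0, 1, 1, 1, 0, 1, 1, 0, 0], ![0, 1, 1, 0, 0, 0, 0, 1, 1, 1, 0, 1, 0, 0, 1, 1]],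
        ![![0, 1, 1, 1, 0, 1, 0, 1, 1, 0, 0, 0, 1, 1, 1, 0], ![0, 0, 1, 0, 1, 0, 1, 1, 0, 1, 1, 1, 0, 0, 0, 1], ![0, 1, 0, 1, 0, 0, 0, 0, 0, 1, 1, 0, 1, 1, 0, 1], ![1, 0, 0, 0, 0, 1, 0, 1, 0, 0, 0, 1, 0, 1, 0, 0]],
        ![![0, 1, 1, 0, 1, 1, 1, 1, 0, 0, 1, 1, 0, 0, 1, 1], ![1, 0, 1, 1, 0, 0, 1, 1, 1, 1, 0, 1, 1, 1, 1, 1], ![0, 0, 1, 0, 0, 0, 0, 1, 1, 1, 0, 1, 1, 0, 0, 0], ![0, 1, 0, 1, 0, 0, 1, 0, 0, 0, 1, 0, 1, 0, 1, 0]]] : Fin 4 → Fin 4 → Fin 16 → ZMod 2) (finSumFinEquiv i) (finSumFinEquiv j))) (by decide +kernel)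

theorem gm2_JL :
    GM ((X ^ 2 + C 0 * X + C 1 : (ZMod 2)[X]) ::ₘ (X + C 1 : (ZMod 2)[X]) ::ₘ 0) :=
  gm_mat2 (C := !![0, 1; 1, 0]) (C' := !![1]) (A := !![0, 1, 0; 1, 0, 0; 0, 0, 1])
    (g := !![1, 0, 1; 0, 1, 1; 0, 0, 1])
    (h := !![0, 1, 0; 1, 0, 1; 1, 1, 0])
    (quad_monic _ _) (quad_natDegree _ _) (monic_X_add_C _) (natDegree_X_add_C _)
    ((comp_quad _ _).trans (by decide +kernel)) ((comp_line _).trans (by decide +kernel)) (by decide +kernel) (by decide +kernel) (by decide +kernel) (by decide +kernel)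

theorem gm2_JJ3 :
    GM ((X ^ 2 + C 0 * X + C 1 : (ZMod 2)[X]) ::ₘ ((X + C 1) ^ 3 : (ZMod 2)[X]) ::ₘ 0) :=
  gm_mat2 (C := !![0, 1; 1, 0]) (C' := !![0, 0, 1; 1, 0, 1; 0, 1, 1]) (A := !![0, 1, 0, 0, 0; 1, 0, 0, 0, 0; 0, 0, 0, 0, 1; 0, 0, 1, 0, 1; 0, 0, 0, 1, 1])
    (g := !![0, 1, 0, 0, 1; 0, 1, 1, 1, 0; 1, 1, 0, 0, 0; 0, 1, 1, 1, 1; 1, 0, 1, 0, 0])
    (h := !![1, 1, 1, 1, 1; 0, 1, 0, 1, 0; 0, 1, 0, 0, 1; 0, 0, 1, 1, 1; 0, 1, 0, 1, 1])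
    (quad_monic _ _) (quad_natDegree _ _) ((monic_X_add_C _).pow _) (natDegree_shift _)
    ((comp_quad _ _).trans (by decide +kernel)) ((comp_shift _).trans (by decide +kernel)) (by decide +kernel) (by decide +kernel) (by decide +kernel) (by decide +kernel)

theorem gm2_JJ4 :
    GM ((X ^ 2 + C 0 * X + C 1 : (ZMod 2)[X]) ::ₘ ((X + C 1) ^ 4 : (ZMod 2)[X]) ::ₘ 0) :=
  gm_mat2 (C := !![0, 1; 1, 0]) (C' := !![0, 0, 0, 1; 1, 0, 0, 0; 0, 1, 0, 0; 0, 0, 1, 0]) (A := !![0, 1, 0, 0, 0, 0; 1, 0, 0, 0, 0, 0; 0, 0, 0, 0, 0, 1; 0, 0, 1, 0, 0, 0; 0, 0, 0, 1, 0, 0; 0, 0, 0, 0, 1, 0])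
    (g := !![0, 0, 1, 0, 0, 0; 1, 0, 0, 1, 0, 0; 1, 0, 1, 0, 0, 0; 0, 1, 0, 0, 1, 1; 0, 1, 0, 1, 0, 1; 0, 0, 0, 1, 0, 1])
    (h := !![1, 1, 1, 0, 1, 1; 0, 0, 1, 1, 0, 1; 1, 1, 1, 1, 1, 0; 1, 0, 1, 1, 1, 1; 0, 0, 1, 1, 1, 0; 0, 0, 0, 0, 0, 1])
    (quad_monic _ _) (quad_natDegree _ _) ((monic_X_add_C _).pow _) (natDegree_shift _)
    ((comp_quad _ _).trans (by decide +kernel)) ((comp_shift _).trans (by decide +kernel)) (by decide +kernel) (by decide +kernel) (by decide +kernel) (by decide +kernel)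

theorem gm2_JJJ :
    GM ((X ^ 2 + C 0 * X + C 1 : (ZMod 2)[X]) ::ₘ (X ^ 2 + C 0 * X + C 1 : (ZMod 2)[X]) ::ₘ (X ^ 2 + C 0 * X + C 1 : (ZMod 2)[X]) ::ₘ 0) :=
  gm_mat3 (C := !![0, 1; 1, 0]) (C' := !![0, 1; 1, 0]) (C'' := !![0, 1; 1, 0]) (A := !![0, 1, 0, 0, 0, 0; 1, 0, 0, 0, 0, 0; 0, 0, 0, 1, 0, 0; 0, 0, 1, 0, 0, 0; 0, 0, 0, 0, 0, 1; 0, 0, 0, 0, 1, 0])
    (g := !![1, 0, 0, 1, 0, 1; 1, 0, 1, 1, 1, 0; 1, 1, 1, 0, 1, 1; 1, 1, 1, 1, 1, 1; 0, 0, 1, 0, 0, 1; 1, 0, 1, 1, 1, 1])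
    (h := !![0, 0, 0, 1, 0, 0; 1, 1, 0, 0, 1, 1; 0, 1, 1, 1, 0, 1; 1, 0, 0, 0, 0, 0; 0, 0, 0, 1, 1, 0; 0, 0, 1, 0, 0, 1])
    (quad_monic _ _) (quad_natDegree _ _) (quad_monic _ _) (quad_natDegree _ _) (quad_monic _ _) (quad_natDegree _ _)
    ((comp_quad _ _).trans (by decide +kernel)) ((comp_quad _ _).trans (by decide +kernel)) ((comp_quad _ _).trans (by decide +kernel)) (by decide +kernel) (by decide +kernel) (by decide +kernel) (by decide +kernel)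

theorem gm3_Q0 :
    GM ({(X ^ 2 + C 0 * X + C 1 : (ZMod 3)[X])} : Multiset (ZMod 3)[X]) :=
  gm_mat1 (C := !![0, 2; 1, 0]) (g := !![2, 1; 1, 1]) (h := !![2, 0; 2, 2]) (quad_monic _ _) (quad_natDegree _ _)
    ((comp_quad _ _).trans (by decide +kernel)) (by decide +kernel) (by decide +kernel) (by decide +kernel)

theorem gm3_h1h1 :
    GM ((X ^ 2 + C 1 * X + C 2 : (ZMod 3)[X]) ::ₘ (X ^ 2 + C 1 * X + C 2 : (ZMod 3)[X]) ::ₘ 0) :=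
  gm_mat2 (C := !![0, 1; 1, 2]) (C' := !![0, 1; 1, 2]) (A := !![0, 1, 0, 0; 1, 2, 0, 0; 0, 0, 0, 1; 0, 0, 1, 2])
    (g := !![2, 2, 0, 0; 1, 1, 1, 2; 0, 2, 2, 0; 1, 2, 2, 1])
    (h := !![2, 1, 2, 1; 0, 1, 0, 0; 0, 0, 1, 2; 0, 1, 0, 2])
    (quad_monic _ _) (quad_natDegree _ _) (quad_monic _ _) (quad_natDegree _ _)
    ((comp_quad _ _).trans (by decide +kernel)) ((comp_quad _ _).trans (by decide +kernel)) (by decide +kernel) (by decide +kernel) (by decide +kernel) (by decide +kernel)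

theorem gm3_h1h1_ext {g : (ZMod 3)[X]} (hg : g.Monic) (hgood : Good (rt g)) :
    GM ((X ^ 2 + C 1 * X + C 2 : (ZMod 3)[X]) ::ₘ (X ^ 2 + C 1 * X + C 2 : (ZMod 3)[X]) * g ::ₘ 0) := by
  refine gm_extension (quad_monic _ _) (quad_natDegree _ _) hg hgood
    (Matrix.fromBlocks !![2, 2; 1, 1] !![0, 0; 1, 2] !![0, 2; 1, 2] !![2, 0; 2, 1] : Matrix (Fin 2 ⊕ Fin 2) (Fin 2 ⊕ Fin 2) (ZMod 3))
    (Matrix.fromBlocks !![2, 1; 0, 1] !![2, 1; 0, 0] !![0, 0; 0, 1] !![1, 2; 0, 2] : Matrix (Fin 2 ⊕ Fin 2) (Fin 2 ⊕ Fin 2) (ZMod 3))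
    (by decide +kernel) (by decide +kernel) ?_ ?_
  · rw [comp_quad]; decide +kernel
  · exact irreducible_of_words (N := 16) _ _ ![[], [true], [false], [true, true], [false, true], [true, false], [false, false], [true, true, true], [false, true, true], [true, false, true], [false, false, true], [true, true, false], [false, true, false], [true, false, false], [false, true, true, true], [false, false, true, true]]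
      (fun i j => ((![![![2, 2, 0, 2, 2, 1, 0, 1, 2, 1, 2, 2, 0, 2, 2, 2], ![2, 0, 2, 2, 2, 2, 2, 1, 1, 2, 2, 0, 0, 0, 1, 0], ![2, 2, 0, 1, 0, 1, 1, 1, 0, 0, 0, 0, 0, 0, 2, 0], ![1, 2, 1, 2, 1, 2, 2, 2, 1, 0, 2, 1, 1, 1, 2, 0]],
        ![![2, 0, 1, 1, 1, 2, 2, 1, 1, 2, 1, 0, 2, 2, 2, 0], ![2, 0, 2, 1, 0, 0, 1, 1, 0, 1, 1, 0, 2, 0, 1, 2], ![1, 0, 1, 2, 1, 0, 1, 1, 2, 1, 1, 1, 2, 1, 2, 1], ![0, 1, 1, 0, 0, 0, 2, 0, 2, 1, 2, 2, 2, 1, 1, 1]],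
        ![![2, 1, 0, 2, 1, 0, 1, 1, 0, 1, 1, 1, 2, 1, 0, 0], ![2, 1, 1, 0, 1, 0, 2, 2, 0, 2, 0, 2, 2, 2, 2, 0], ![1, 1, 2, 2, 2, 0, 2, 0, 2, 0, 2, 2, 2, 2, 2, 1], ![2, 2, 1, 2, 2, 1, 0, 0, 2, 2, 1, 1, 2, 1, 2, 1]],
        ![![0, 1, 2, 1, 1, 1, 1, 0, 2, 0, 2, 1, 0, 1, 0, 2], ![2, 0, 0, 2, 1, 1, 0, 2, 2, 1, 0, 2, 2, 2, 1, 1], ![1, 1, 2, 1, 0, 1, 0, 1, 1, 1, 1, 0, 0, 0, 0, 1], ![2, 0, 2, 1, 2, 2, 0, 1, 2, 1, 1, 2, 2, 2, 1, 1]]] : Fin 4 → Fin 4 → Fin 16 → ZMod 3) (finSumFinEquiv i) (finSumFinEquiv j))) (by decide +kernel)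

theorem gm3_h2h2 :
    GM ((X ^ 2 + C 2 * X + C 2 : (ZMod 3)[X]) ::ₘ (X ^ 2 + C 2 * X + C 2 : (ZMod 3)[X]) ::ₘ 0) :=
  gm_mat2 (C := !![0, 1; 1, 1]) (C' := !![0, 1; 1, 1]) (A := !![0, 1, 0, 0; 1, 1, 0, 0; 0, 0, 0, 1; 0, 0, 1, 1])
    (g := !![0, 0, 1, 1; 0, 1, 1, 2; 2, 2, 2, 0; 2, 1, 2, 0])
    (h := !![2, 2, 1, 1; 2, 0, 0, 0; 1, 1, 0, 2; 2, 2, 2, 0])
    (quad_monic _ _) (quad_natDegree _ _) (quad_monic _ _) (quad_natDegree _ _)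
    ((comp_quad _ _).trans (by decide +kernel)) ((comp_quad _ _).trans (by decide +kernel)) (by decide +kernel) (by decide +kernel) (by decide +kernel) (by decide +kernel)

theorem gm3_h2h2_ext {g : (ZMod 3)[X]} (hg : g.Monic) (hgood : Good (rt g)) :
    GM ((X ^ 2 + C 2 * X + C 2 : (ZMod 3)[X]) ::ₘ (X ^ 2 + C 2 * X + C 2 : (ZMod 3)[X]) * g ::ₘ 0) := by
  refine gm_extension (quad_monic _ _) (quad_natDegree _ _) hg hgood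
    (Matrix.fromBlocks !![0, 0; 0, 1] !![1, 1; 1, 2] !![2, 2; 2, 1] !![2, 0; 2, 0] : Matrix (Fin 2 ⊕ Fin 2) (Fin 2 ⊕ Fin 2) (ZMod 3))
    (Matrix.fromBlocks !![2, 2; 2, 0] !![1, 1; 0, 0] !![1, 1; 2, 2] !![0, 2; 2, 0] : Matrix (Fin 2 ⊕ Fin 2) (Fin 2 ⊕ Fin 2) (ZMod 3))
    (by decide +kernel) (by decide +kernel) ?_ ?_
  · rw [comp_quad]; decide +kernel
  · exact irreducible_of_words (N := 16) _ _ ![[], [true], [false], [true, true], [false, true], [true, false], [false, false], [true, true, true], [false, true, true], [true, false, true], [false, false, true], [true, true, false], [false, true, false], [true, false, false], [false, false, false], [true, false, true, true]]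
      (fun i j => ((![![![2, 0, 1, 1, 2, 2, 1, 0, 0, 0, 2, 2, 2, 1, 0, 1], ![2, 0, 2, 1, 0, 0, 0, 1, 2, 0, 2, 0, 0, 2, 0, 2], ![2, 1, 0, 2, 2, 2, 0, 1, 0, 1, 0, 1, 2, 0, 0, 1], ![2, 1, 2, 2, 2, 0, 0, 0, 1, 0, 2, 1, 2, 1, 2, 1]],
        ![![2, 2, 0, 1, 1, 2, 2, 0, 2, 2, 1, 1, 0, 1, 1, 0], ![2, 1, 0, 0, 2, 2, 0, 1, 2, 1, 2, 0, 0, 2, 1, 0], ![1, 0, 2, 2, 0, 2, 2, 0, 0, 0, 1, 1, 1, 2, 0, 1], ![0, 0, 1, 0, 2, 1, 2, 0, 2, 1, 2, 1, 1, 2, 2, 2]],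
        ![![0, 1, 1, 1, 1, 2, 1, 2, 1, 1, 1, 0, 1, 1, 2, 2], ![1, 1, 1, 0, 0, 1, 0, 1, 1, 2, 1, 0, 0, 2, 0, 1], ![2, 1, 1, 1, 2, 2, 1, 0, 2, 2, 2, 1, 0, 1, 2, 1], ![1, 0, 2, 2, 1, 2, 1, 2, 1, 2, 2, 1, 0, 0, 2, 0]],
        ![![2, 1, 1, 1, 0, 1, 2, 0, 1, 1, 0, 1, 2, 1, 1, 2], ![0, 0, 2, 1, 0, 1, 1, 1, 2, 2, 2, 0, 0, 2, 2, 1], ![2, 1, 1, 1, 1, 0, 0, 0, 1, 0, 1, 0, 1, 0, 1, 2], ![1, 1, 1, 1, 0, 0, 1, 2, 2, 0, 0, 0, 1, 2, 0, 1]]] : Fin 4 → Fin 4 → Fin 16 → ZMod 3) (finSumFinEquiv i) (finSumFinEquiv j))) (by decide +kernel)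

theorem gm3_h1h1Jp :
    GM ((X ^ 2 + C 1 * X + C 2 : (ZMod 3)[X]) ::ₘ (X ^ 2 + C 1 * X + C 2 : (ZMod 3)[X]) ::ₘ (X ^ 2 + C 1 * X + C 1 : (ZMod 3)[X]) ::ₘ 0) :=
  gm_mat3 (C := !![0, 1; 1, 2]) (C' := !![0, 1; 1, 2]) (C'' := !![0, 2; 1, 2]) (A := !![0, 1, 0, 0, 0, 0; 1, 2, 0, 0, 0, 0; 0, 0, 0, 1, 0, 0; 0, 0, 1, 2, 0, 0; 0, 0, 0, 0, 0, 2; 0, 0, 0, 0, 1, 2])
    (g := !![2, 1, 1, 1, 1, 2; 1, 1, 1, 0, 1, 0; 0, 1, 2, 0, 2, 0; 0, 2, 2, 0, 2, 2; 1, 1, 2, 2, 2, 0; 2, 1, 1, 0, 2, 1])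
    (h := !![1, 1, 1, 1, 0, 2; 2, 0, 0, 1, 2, 0; 2, 0, 1, 0, 0, 0; 1, 1, 2, 1, 2, 1; 2, 0, 1, 2, 0, 1; 0, 0, 1, 0, 2, 0])
    (quad_monic _ _) (quad_natDegree _ _) (quad_monic _ _) (quad_natDegree _ _) (quad_monic _ _) (quad_natDegree _ _)
    ((comp_quad _ _).trans (by decide +kernel)) ((comp_quad _ _).trans (by decide +kernel)) ((comp_quad _ _).trans (by decide +kernel)) (by decide +kernel) (by decide +kernel) (by decide +kernel) (by decide +kernel)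

theorem gm3_h1h1Jm :
    GM ((X ^ 2 + C 1 * X + C 2 : (ZMod 3)[X]) ::ₘ (X ^ 2 + C 1 * X + C 2 : (ZMod 3)[X]) ::ₘ (X ^ 2 + C 2 * X + C 1 : (ZMod 3)[X]) ::ₘ 0) :=
  gm_mat3 (C := !![0, 1; 1, 2]) (C' := !![0, 1; 1, 2]) (C'' := !![0, 2; 1, 1]) (A := !![0, 1, 0, 0, 0, 0; 1, 2, 0, 0, 0, 0; 0, 0, 0, 1, 0, 0; 0, 0, 1, 2, 0, 0; 0, 0, 0, 0, 0, 2; 0, 0, 0, 0, 1, 1])
    (g := !![0, 2, 0, 2, 2, 1; 1, 2, 1, 1, 1, 1; 0, 1, 2, 1, 2, 2; 1, 1, 2, 0, 2, 1; 0, 2, 2, 0, 1, 0; 1, 1, 0, 1, 0, 1])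
    (h := !![2, 1, 1, 2, 1, 1; 0, 0, 1, 2, 2, 0; 2, 1, 0, 0, 1, 1; 1, 2, 1, 2, 1, 1; 0, 2, 2, 1, 2, 1; 0, 2, 2, 0, 1, 0])
    (quad_monic _ _) (quad_natDegree _ _) (quad_monic _ _) (quad_natDegree _ _) (quad_monic _ _) (quad_natDegree _ _)
    ((comp_quad _ _).trans (by decide +kernel)) ((comp_quad _ _).trans (by decide +kernel)) ((comp_quad _ _).trans (by decide +kernel)) (by decide +kernel) (by decide +kernel) (by decide +kernel) (by decide +kernel)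

theorem gm3_h2h2Jp :
    GM ((X ^ 2 + C 2 * X + C 2 : (ZMod 3)[X]) ::ₘ (X ^ 2 + C 2 * X + C 2 : (ZMod 3)[X]) ::ₘ (X ^ 2 + C 1 * X + C 1 : (ZMod 3)[X]) ::ₘ 0) :=
  gm_mat3 (C := !![0, 1; 1, 1]) (C' := !![0, 1; 1, 1]) (C'' := !![0, 2; 1, 2]) (A := !![0, 1, 0, 0, 0, 0; 1, 1, 0, 0, 0, 0; 0, 0, 0, 1, 0, 0; 0, 0, 1, 1, 0, 0; 0, 0, 0, 0, 0, 2; 0, 0, 0, 0, 1, 2])
    (g := !![0, 2, 2, 1, 2, 1; 0, 1, 0, 0, 0, 1; 1, 0, 2, 0, 2, 2; 1, 1, 1, 2, 2, 1; 1, 2, 1, 0, 2, 0; 0, 2, 0, 0, 0, 1])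
    (h := !![2, 0, 2, 2, 0, 0; 1, 1, 0, 2, 0, 1; 1, 1, 1, 2, 1, 2; 0, 1, 2, 1, 1, 0; 1, 1, 2, 1, 0, 1; 2, 0, 2, 0, 0, 0])
    (quad_monic _ _) (quad_natDegree _ _) (quad_monic _ _) (quad_natDegree _ _) (quad_monic _ _) (quad_natDegree _ _)
    ((comp_quad _ _).trans (by decide +kernel)) ((comp_quad _ _).trans (by decide +kernel)) ((comp_quad _ _).trans (by decide +kernel)) (by decide +kernel) (by decide +kernel) (by decide +kernel) (by decide +kernel)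

theorem gm3_h2h2Jm :
    GM ((X ^ 2 + C 2 * X + C 2 : (ZMod 3)[X]) ::ₘ (X ^ 2 + C 2 * X + C 2 : (ZMod 3)[X]) ::ₘ (X ^ 2 + C 2 * X + C 1 : (ZMod 3)[X]) ::ₘ 0) :=
  gm_mat3 (C := !![0, 1; 1, 1]) (C' := !![0, 1; 1, 1]) (C'' := !![0, 2; 1, 1]) (A := !![0, 1, 0, 0, 0, 0; 1, 1, 0, 0, 0, 0; 0, 0, 0, 1, 0, 0; 0, 0, 1, 1, 0, 0; 0, 0, 0, 0, 0, 2; 0, 0, 0, 0, 1, 1])
    (g := !![1, 1, 1, 1, 1, 2; 1, 2, 1, 1, 2, 1; 2, 1, 1, 2, 1, 2; 0, 0, 0, 2, 1, 0; 1, 0, 1, 0, 2, 2; 2, 1, 2, 1, 1, 1])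
    (h := !![0, 2, 2, 2, 2, 1; 0, 2, 0, 1, 1, 0; 1, 0, 1, 1, 1, 1; 1, 1, 1, 2, 0, 0; 2, 2, 0, 1, 0, 0; 1, 0, 1, 0, 0, 1])
    (quad_monic _ _) (quad_natDegree _ _) (quad_monic _ _) (quad_natDegree _ _) (quad_monic _ _) (quad_natDegree _ _)
    ((comp_quad _ _).trans (by decide +kernel)) ((comp_quad _ _).trans (by decide +kernel)) ((comp_quad _ _).trans (by decide +kernel)) (by decide +kernel) (by decide +kernel) (by decide +kernel) (by decide +kernel)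

theorem gm3_JpJpJp :
    GM ((X ^ 2 + C 1 * X + C 1 : (ZMod 3)[X]) ::ₘ (X ^ 2 + C 1 * X + C 1 : (ZMod 3)[X]) ::ₘ (X ^ 2 + C 1 * X + C 1 : (ZMod 3)[X]) ::ₘ 0) :=
  gm_mat3 (C := !![0, 2; 1, 2]) (C' := !![0, 2; 1, 2]) (C'' := !![0, 2; 1, 2]) (A := !![0, 2, 0, 0, 0, 0; 1, 2, 0, 0, 0, 0; 0, 0, 0, 2, 0, 0; 0, 0, 1, 2, 0, 0; 0, 0, 0, 0, 0, 2; 0, 0, 0, 0, 1, 2])
    (g := !![1, 0, 1, 2, 1, 0; 2, 1, 0, 2, 2, 1; 1, 2, 0, 0, 2, 2; 1, 2, 1, 1, 1, 0; 2, 2, 2, 0, 0, 1; 1, 0, 1, 0, 2, 0])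
    (h := !![1, 2, 1, 0, 0, 1; 2, 2, 1, 1, 2, 0; 0, 0, 0, 2, 2, 1; 2, 1, 0, 2, 2, 1; 1, 1, 1, 0, 0, 2; 0, 2, 2, 1, 0, 2])
    (quad_monic _ _) (quad_natDegree _ _) (quad_monic _ _) (quad_natDegree _ _) (quad_monic _ _) (quad_natDegree _ _)
    ((comp_quad _ _).trans (by decide +kernel)) ((comp_quad _ _).trans (by decide +kernel)) ((comp_quad _ _).trans (by decide +kernel)) (by decide +kernel) (by decide +kernel) (by decide +kernel) (by decide +kernel)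

theorem gm3_JmJmJm :
    GM ((X ^ 2 + C 2 * X + C 1 : (ZMod 3)[X]) ::ₘ (X ^ 2 + C 2 * X + C 1 : (ZMod 3)[X]) ::ₘ (X ^ 2 + C 2 * X + C 1 : (ZMod 3)[X]) ::ₘ 0) :=
  gm_mat3 (C := !![0, 2; 1, 1]) (C' := !![0, 2; 1, 1]) (C'' := !![0, 2; 1, 1]) (A := !![0, 2, 0, 0, 0, 0; 1, 1, 0, 0, 0, 0; 0, 0, 0, 2, 0, 0; 0, 0, 1, 1, 0, 0; 0, 0, 0, 0, 0, 2; 0, 0, 0, 0, 1, 1])
    (g := !![0, 0, 0, 2, 2, 1; 0, 0, 2, 1, 1, 0; 0, 2, 1, 1, 2, 1; 2, 2, 2, 0, 0, 1; 2, 2, 2, 2, 0, 2; 2, 1, 0, 0, 2, 1])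
    (h := !![1, 1, 2, 0, 2, 0; 2, 0, 1, 1, 2, 2; 0, 0, 0, 0, 0, 1; 2, 2, 0, 1, 1, 2; 0, 1, 0, 2, 1, 1; 1, 2, 2, 0, 1, 2])
    (quad_monic _ _) (quad_natDegree _ _) (quad_monic _ _) (quad_natDegree _ _) (quad_monic _ _) (quad_natDegree _ _)
    ((comp_quad _ _).trans (by decide +kernel)) ((comp_quad _ _).trans (by decide +kernel)) ((comp_quad _ _).trans (by decide +kernel)) (by decide +kernel) (by decide +kernel) (by decide +kernel) (by decide +kernel)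

end Cfsg.Lib.Linear.SLComm
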