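import Cfsg.Agent.Lib.Linear.SLCommutator.Extension

/-!
# Small families from explicit matrices

Tools for verifying explicit commutators and irreducible pairs over small prime fields.
-/

set_option autoImplicit false
set_option linter.unusedSectionVars false

universe u

namespace Cfsg.Lib.Linear.SLComm

open Polynomial Module
open scoped Matrix

variable {F : Type u} [Field F]

theorem reindex_sim {ι κ : Type} [Fintype ι] [DecidableEq ι] [Fintype κ] [DecidableEq κ] (e : ι ≃ κ) (A : Matrix ι ι F) :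
    Sim (Matrix.toLin' A) (Matrix.toLin' (Matrix.reindex e e A)) :=
  ⟨LinearEquiv.funCongrLeft F F e.symm, fun v => funext fun i => by
    show (A *ᵥ v) (e.symm i) = ((Matrix.reindex e e A) *ᵥ fun j => v (e.symm j)) i
    rw [Matrix.mulVec, Matrix.mulVec, dotProduct, dotProduct]
    exact (Fintype.sum_equiv e _ _ fun j => by simp).trans rfl⟩

theorem gm_mat1 {f : F[X]} {a : ℕ} (hf : f.Monic) (hfd : f.natDegree = a) {C g h : Matrix (Fin a) (Fin a) F}
    (hC : comp f a = C) (hg : g.det = 1) (hh : h.det = 1) (he : C * h * g = g * h) : GM ({f} : Multiset F[X]) :=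
  gm_single ((good_of_mat C g h hg hh he).of_sim (hC ▸ comp_sim hf hfd).symm)

theorem gm_mat2 {f f' : F[X]} {a b : ℕ} (hf : f.Monic) (hfd : f.natDegree = a) (hf' : f'.Monic)
    (hfd' : f'.natDegree = b) {C : Matrix (Fin a) (Fin a) F} {C' : Matrix (Fin b) (Fin b) F}
    (hC : comp f a = C) (hC' : comp f' b = C') {A g h : Matrix (Fin (a + b)) (Fin (a + b)) F}
    (hA : A = Matrix.reindex finSumFinEquiv finSumFinEquiv (Matrix.fromBlocks C 0 0 C'))
    (hg : g.det = 1) (hh : h.det = 1) (he : A * h * g = g * h) : GM (f ::ₘ f' ::ₘ 0) := by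
  subst hC hC' hA
  have hs : Sim (opFam (Sum.elim (fun _ : Unit => f) (fun _ : Unit => f')))
      (Matrix.toLin' (Matrix.reindex finSumFinEquiv finSumFinEquiv (Matrix.fromBlocks (comp f a) 0 0 (comp f' b)))) :=
    (opFam_sum _).trans ((((opFam_unique (fun _ : Unit => f)).trans (comp_sim hf hfd)).prod
      ((opFam_unique (fun _ : Unit => f')).trans (comp_sim hf' hfd'))).trans
      ((toLin'_diag_sim _ _).trans (reindex_sim _ _)))
  exact gm_of_good _ ((good_of_mat _ g h hg hh he).of_sim hs.symm)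

theorem gm_mat3 {f f' f'' : F[X]} {a b c : ℕ} (hf : f.Monic) (hfd : f.natDegree = a) (hf' : f'.Monic)
    (hfd' : f'.natDegree = b) (hf'' : f''.Monic) (hfd'' : f''.natDegree = c) {C : Matrix (Fin a) (Fin a) F}
    {C' : Matrix (Fin b) (Fin b) F} {C'' : Matrix (Fin c) (Fin c) F} (hC : comp f a = C) (hC' : comp f' b = C')
    (hC'' : comp f'' c = C'') {A g h : Matrix (Fin (a + b + c)) (Fin (a + b + c)) F}
    (hA : A = Matrix.reindex ((Equiv.sumCongr finSumFinEquiv (Equiv.refl (Fin c))).trans finSumFinEquiv)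
      ((Equiv.sumCongr finSumFinEquiv (Equiv.refl (Fin c))).trans finSumFinEquiv)
      (Matrix.fromBlocks (Matrix.fromBlocks C 0 0 C') 0 0 C''))
    (hg : g.det = 1) (hh : h.det = 1) (he : A * h * g = g * h) : GM (f ::ₘ f' ::ₘ f'' ::ₘ 0) := by
  subst hC hC' hC'' hA
  let fam : (Unit ⊕ Unit) ⊕ Unit → F[X] := Sum.elim (Sum.elim (fun _ => f) (fun _ => f')) fun _ => f''
  have h1 : Sim (opFam fun i : Unit ⊕ Unit => fam (Sum.inl i))
      (Matrix.toLin' (Matrix.fromBlocks (comp f a) 0 0 (comp f' b))) :=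
    (opFam_sum _).trans ((((opFam_unique (fun _ : Unit => f)).trans (comp_sim hf hfd)).prod
      ((opFam_unique (fun _ : Unit => f')).trans (comp_sim hf' hfd'))).trans (toLin'_diag_sim _ _))
  have hs : Sim (opFam fam) (Matrix.toLin' (Matrix.reindex
      ((Equiv.sumCongr finSumFinEquiv (Equiv.refl (Fin c))).trans finSumFinEquiv)
      ((Equiv.sumCongr finSumFinEquiv (Equiv.refl (Fin c))).trans finSumFinEquiv)
      (Matrix.fromBlocks (Matrix.fromBlocks (comp f a) 0 0 (comp f' b)) 0 0 (comp f'' c)))) :=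
    (opFam_sum fam).trans ((h1.prod ((opFam_unique (fun _ : Unit => f'')).trans (comp_sim hf'' hfd''))).trans
      ((toLin'_diag_sim _ _).trans (reindex_sim _ _)))
  exact gm_of_good fam ((good_of_mat _ g h hg hh he).of_sim hs.symm)

/-- The matrix of a word. -/
def wordMat {ι : Type} [Fintype ι] [DecidableEq ι] (g h : Matrix ι ι F) : List Bool → Matrix ι ι F
  | [] => 1
  | true :: w => g * wordMat g h w
  | false :: w => h * wordMat g h w

/-- A pair whose words span all matrices is irreducible. -/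
theorem irreducible_of_words {ι : Type} [Fintype ι] [DecidableEq ι] {N : ℕ} (g h : Matrix ι ι F)
    (w : Fin N → List Bool) (c : ι → ι → Fin N → F)
    (hc : ∀ i j, ∑ k, c i j k • wordMat g h (w k) = Matrix.single i j 1) (W : Submodule F (ι → F))
    (hg : ∀ v ∈ W, g *ᵥ v ∈ W) (hh : ∀ v ∈ W, h *ᵥ v ∈ W) : W = ⊥ ∨ W = ⊤ := by
  by_cases hW : W = ⊥
  · exact Or.inl hW
  right
  obtain ⟨v, hv, hv0⟩ := Submodule.exists_mem_ne_zero_of_ne_bot hW
  obtain ⟨j, hj⟩ := Function.ne_iff.1 hv0
  have hwm : ∀ l : List Bool, wordMat g h l *ᵥ v ∈ W := by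
    intro l
    induction l with
    | nil => rwa [wordMat, Matrix.one_mulVec]
    | cons b l ih =>
      cases b
      · rw [wordMat, ← Matrix.mulVec_mulVec]; exact hh _ ih
      · rw [wordMat, ← Matrix.mulVec_mulVec]; exact hg _ ih
  rw [eq_top_iff]
  intro u _
  rw [pi_eq_sum_univ' u]
  refine sum_mem fun i _ => W.smul_mem _ ?_
  have h1 : Matrix.single i j (1 : F) *ᵥ v ∈ W := by
    rw [← hc, Matrix.sum_mulVec]
    exact sum_mem fun k _ => by rw [Matrix.smul_mulVec]; exact W.smul_mem _ (hwm _)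
  have h2 : Matrix.single i j (1 : F) *ᵥ v = v j • (Pi.single i (1 : F) : ι → F) := by
    funext a
    simp [Matrix.mulVec, dotProduct, Matrix.single_apply, Pi.single_apply, ite_and, eq_comm (a := a)]
  rw [h2] at h1
  exact (W.smul_mem_iff hj).1 h1

theorem comp_quad (a b : F) : comp (X ^ 2 + C a * X + C b) 2 = !![0, -b; 1, -a] := by
  ext i j
  fin_cases i <;> fin_cases j <;> simp [comp]

theorem quad_monic (a b : F) : (X ^ 2 + C a * X + C b).Monic := by
  monicity!

theorem quad_natDegree (a b : F) : (X ^ 2 + C a * X + C b).natDegree = 2 := by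
  compute_degree!

theorem quad_dv (a b : F) : dv (X ^ 2 + C a * X + C b) = b := by
  rw [dv, quad_natDegree]
  simp

theorem comp_line (b : F) : comp (X + C b) 1 = !![-b] := by
  ext i j
  fin_cases i
  fin_cases j
  simp [comp]

theorem natDegree_shift (k : ℕ) : ((X + C (1 : F)) ^ k).natDegree = k := by
  rw [(monic_X_add_C _).natDegree_pow, natDegree_X_add_C, mul_one]

theorem comp_shift {p : ℕ} [Fact p.Prime] (k : ℕ) :
    comp ((X + C (1 : ZMod p)) ^ k) k =
      Matrix.of fun i j : Fin k => if (j : ℕ) + 1 = k then -(Nat.choose k i : ZMod p) else if (i : ℕ) = (j : ℕ) + 1 then 1 else 0 := by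
  ext i j
  simp only [comp, Matrix.of_apply]
  rw [coeff_X_add_C_pow, one_pow, one_mul]

end Cfsg.Lib.Linear.SLComm
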