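import Cfsg.Agent.Lib.Linear.SLCommutator.SmallTables
import Cfsg.Agent.Lib.Linear.SLCommutator.AtLeastFour

/-!
# Commutators over two and three elements

A primary family of determinant one is a commutator unless it is a single quadratic with a double root.
-/

set_option autoImplicit false
set_option linter.unusedSectionVars false

universe u

namespace Cfsg.Lib.Linear.SLComm

open Polynomial Module

section General

variable {F : Type u} [Field F]

theorem good_of_gm {f : F[X]} (h : GM (f ::ₘ 0)) : Good (rt f) :=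
  (h.good (fun _ : Unit => f) rfl).of_sim (opFam_unique (fun _ : Unit => f))

theorem gm_each {S : Multiset F[X]} (hm : ∀ f ∈ S, f.Monic) (h : ∀ f ∈ S, GM (f ::ₘ 0)) : GM S := by
  induction S using Multiset.induction_on with
  | empty => exact gm_zero
  | cons a S ih =>
    rw [← Multiset.singleton_add]
    exact gm_add (fun f hf => by rw [Multiset.mem_singleton.1 hf]; exact hm a (Multiset.mem_cons_self _ _))
      (fun f hf => hm f (Multiset.mem_cons_of_mem hf)) (h a (Multiset.mem_cons_self _ _))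
      (ih (fun f hf => hm f (Multiset.mem_cons_of_mem hf)) fun f hf => h f (Multiset.mem_cons_of_mem hf))

theorem gm_pairs : ∀ S : Multiset F[X], (∀ f ∈ S, f.Monic) → (∀ a ∈ S, ∀ b ∈ S, GM (a ::ₘ b ::ₘ 0)) →
    Even (Multiset.card S) → GM S := by
  intro S
  induction hn : Multiset.card S using Nat.strong_induction_on generalizing S with
  | _ n IH =>
  intro hm h he
  subst hn
  rcases Multiset.empty_or_exists_mem S with rfl | ⟨a, ha⟩
  · exact gm_zero
  obtain ⟨S₁, rfl⟩ := Multiset.exists_cons_of_mem ha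
  rcases Multiset.empty_or_exists_mem S₁ with rfl | ⟨b, hb⟩
  · simp at he
  obtain ⟨S₂, rfl⟩ := Multiset.exists_cons_of_mem hb
  simp only [Multiset.card_cons] at he IH
  have e : a ::ₘ b ::ₘ S₂ = (a ::ₘ b ::ₘ 0) + S₂ := by
    rw [Multiset.cons_add, Multiset.cons_add, zero_add]
  have hsub : ∀ f ∈ S₂, f ∈ a ::ₘ b ::ₘ S₂ := fun f hf =>
    Multiset.mem_cons_of_mem (Multiset.mem_cons_of_mem hf)
  rw [e]
  exact gm_add (fun f hf => hm f (e ▸ Multiset.mem_add.2 (Or.inl hf))) (fun f hf => hm f (hsub f hf))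
    (h a (Multiset.mem_cons_self _ _) b (Multiset.mem_cons_of_mem (Multiset.mem_cons_self _ _)))
    (IH _ (by omega) S₂ rfl (fun f hf => hm f (hsub f hf)) (fun x hx y hy => h x (hsub x hx) y (hsub y hy))
      (by obtain ⟨k, hk⟩ := he; exact ⟨k - 1, by omega⟩))

theorem gm_two_or_three {S : Multiset F[X]} (hm : ∀ f ∈ S, f.Monic) (h2 : ∀ a ∈ S, ∀ b ∈ S, GM (a ::ₘ b ::ₘ 0))
    (h3 : ∀ a ∈ S, ∀ b ∈ S, ∀ c ∈ S, GM (a ::ₘ b ::ₘ c ::ₘ 0)) (hc : Multiset.card S ≠ 1) : GM S := by
  rcases Nat.even_or_odd (Multiset.card S) with he | he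
  · exact gm_pairs S hm h2 he
  obtain ⟨a, ha⟩ := Multiset.card_pos_iff_exists_mem.1 he.pos
  obtain ⟨S₁, rfl⟩ := Multiset.exists_cons_of_mem ha
  rcases Multiset.empty_or_exists_mem S₁ with rfl | ⟨b, hb⟩
  · simp at hc
  obtain ⟨S₂, rfl⟩ := Multiset.exists_cons_of_mem hb
  rcases Multiset.empty_or_exists_mem S₂ with rfl | ⟨c, hc'⟩
  · obtain ⟨k, hk⟩ := he
    simp only [Multiset.card_cons, Multiset.card_zero] at hk
    omega
  obtain ⟨S₃, rfl⟩ := Multiset.exists_cons_of_mem hc'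
  have e : a ::ₘ b ::ₘ c ::ₘ S₃ = (a ::ₘ b ::ₘ c ::ₘ 0) + S₃ := by
    rw [Multiset.cons_add, Multiset.cons_add, Multiset.cons_add, zero_add]
  have hsub : ∀ f ∈ S₃, f ∈ a ::ₘ b ::ₘ c ::ₘ S₃ := fun f hf =>
    Multiset.mem_cons_of_mem (Multiset.mem_cons_of_mem (Multiset.mem_cons_of_mem hf))
  rw [e]
  refine gm_add (fun f hf => hm f (e ▸ Multiset.mem_add.2 (Or.inl hf))) (fun f hf => hm f (hsub f hf))
    (h3 a ha b (Multiset.mem_cons_of_mem (Multiset.mem_cons_self _ _)) c
      (Multiset.mem_cons_of_mem (Multiset.mem_cons_of_mem (Multiset.mem_cons_self _ _))))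
    (gm_pairs S₃ (fun f hf => hm f (hsub f hf)) (fun x hx y hy => h2 x (hsub x hx) y (hsub y hy)) ?_)
  obtain ⟨k, hk⟩ := he
  simp only [Multiset.card_cons] at hk
  exact ⟨k - 1, by omega⟩

/-- Assembling a family from small pieces. -/
theorem gm_assemble (bad : F[X] → Prop) {S : Multiset F[X]} (hm : ∀ f ∈ S, f.Monic) (hd : (S.map dv).prod = 1)
    (hpm : ∀ f ∈ S, dv f = 1 ∨ dv f = -1) (hbad : ∀ f ∈ S, bad f → dv f = 1)
    (hA : ∀ a ∈ S, dv a = 1 → ¬bad a → GM (a ::ₘ 0))
    (hJA : ∀ j ∈ S, bad j → ∀ a ∈ S, dv a = 1 → ¬bad a → GM (j ::ₘ a ::ₘ 0))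
    (hJJ : ∀ j ∈ S, bad j → ∀ k ∈ S, bad k → GM (j ::ₘ k ::ₘ 0))
    (hJJJ : ∀ j ∈ S, bad j → ∀ k ∈ S, bad k → ∀ l ∈ S, bad l → GM (j ::ₘ k ::ₘ l ::ₘ 0))
    (hB : ∀ a ∈ S, dv a ≠ 1 → ∀ b ∈ S, dv b ≠ 1 → GM (a ::ₘ b ::ₘ 0))
    (hJB : ∀ j ∈ S, bad j → ∀ a ∈ S, dv a ≠ 1 → ∀ b ∈ S, dv b ≠ 1 → GM (j ::ₘ a ::ₘ b ::ₘ 0))
    (hne : ∀ j, bad j → S ≠ j ::ₘ 0) : GM S := by
  classical
  obtain ⟨R, hR⟩ : ∃ R, R = S.filter bad := ⟨_, rfl⟩
  obtain ⟨A, hAd⟩ : ∃ A, A = (S.filter fun f => ¬bad f).filter fun f => dv f = 1 := ⟨_, rfl⟩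
  obtain ⟨B, hBd⟩ : ∃ B, B = (S.filter fun f => ¬bad f).filter fun f => ¬dv f = 1 := ⟨_, rfl⟩
  have hS : S = R + (A + B) := by
    rw [hR, hAd, hBd, Multiset.filter_add_not, Multiset.filter_add_not]
  have mR : ∀ f ∈ R, f ∈ S ∧ bad f := fun f hf => by rw [hR] at hf; exact Multiset.mem_filter.1 hf
  have mA : ∀ f ∈ A, f ∈ S ∧ ¬bad f ∧ dv f = 1 := fun f hf => by
    rw [hAd, Multiset.mem_filter, Multiset.mem_filter] at hf; exact ⟨hf.1.1, hf.1.2, hf.2⟩
  have mB : ∀ f ∈ B, f ∈ S ∧ ¬dv f = 1 := fun f hf => by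
    rw [hBd, Multiset.mem_filter, Multiset.mem_filter] at hf; exact ⟨hf.1.1, hf.2⟩
  have heven : Even (Multiset.card B) := by
    rcases Nat.even_or_odd (Multiset.card B) with h | h
    · exact h
    exfalso
    obtain ⟨b, hb⟩ := Multiset.card_pos_iff_exists_mem.1 h.pos
    have hb1 : dv b = -1 := (hpm b (mB b hb).1).resolve_left (mB b hb).2
    have hone : ∀ T : Multiset F[X], (∀ f ∈ T, dv f = 1) → (T.map dv).prod = 1 := fun T hT => by
      rw [Multiset.map_congr rfl hT]; simp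
    rw [hS, Multiset.map_add, Multiset.map_add, Multiset.prod_add, Multiset.prod_add,
      hone R (fun f hf => hbad f (mR f hf).1 (mR f hf).2), hone A (fun f hf => (mA f hf).2.2), one_mul, one_mul,
      Multiset.map_congr rfl (g := fun _ => (-1 : F)) (fun f hf => (hpm f (mB f hf).1).resolve_left (mB f hf).2),
      Multiset.map_const', Multiset.prod_replicate, h.neg_one_pow] at hd
    exact (mB b hb).2 (hb1.trans hd)
  have gA : ∀ T ≤ A, GM T := fun T hT => gm_each (fun f hf => hm f (mA f (Multiset.mem_of_le hT hf)).1)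
    fun f hf => hA f (mA f (Multiset.mem_of_le hT hf)).1 (mA f (Multiset.mem_of_le hT hf)).2.2
      (mA f (Multiset.mem_of_le hT hf)).2.1
  have gB : GM B := gm_pairs B (fun f hf => hm f (mB f hf).1)
    (fun a ha b hb => hB a (mB a ha).1 (mB a ha).2 b (mB b hb).1 (mB b hb).2) heven
  have hmon : ∀ T : Multiset F[X], (∀ f ∈ T, f ∈ S) → ∀ f ∈ T, f.Monic := fun T hT f hf => hm f (hT f hf)
  by_cases h1 : Multiset.card R = 1
  swap
  · rw [hS]
    refine gm_add (hmon _ fun f hf => (mR f hf).1) (hmon _ fun f hf => ?_) ?_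
      (gm_add (hmon _ fun f hf => (mA f hf).1) (hmon _ fun f hf => (mB f hf).1) (gA A le_rfl) gB)
    · rcases Multiset.mem_add.1 hf with h | h
      · exact (mA f h).1
      · exact (mB f h).1
    · exact gm_two_or_three (hmon _ fun f hf => (mR f hf).1)
        (fun a ha b hb => hJJ a (mR a ha).1 (mR a ha).2 b (mR b hb).1 (mR b hb).2)
        (fun a ha b hb c hc => hJJJ a (mR a ha).1 (mR a ha).2 b (mR b hb).1 (mR b hb).2 c (mR c hc).1 (mR c hc).2) h1
  obtain ⟨j, hj⟩ := Multiset.card_eq_one.1 h1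
  have hjS := mR j (by rw [hj]; exact Multiset.mem_singleton_self j)
  rcases Multiset.empty_or_exists_mem A with hA0 | ⟨a, ha⟩
  · rcases Multiset.empty_or_exists_mem B with hB0 | ⟨b, hb⟩
    · exfalso
      refine hne j hjS.2 ?_
      rw [hS, hj, hA0, hB0, add_zero, add_zero]
      rfl
    obtain ⟨B₁, rfl⟩ := Multiset.exists_cons_of_mem hb
    rcases Multiset.empty_or_exists_mem B₁ with rfl | ⟨c, hc⟩
    · simp at heven
    obtain ⟨B₂, rfl⟩ := Multiset.exists_cons_of_mem hc
    have hbS := mB b (Multiset.mem_cons_self _ _)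
    have hcS := mB c (Multiset.mem_cons_of_mem (Multiset.mem_cons_self _ _))
    have hB2 : ∀ f ∈ B₂, f ∈ S ∧ ¬dv f = 1 := fun f hf =>
      mB f (Multiset.mem_cons_of_mem (Multiset.mem_cons_of_mem hf))
    have e : S = (j ::ₘ b ::ₘ c ::ₘ 0) + B₂ := by
      rw [hS, hj, hA0, zero_add, Multiset.cons_add, Multiset.cons_add, Multiset.cons_add, zero_add,
        Multiset.singleton_add]
    rw [e]
    refine gm_add (fun f hf => hm f (by rw [e]; exact Multiset.mem_add.2 (Or.inl hf))) (fun f hf => hm f (hB2 f hf).1)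
      (hJB j hjS.1 hjS.2 b hbS.1 hbS.2 c hcS.1 hcS.2)
      (gm_pairs B₂ (fun f hf => hm f (hB2 f hf).1)
        (fun x hx y hy => hB x (hB2 x hx).1 (hB2 x hx).2 y (hB2 y hy).1 (hB2 y hy).2) ?_)
    obtain ⟨k, hk⟩ := heven
    simp only [Multiset.card_cons] at hk
    exact ⟨k - 1, by omega⟩
  obtain ⟨A₁, hA₁⟩ := Multiset.exists_cons_of_mem ha
  have e : S = (j ::ₘ a ::ₘ 0) + (A₁ + B) := by
    rw [hS, hj, hA₁, Multiset.singleton_add, Multiset.cons_add, Multiset.cons_add, Multiset.cons_add, zero_add]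
  rw [e]
  refine gm_add (fun f hf => hm f (by rw [e]; exact Multiset.mem_add.2 (Or.inl hf)))
    (fun f hf => hm f (by rw [e]; exact Multiset.mem_add.2 (Or.inr hf)))
    (hJA j hjS.1 hjS.2 a (mA a ha).1 (mA a ha).2.2 (mA a ha).2.1)
    (gm_add (fun f hf => hm f (mA f (hA₁ ▸ Multiset.mem_cons_of_mem hf)).1) (fun f hf => hm f (mB f hf).1)
      (gA A₁ (hA₁ ▸ Multiset.le_cons_self _ _)) gB)

theorem eq_quad {f : F[X]} (hf : f.Monic) (hd : f.natDegree = 2) :
    f = X ^ 2 + C (f.coeff 1) * X + C (f.coeff 0) := by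
  conv_lhs => rw [hf.as_sum, hd]
  simp [Finset.sum_range_succ]
  ring

theorem coprime_or_same {f g : F[X]} (hf : IsPrimary f) (hg : IsPrimary g) :
    IsCoprime f g ∨ ∃ (p : F[X]) (a b : ℕ), p.Monic ∧ Irreducible p ∧ 1 ≤ a ∧ 1 ≤ b ∧ f = p ^ a ∧ g = p ^ b := by
  obtain ⟨p, a, hp, hpi, ha, rfl⟩ := hf
  obtain ⟨r, b, hr, hri, hb, rfl⟩ := hg
  by_cases h : p = r
  · subst h
    exact Or.inr ⟨p, a, b, hp, hpi, ha, hb, rfl, rfl⟩
  · exact Or.inl (coprime_primes hp hpi hr hri h a b)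

theorem coprime_of_deg_eq {f g : F[X]} (hf : IsPrimary f) (hg : IsPrimary g) (hd : f.natDegree = g.natDegree)
    (hne : f ≠ g) : IsCoprime f g := by
  rcases coprime_or_same hf hg with h | ⟨p, a, b, hp, hpi, -, -, rfl, rfl⟩
  · exact h
  · exfalso
    rw [hp.natDegree_pow, hp.natDegree_pow] at hd
    exact hne (by rw [Nat.eq_of_mul_eq_mul_right hpi.natDegree_pos hd])

theorem dv_linear {f : F[X]} (hf : f.Monic) (h1 : f.natDegree = 1) : f = X - C (dv f) := by
  rw [dv, h1, pow_one, neg_one_mul, map_neg, sub_neg_eq_add]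
  exact hf.eq_X_add_C h1

theorem gm_large_single [Fintype F] {f : F[X]} (hf : f.Monic) (h3 : 3 ≤ f.natDegree) (hd : dv f = 1) :
    GM (f ::ₘ 0) := by
  have h := gm_of_large (fun _ : Unit => f) (fun _ => hf) (fun _ => by omega) 1 (fun _ => 1)
    (fun _ => one_ne_zero) (fun _ => by simp [hd]) (fun _ hh => by omega) () h3
  exact h

theorem gm_id_single [Fintype F] {f : F[X]} (hf : f.Monic) (h1 : f.natDegree = 1) (hd : dv f = 1) :
    GM (f ::ₘ 0) := by
  rw [dv_linear hf h1, hd]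
  exact gm_scalar (lam := (1 : F)) le_rfl (one_pow 1) fun j hj hj' => by omega

end General

section Two

theorem zmod_two_unit : ∀ a : ZMod 2, a ≠ 0 → a = 1 := by decide

theorem shift_sq_two : (X + C 1 : (ZMod 2)[X]) ^ 2 = X ^ 2 + C 0 * X + C 1 := by
  have h : (C 2 : (ZMod 2)[X]) = C 0 := congrArg C (by decide)
  rw [← h, show (2 : ZMod 2) = 1 + 1 from rfl, map_add, map_one]
  ring

/-- Over two elements only a single unipotent block of size two is excluded. -/
theorem gm_two (S : Multiset (ZMod 2)[X]) (hP : ∀ f ∈ S, IsPrimary f) (hd : (S.map dv).prod = 1)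
    (hne : ∀ f : (ZMod 2)[X], f.natDegree = 2 → S ≠ f ::ₘ 0) : GM S := by
  have hd1 : ∀ f ∈ S, dv f = 1 := fun f hf => zmod_two_unit _ (prod_dv_ne_zero hd hf)
  let J : (ZMod 2)[X] := X ^ 2 + C 0 * X + C 1
  have single : ∀ a : (ZMod 2)[X], a.Monic → 1 ≤ a.natDegree → dv a = 1 → a ≠ J → GM (a ::ₘ 0) := by
    intro a ha hdeg hda hne'
    rcases (show a.natDegree = 1 ∨ a.natDegree = 2 ∨ 3 ≤ a.natDegree by omega) with h | h | h
    · exact gm_id_single ha h hda
    · have e := eq_quad ha h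
      rw [e, quad_dv] at hda
      rw [hda] at e
      rcases (show ∀ c : ZMod 2, c = 0 ∨ c = 1 by decide) (a.coeff 1) with hc | hc <;> rw [hc] at e
      · exact absurd e hne'
      · rw [e]; exact gm2_Q
    · exact gm_large_single ha h hda
  refine gm_assemble (fun f => f = J) (fun f hf => (hP f hf).monic) hd (fun f hf => Or.inl (hd1 f hf))
    (fun f hf _ => hd1 f hf) (fun a ha h1 hb => single a (hP a ha).monic (hP a ha).one_le_natDegree h1 hb)
    (fun j _ hj a ha hda hb => ?_) (fun j _ hj k _ hk => by subst hj hk; exact gm2_JJ)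
    (fun j _ hj k _ hk l _ hl => by subst hj hk hl; exact gm2_JJJ)
    (fun a ha h => absurd (hd1 a ha) h) (fun _ _ _ a ha h => absurd (hd1 a ha) h)
    (fun j hj => hne j (by rw [hj]; exact quad_natDegree _ _))
  subst hj
  obtain ⟨r, b, hrm, hri, hb1, rfl⟩ := hP a ha
  by_cases hr : r = X + C 1
  · subst hr
    rcases (show b = 1 ∨ b = 2 ∨ b = 3 ∨ b = 4 ∨ 5 ≤ b by omega) with rfl | rfl | rfl | rfl | h5
    · rw [pow_one]; exact gm2_JL
    · exact absurd shift_sq_two hb
    · exact gm2_JJ3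
    · exact gm2_JJ4
    · have hsplit : (X + C 1 : (ZMod 2)[X]) ^ b = J * (X + C 1) ^ (b - 2) := by
        show _ = (X ^ 2 + C 0 * X + C 1) * _
        rw [← shift_sq_two, ← pow_add]
        congr 1
        omega
      rw [hsplit]
      refine gm2_JJ_ext ((monic_X_add_C _).pow _) (good_of_gm (gm_large_single ((monic_X_add_C _).pow _) ?_ ?_))
      · rw [natDegree_shift]; omega
      · rw [hsplit, dv_mul (quad_monic _ _) ((monic_X_add_C _).pow _), quad_dv, one_mul] at hda
        exact hda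
  · have hcop : IsCoprime J (r ^ b) := by
      show IsCoprime (X ^ 2 + C 0 * X + C 1) (r ^ b)
      rw [← shift_sq_two]
      exact coprime_primes (monic_X_add_C _) (irreducible_of_degree_eq_one (degree_X_add_C _)) hrm hri
        (fun h => hr h.symm) 2 b
    refine gm_merge (quad_monic _ _) (hrm.pow b) hcop
      (gm_large_single ((quad_monic _ _).mul (hrm.pow b)) ?_ ?_)
    · rw [(quad_monic _ _).natDegree_mul (hrm.pow b), quad_natDegree]
      have := (hP _ ha).one_le_natDegree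
      omega
    · rw [dv_mul (quad_monic _ _) (hrm.pow b), quad_dv, one_mul, hda]

end Two

section Three

theorem zmod_three_unit : ∀ a : ZMod 3, a ≠ 0 → a = 1 ∨ a = -1 := by decide

/-- A family with a member of degree at least three whose quadratics have constant one. -/
theorem gm_large_three {S : Multiset (ZMod 3)[X]} (hm : ∀ f ∈ S, f.Monic) (hdeg : ∀ f ∈ S, 1 ≤ f.natDegree)
    (hd : (S.map dv).prod = 1) (h2 : ∀ f ∈ S, f.natDegree = 2 → dv f = 1)
    (h3 : ∃ f ∈ S, 3 ≤ f.natDegree) : GM S := by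
  classical
  obtain ⟨l, rfl⟩ : ∃ l : List (ZMod 3)[X], (l : Multiset (ZMod 3)[X]) = S := ⟨S.toList, S.coe_toList⟩
  obtain ⟨f, hf, hf3⟩ := h3
  obtain ⟨i₀, hi₀, rfl⟩ := List.mem_iff_getElem.1 (Multiset.mem_coe.1 hf)
  haveI : Nonempty (Fin l.length) := ⟨⟨i₀, hi₀⟩⟩
  have hmem : ∀ i : Fin l.length, l[i] ∈ (l : Multiset (ZMod 3)[X]) := fun i =>
    Multiset.mem_coe.2 (List.getElem_mem _)
  have hprod : ∏ i : Fin l.length, dv l[i] = 1 := by
    rw [← hd, ← map_univ_fin l, Multiset.map_map]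
    rfl
  obtain ⟨σ, x, hx, hσ⟩ := exists_chain (fun i : Fin l.length => dv l[i])
    (fun i => prod_dv_ne_zero hd (hmem i)) hprod
  have h := gm_of_large (fun i : Fin l.length => l[i]) (fun i => hm _ (hmem i)) (fun i => hdeg _ (hmem i)) σ x hx hσ
    (fun i hi => ⟨-x i, neg_ne_zero.2 (hx i), (show ∀ a : ZMod 3, a ≠ 0 → -a ≠ a by decide) _ (hx i), by
      rw [← hσ i, h2 _ (hmem i) hi, mul_one]
      exact (show ∀ a : ZMod 3, a ≠ 0 → -a ≠ a by decide) _ (hx i)⟩) ⟨i₀, hi₀⟩ hf3
  rwa [map_univ_fin] at h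

/-- The blocks excluded on their own. -/
def BadThree (f : (ZMod 3)[X]) : Prop := f = X ^ 2 + C 1 * X + C 1 ∨ f = X ^ 2 + C 2 * X + C 1

theorem BadThree.natDegree_eq {f : (ZMod 3)[X]} : BadThree f → f.natDegree = 2 := by
  rintro (rfl | rfl) <;> exact quad_natDegree _ _

theorem BadThree.dv_eq {f : (ZMod 3)[X]} : BadThree f → dv f = 1 := by
  rintro (rfl | rfl) <;> exact quad_dv _ _

theorem quad_one_three {f : (ZMod 3)[X]} (hf : f.Monic) (h : f.natDegree = 2) (hd : dv f = 1)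
    (hb : ¬BadThree f) : f = X ^ 2 + C 0 * X + C 1 := by
  have e := eq_quad hf h
  rw [e, quad_dv] at hd
  rw [hd] at e
  rcases (show ∀ c : ZMod 3, c = 0 ∨ c = 1 ∨ c = 2 by decide) (f.coeff 1) with hc | hc | hc <;> rw [hc] at e
  · exact e
  · exact absurd (Or.inl e) hb
  · exact absurd (Or.inr e) hb

theorem quad_neg_three {f : (ZMod 3)[X]} (hf : IsPrimary f) (h : f.natDegree = 2) (hd : dv f ≠ 1)
    (h0 : dv f ≠ 0) : (f = X ^ 2 + C 1 * X + C 2 ∨ f = X ^ 2 + C 2 * X + C 2) ∧ Irreducible f := by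
  have hirr : Irreducible f := by
    obtain ⟨p, e, hp, hpi, he, rfl⟩ := hf
    rw [hp.natDegree_pow] at h
    have := hpi.natDegree_pos
    rcases (show e = 1 ∨ e = 2 ∨ 3 ≤ e by omega) with rfl | rfl | h3
    · rwa [pow_one]
    · exfalso
      rw [pow_two, dv_mul hp hp] at hd h0
      exact hd ((show ∀ a : ZMod 3, a ≠ 0 → a * a = 1 by decide) _ (left_ne_zero_of_mul h0))
    · exfalso
      have := Nat.le_mul_of_pos_right e hpi.natDegree_pos
      omega
  refine ⟨?_, hirr⟩
  have e := eq_quad hf.monic h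
  have hc : f.coeff 0 = 2 := by
    rw [e, quad_dv] at hd h0
    exact (show ∀ a : ZMod 3, a ≠ 1 → a ≠ 0 → a = 2 by decide) _ hd h0
  rw [hc] at e
  rcases (show ∀ c : ZMod 3, c = 0 ∨ c = 1 ∨ c = 2 by decide) (f.coeff 1) with hc1 | hc1 | hc1 <;> rw [hc1] at e
  · exfalso
    have hroot : f.IsRoot 1 := by
      rw [IsRoot, e]
      simp
      decide
    have := Polynomial.degree_eq_one_of_irreducible_of_root hirr hroot
    rw [degree_eq_natDegree hf.monic.ne_zero, h] at this
    exact absurd this (by decide)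
  · exact Or.inl e
  · exact Or.inr e

/-- Two quadratics of constant one. -/
theorem gm_two_quads {f g : (ZMod 3)[X]} (hf : f.Monic) (hg : g.Monic) (hf2 : f.natDegree = 2)
    (hg2 : g.natDegree = 2) (hfd : dv f = 1) (hgd : dv g = 1) : GM (f ::ₘ g ::ₘ 0) := by
  refine gm_chain (F := ZMod 3) (![f, g] : Fin 2 → (ZMod 3)[X]) ?_ ?_ 1 ![2, 2] ![1, 1] (by decide) (by decide) ?_ ?_ ?_
    (by decide)
  · exact Fin.forall_fin_two.2 ⟨hf, hg⟩
  · exact Fin.forall_fin_two.2 ⟨show 1 ≤ f.natDegree by omega, show 1 ≤ g.natDegree by omega⟩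
  · exact Fin.forall_fin_two.2 ⟨show (1 : ZMod 3) * dv f = 1 by rw [hfd, mul_one],
      show (1 : ZMod 3) * dv g = 1 by rw [hgd, mul_one]⟩
  · exact Fin.forall_fin_two.2 ⟨fun h => by simp at h; omega, fun h => by simp at h; omega⟩
  · exact fun i _ => (show ∀ i : Fin 2, (![2, 2] : Fin 2 → ZMod 3) i ≠ ![1, 1] i ∧
      (![2, 2] : Fin 2 → ZMod 3) i ≠ ![1, 1] ((1 : Equiv.Perm (Fin 2)) i) by decide) i

/-- An excluded block and the identity of rank one. -/
theorem gm_quad_line {f g : (ZMod 3)[X]} (hf : f.Monic) (hg : g.Monic) (hf2 : f.natDegree = 2)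
    (hg1 : g.natDegree = 1) (hfd : dv f = 1) (hgd : dv g = 1) : GM (f ::ₘ g ::ₘ 0) := by
  refine gm_chain (F := ZMod 3) (![f, g] : Fin 2 → (ZMod 3)[X]) ?_ ?_ 1 ![2, 1] ![1, 2] (by decide) (by decide) ?_ ?_ ?_
    (by decide)
  · exact Fin.forall_fin_two.2 ⟨hf, hg⟩
  · exact Fin.forall_fin_two.2 ⟨show 1 ≤ f.natDegree by omega, show 1 ≤ g.natDegree by omega⟩
  · exact Fin.forall_fin_two.2 ⟨show (1 : ZMod 3) * dv f = 1 by rw [hfd, mul_one],
      show (2 : ZMod 3) * dv g = 2 by rw [hgd, mul_one]⟩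
  · exact Fin.forall_fin_two.2 ⟨fun h => by simp at h; omega, fun _ => rfl⟩
  · exact Fin.forall_fin_two.2 ⟨fun _ => (show (2 : ZMod 3) ≠ 1 ∧ (2 : ZMod 3) ≠ 1 by decide),
      fun h => by simp at h; omega⟩

/-- An excluded block and two scalars minus one. -/
theorem gm_quad_lines {f g k : (ZMod 3)[X]} (hf : f.Monic) (hg : g.Monic) (hk : k.Monic) (hf2 : f.natDegree = 2)
    (hg1 : g.natDegree = 1) (hk1 : k.natDegree = 1) (hfd : dv f = 1) (hgd : dv g = 2) (hkd : dv k = 2) :
    GM (f ::ₘ g ::ₘ k ::ₘ 0) := by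
  have h3 : ∀ {P : Fin 3 → Prop}, P 0 → P 1 → P 2 → ∀ i, P i := fun {P} a b c i => by
    fin_cases i <;> assumption
  refine gm_chain (F := ZMod 3) (![f, g, k] : Fin 3 → (ZMod 3)[X]) ?_ ?_ (Equiv.swap 1 2) ![2, 1, 1] ![1, 1, 2]
    (by decide) (by decide) ?_ ?_ ?_ (by decide)
  · exact h3 hf hg hk
  · exact h3 (show 1 ≤ f.natDegree by omega) (show 1 ≤ g.natDegree by omega) (show 1 ≤ k.natDegree by omega)
  · exact h3 (show (1 : ZMod 3) * dv f = 1 by rw [hfd, mul_one]) (show (1 : ZMod 3) * dv g = 2 by rw [hgd, one_mul])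
      (show (2 : ZMod 3) * dv k = 1 by rw [hkd]; decide)
  · exact h3 (fun h => by simp at h; omega) (fun _ => rfl) (fun _ => rfl)
  · exact h3 (fun _ => (by decide : (2 : ZMod 3) ≠ 1 ∧ (2 : ZMod 3) ≠ 1)) (fun h => by simp at h; omega)
      (fun h => by simp at h; omega)

/-- Over three elements only the single blocks of order three or six in rank two are excluded. -/
theorem gm_three (S : Multiset (ZMod 3)[X]) (hP : ∀ f ∈ S, IsPrimary f) (hd : (S.map dv).prod = 1)
    (hne : ∀ f : (ZMod 3)[X], f.natDegree = 2 → S ≠ f ::ₘ 0) : GM S := by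
  have hm : ∀ f ∈ S, f.Monic := fun f hf => (hP f hf).monic
  have hdeg : ∀ f ∈ S, 1 ≤ f.natDegree := fun f hf => (hP f hf).one_le_natDegree
  have hpm : ∀ f ∈ S, dv f = 1 ∨ dv f = -1 := fun f hf => zmod_three_unit _ (prod_dv_ne_zero hd hf)
  have hneg : ∀ f ∈ S, dv f ≠ 1 → dv f = 2 := fun f hf h => ((hpm f hf).resolve_left h).trans (by decide)
  have h22 : (2 : ZMod 3) * 2 = 1 := by decide
  have single : ∀ a : (ZMod 3)[X], a.Monic → 1 ≤ a.natDegree → dv a = 1 → ¬BadThree a → GM (a ::ₘ 0) := by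
    intro a ha hdeg hda hb
    rcases (show a.natDegree = 1 ∨ a.natDegree = 2 ∨ 3 ≤ a.natDegree by omega) with h | h | h
    · exact gm_id_single ha h hda
    · rw [quad_one_three ha h hda hb]; exact gm3_Q0
    · exact gm_large_single ha h hda
  -- a quadratic with constant minus one and another member with constant minus one
  have pairQ : ∀ a ∈ S, ∀ b ∈ S, a.natDegree = 2 → dv a ≠ 1 → dv b ≠ 1 → GM (a ::ₘ b ::ₘ 0) := by
    intro a ha b hb ha2 hda hdb
    obtain ⟨hshape, hai⟩ := quad_neg_three (hP a ha) ha2 hda (prod_dv_ne_zero hd ha)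
    rcases coprime_or_same (hP a ha) (hP b hb) with hcop | ⟨p, i, j, hp, hpi, hi, hj, hap, hbp⟩
    · refine gm_merge (hm a ha) (hm b hb) hcop (gm_large_single ((hm a ha).mul (hm b hb)) ?_ ?_)
      · rw [(hm a ha).natDegree_mul (hm b hb)]
        have := hdeg b hb
        omega
      · rw [dv_mul (hm a ha) (hm b hb), hneg a ha hda, hneg b hb hdb, h22]
    · have hbj : b = a ^ j := by
        rw [hbp, hap, ← pow_mul]
        obtain rfl : i = 1 := by
          rcases (show i = 1 ∨ 2 ≤ i by omega) with h | h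
          · exact h
          · exfalso
            rw [hap] at hai
            exact (not_irreducible_pow (by omega)) hai
        rw [one_mul]
      rcases (show j = 1 ∨ j = 2 ∨ 3 ≤ j by omega) with rfl | rfl | hj3
      · rw [hbj, pow_one]
        rcases hshape with rfl | rfl
        · exact gm3_h1h1
        · exact gm3_h2h2
      · exfalso
        apply hdb
        rw [hbj, pow_two, dv_mul (hm a ha) (hm a ha), hneg a ha hda, h22]
      · have hgm : (a ^ (j - 1)).Monic := (hm a ha).pow _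
        have hbs : b = a * a ^ (j - 1) := by rw [hbj, ← pow_succ']; congr 1; omega
        have hgd : dv (a ^ (j - 1)) = 1 := by
          have h := hneg b hb hdb
          rw [hbs, dv_mul (hm a ha) hgm, hneg a ha hda] at h
          exact (show ∀ x : ZMod 3, 2 * x = 2 → x = 1 by decide) _ h
        have hgood : Good (rt (a ^ (j - 1))) := good_of_gm (gm_large_single hgm (by
          rw [(hm a ha).natDegree_pow, ha2]; omega) hgd)
        rw [hbs]
        rcases hshape with rfl | rfl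
        · exact gm3_h1h1_ext hgm hgood
        · exact gm3_h2h2_ext hgm hgood
  -- an excluded block, a quadratic with constant minus one and a member of another degree
  have tripleQ : ∀ j ∈ S, BadThree j → ∀ a ∈ S, a.natDegree = 2 → dv a ≠ 1 → ∀ b ∈ S, b.natDegree ≠ 2 →
      dv b ≠ 1 → GM (j ::ₘ a ::ₘ b ::ₘ 0) := by
    intro j hj hjb a ha ha2 hda b hb hb2 hdb
    have hcop : IsCoprime j a := coprime_of_deg_eq (hP j hj) (hP a ha) (by rw [hjb.natDegree_eq, ha2])
      (fun h => hda (h ▸ hjb.dv_eq))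
    have hjam := (hm j hj).mul (hm a ha)
    have hjad : (j * a).natDegree = 4 := by rw [(hm j hj).natDegree_mul (hm a ha), hjb.natDegree_eq, ha2]
    refine gm_merge (hm j hj) (hm a ha) hcop (gm_large_three (fun x hx => ?_) (fun x hx => ?_) ?_ (fun x hx h => ?_)
      ⟨_, Multiset.mem_cons_self _ _, by omega⟩)
    · rcases Multiset.mem_cons.1 hx with rfl | hx
      · exact hjam
      · rw [Multiset.mem_singleton.1 hx]; exact hm b hb
    · rcases Multiset.mem_cons.1 hx with rfl | hx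
      · omega
      · rw [Multiset.mem_singleton.1 hx]; exact hdeg b hb
    · simp [dv_mul (hm j hj) (hm a ha), hjb.dv_eq, hneg a ha hda, hneg b hb hdb, h22]
    · rcases Multiset.mem_cons.1 hx with rfl | hx
      · omega
      · rw [Multiset.mem_singleton.1 hx] at h
        exact absurd h hb2
  refine gm_assemble BadThree hm hd hpm (fun f _ h => h.dv_eq)
    (fun a ha h1 hb => single a (hm a ha) (hdeg a ha) h1 hb) (fun j hj hjb a ha hda _ => ?_)
    (fun j hj hjb k hk hkb => gm_two_quads (hm j hj) (hm k hk) hjb.natDegree_eq hkb.natDegree_eq hjb.dv_eq hkb.dv_eq)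
    ?_ (fun a ha hda b hb hdb => ?_) (fun j hj hjb a ha hda b hb hdb => ?_) (fun j hjb => hne j hjb.natDegree_eq)
  · rcases (show a.natDegree = 1 ∨ a.natDegree = 2 ∨ 3 ≤ a.natDegree from by have := hdeg a ha; omega) with h | h | h
    · exact gm_quad_line (hm j hj) (hm a ha) hjb.natDegree_eq h hjb.dv_eq hda
    · exact gm_two_quads (hm j hj) (hm a ha) hjb.natDegree_eq h hjb.dv_eq hda
    · refine gm_large_three (fun x hx => ?_) (fun x hx => ?_) (by simp [hjb.dv_eq, hda]) (fun x hx _ => ?_)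
        ⟨a, by simp, h⟩ <;> simp at hx <;> rcases hx with rfl | rfl
      exacts [hm _ hj, hm _ ha, hdeg _ hj, hdeg _ ha, hjb.dv_eq, hda]
  · intro j hj hjb k hk hkb l hl hlb
    have hmix : ∀ x ∈ S, BadThree x → ∀ y ∈ S, BadThree y → ∀ z ∈ S, BadThree z → x ≠ y →
        GM (x ::ₘ y ::ₘ z ::ₘ 0) := by
      intro x hx hxb y hy hyb z hz hzb hne'
      have hxy : (x * y).natDegree = 4 := by
        rw [(hm x hx).natDegree_mul (hm y hy), hxb.natDegree_eq, hyb.natDegree_eq]
      refine gm_merge (hm x hx) (hm y hy) (coprime_of_deg_eq (hP x hx) (hP y hy)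
        (by rw [hxb.natDegree_eq, hyb.natDegree_eq]) hne')
        (gm_large_three (fun w hw => ?_) (fun w hw => ?_)
          (by simp [dv_mul (hm x hx) (hm y hy), hxb.dv_eq, hyb.dv_eq, hzb.dv_eq]) (fun w hw _ => ?_)
          ⟨_, Multiset.mem_cons_self _ _, by omega⟩) <;> simp at hw <;> rcases hw with rfl | rfl
      exacts [(hm x hx).mul (hm y hy), hm _ hz, by omega, hdeg _ hz,
        by rw [dv_mul (hm x hx) (hm y hy), hxb.dv_eq, hyb.dv_eq, one_mul], hzb.dv_eq]
    by_cases hjk : j = k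
    · subst hjk
      by_cases hjl : j = l
      · subst hjl
        rcases hjb with rfl | rfl
        · exact gm3_JpJpJp
        · exact gm3_JmJmJm
      · rw [Multiset.cons_swap j l]
        exact hmix j hj hjb l hl hlb j hj hjb hjl
    · exact hmix j hj hjb k hk hkb l hl hlb hjk
  · by_cases ha2 : a.natDegree = 2
    · exact pairQ a ha b hb ha2 hda hdb
    by_cases hb2 : b.natDegree = 2
    · rw [Multiset.cons_swap]
      exact pairQ b hb a ha hb2 hdb hda
    by_cases hbig : 3 ≤ a.natDegree ∨ 3 ≤ b.natDegree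
    · refine gm_large_three (fun x hx => ?_) (fun x hx => ?_) (by simp [hneg a ha hda, hneg b hb hdb, h22])
        (fun x hx hx2 => ?_) ?_
      · simp at hx; rcases hx with rfl | rfl <;> [exact hm _ ha; exact hm _ hb]
      · simp at hx; rcases hx with rfl | rfl <;> [exact hdeg _ ha; exact hdeg _ hb]
      · simp at hx; rcases hx with rfl | rfl <;> omega
      · rcases hbig with h | h
        · exact ⟨a, by simp, h⟩
        · exact ⟨b, by simp, h⟩
    · have := hdeg a ha
      have := hdeg b hb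
      rw [dv_linear (hm a ha) (by omega), hneg a ha hda, dv_linear (hm b hb) (by omega), hneg b hb hdb]
      exact gm_scalar (lam := (2 : ZMod 3)) (n := 2) (by norm_num) (by decide) fun i h1 h2 => by
        obtain rfl : i = 1 := by omega
        decide
  · by_cases ha2 : a.natDegree = 2
    · by_cases hb2 : b.natDegree = 2
      · obtain ⟨hshape, -⟩ := quad_neg_three (hP a ha) ha2 hda (prod_dv_ne_zero hd ha)
        by_cases hab : a = b
        · subst hab
          rw [Multiset.cons_swap j, Multiset.cons_swap j]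
          rcases hshape with rfl | rfl <;> rcases hjb with rfl | rfl
          · exact gm3_h1h1Jp
          · exact gm3_h1h1Jm
          · exact gm3_h2h2Jp
          · exact gm3_h2h2Jm
        · rw [Multiset.cons_swap j, Multiset.cons_swap j]
          refine gm_merge (hm a ha) (hm b hb) (coprime_of_deg_eq (hP a ha) (hP b hb) (by omega) hab) ?_
          have hab4 : (a * b).natDegree = 4 := by rw [(hm a ha).natDegree_mul (hm b hb), ha2, hb2]
          refine gm_large_three (fun w hw => ?_) (fun w hw => ?_)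
            (by simp [dv_mul (hm a ha) (hm b hb), hneg a ha hda, hneg b hb hdb, h22, hjb.dv_eq]) (fun w hw _ => ?_)
            ⟨_, Multiset.mem_cons_self _ _, by omega⟩ <;> simp at hw <;> rcases hw with rfl | rfl
          exacts [(hm a ha).mul (hm b hb), hm _ hj, by omega, hdeg _ hj,
            by rw [dv_mul (hm a ha) (hm b hb), hneg a ha hda, hneg b hb hdb, h22], hjb.dv_eq]
      · exact tripleQ j hj hjb a ha ha2 hda b hb hb2 hdb
    by_cases hb2 : b.natDegree = 2
    · rw [Multiset.cons_swap a b]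
      exact tripleQ j hj hjb b hb hb2 hdb a ha ha2 hda
    by_cases hbig : 3 ≤ a.natDegree ∨ 3 ≤ b.natDegree
    · refine gm_large_three (fun x hx => ?_) (fun x hx => ?_)
        (by simp [hjb.dv_eq, hneg a ha hda, hneg b hb hdb, h22]) (fun x hx hx2 => ?_) ?_
      · simp at hx; rcases hx with rfl | rfl | rfl <;> [exact hm _ hj; exact hm _ ha; exact hm _ hb]
      · simp at hx; rcases hx with rfl | rfl | rfl <;> [exact hdeg _ hj; exact hdeg _ ha; exact hdeg _ hb]
      · simp at hx; rcases hx with rfl | rfl | rfl <;> [exact hjb.dv_eq; omega; omega]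
      · rcases hbig with h | h
        · exact ⟨a, by simp, h⟩
        · exact ⟨b, by simp, h⟩
    · have := hdeg a ha
      have := hdeg b hb
      exact gm_quad_lines (hm j hj) (hm a ha) (hm b hb) hjb.natDegree_eq (by omega) (by omega) hjb.dv_eq
        (hneg a ha hda) (hneg b hb hdb)

end Three

end Cfsg.Lib.Linear.SLComm
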